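import Groth.Agent.EulerPn5.Split
import Groth.Agent.KPull28.Basic
import Groth.Agent.DCat.PullTensor
import Groth.Prelude.Def_PicLoc

/-!
# Restriction of the sheaf of differentials to linear subspaces
-/

set_option autoImplicit false
set_option linter.style.haveILetI false
set_option linter.unusedSectionVars false
set_option backward.isDefEq.respectTransparency.types false
set_option maxHeartbeats 1000000

universe u

open CategoryTheory CategoryTheory.Limits AlgebraicGeometry TopologicalSpace Opposite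
open Groth.Agent.Coherent Groth.Agent.EulerLib Groth.Agent.CAlgH3 Groth.Agent.PicLib Groth.Agent.AmpleLib
open scoped ZeroObject

namespace Groth.Agent.EulerPn5

variable {k : Type u} [Field k] {m n : ℕ} (i : CohB1.ProjSpace m k ⟶ CohB1.ProjSpace n k)

theorem nonempty_pullback_mpow {X Y : Scheme.{u}} (f : X ⟶ Y) (N : Y.Modules) {N' : X.Modules}
    (e : (Scheme.Modules.pullback f).obj N ≅ N') :
    ∀ M : ℕ, Nonempty ((Scheme.Modules.pullback f).obj (mpow N M) ≅ mpow N' M) := by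
  intro M
  haveI := (Scheme.Modules.pullbackPushforwardAdjunction f).leftAdjoint_preservesColimits
  obtain ⟨a⟩ := nonempty_mpow_sigma N M
  obtain ⟨b⟩ := nonempty_mpow_sigma N' M
  exact ⟨(Scheme.Modules.pullback f).mapIso a.symm ≪≫ PreservesCoproduct.iso (Scheme.Modules.pullback f) _ ≪≫
    Sigma.mapIso (fun _ => e) ≪≫ b⟩

theorem nonempty_mpow_one {X : Scheme.{u}} (N : X.Modules) : Nonempty (mpow N 1 ≅ N) :=
  ⟨(isoZeroBiprod (isZero_zero X.Modules)).symm⟩

theorem nonempty_mpow_fin {X : Scheme.{u}} (N : X.Modules) (r : ℕ) :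
    Nonempty (mpow N r ≅ ∐ fun _ : Fin r => N) := by
  obtain ⟨a⟩ := nonempty_mpow_sigma N r
  exact ⟨a.symm ≪≫ Sigma.whiskerEquiv Equiv.ulift fun _ => Iso.refl N⟩

theorem nonempty_pullback_tensor {X Y : Scheme.{u}} (f : X ⟶ Y) (M N : Y.Modules) {M' N' : X.Modules}
    (a : (Scheme.Modules.pullback f).obj M ≅ M') (b : (Scheme.Modules.pullback f).obj N ≅ N') :
    Nonempty ((Scheme.Modules.pullback f).obj (CohB1.tensorMod M N) ≅ CohB1.tensorMod M' N') :=
  ⟨DCat.PullTensor.pullTensorIso f M N ≪≫ AmpleLib.tensorIso a b⟩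

theorem nonempty_assoc {X : Scheme.{u}} (A B C : X.Modules) :
    Nonempty (CohB1.tensorMod (CohB1.tensorMod A B) C ≅ CohB1.tensorMod A (CohB1.tensorMod B C)) :=
  ⟨DCat.TensorAssoc.assocIso A B C⟩

theorem nonempty_pullback_twist_neg
    (hO : Nonempty ((Scheme.Modules.pullback i).obj (Twist.twistProjSpace n k 1) ≅ Twist.twistProjSpace m k 1)) :
    Nonempty ((Scheme.Modules.pullback i).obj (Twist.twistProjSpace n k (-1)) ≅ Twist.twistProjSpace m k (-1)) := by
  obtain ⟨eO⟩ := hO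
  obtain ⟨a⟩ := nonempty_tt (n := n) (A := k) (show (1 : ℤ) + -1 = 0 by norm_num)
  obtain ⟨b⟩ := nonempty_twist0 (n := n) (A := k)
  obtain ⟨a'⟩ := nonempty_tt (n := m) (A := k) (show (1 : ℤ) + -1 = 0 by norm_num)
  obtain ⟨b'⟩ := nonempty_twist0 (n := m) (A := k)
  obtain ⟨s⟩ := AmpleLib.exists_pullStructureIso i
  exact SerreDual.nonempty_iso_of_inverse (A := Twist.twistProjSpace m k 1)
    (Coherent.isInvertible_twistProjSpaceZ m 1 k) (Coherent.isInvertible_twistProjSpaceZ m (-1) k)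
    (AmpleLib.tensorIso eO.symm (Iso.refl _) ≪≫ (DCat.PullTensor.pullTensorIso i _ _).symm ≪≫
      (Scheme.Modules.pullback i).mapIso (a ≪≫ b) ≪≫ s)
    (a' ≪≫ b')

/-- `i^* Ω_{P^n} ≅ Ω_{P^m} ⊕ O(-1)^(⊕ (n-m))`. -/
theorem exists_restrict_split
    (hO : Nonempty ((Scheme.Modules.pullback i).obj (Twist.twistProjSpace n k 1) ≅ Twist.twistProjSpace m k 1)) :
    ∃ r : ℕ, n = m + r ∧ Nonempty ((Scheme.Modules.pullback i).obj (Omega.sheaf (CohB1.ProjSpace.toSpec n k)) ≅
      Omega.sheaf (CohB1.ProjSpace.toSpec m k) ⊞ mpow (Twist.twistProjSpace m k (-1)) r) := by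
  obtain ⟨f, g, w, hE⟩ := exists_euler_seq n k
  obtain ⟨eN⟩ := nonempty_pullback_twist_neg i hO
  obtain ⟨e₂⟩ := nonempty_pullback_mpow i _ eN (n + 1)
  obtain ⟨e₃⟩ := AmpleLib.exists_pullStructureIso i
  have h3 : FlatMod.IsFinLocFree (Coh.structureModule (CohB1.ProjSpace n k)) :=
    LocFreeLib.isFinLocFree_of_rank (PicLib.isFinLocFreeOfRank_one AmpleLib.isInvertible_structureModule)
  obtain ⟨r, hr, he⟩ := exists_split m (KPull28.shortExact_pullback i hE h3) e₂ e₃
  exact ⟨r, by omega, he⟩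

end Groth.Agent.EulerPn5
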