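import Groth.Agent.PnCanon5.Main
import Groth.Agent.JacAJ27.Kappa
import Groth.Agent.Canon15.ExtPowPull
import Groth.Agent.KvbLam28.Basic
import Groth.Agent.ExtPowEx28.Pull
import Groth.Agent.ExtPowEx28.Basic
import Groth.Agent.Coherent.ProjSpaceFinite
import Groth.Agent.CAlgH.HenselianColimit

/-!
# The canonical sheaf of projective space over a scheme
-/

set_option autoImplicit false
set_option linter.style.haveILetI false
set_option linter.unusedSectionVars false
set_option backward.isDefEq.respectTransparency.types false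
set_option maxHeartbeats 800000

universe u

open CategoryTheory CategoryTheory.Limits AlgebraicGeometry TopologicalSpace Opposite

namespace Groth.Agent.EulerPn5.CanonOver

theorem isExtPow_congr_source {X : Scheme.{u}} {i : ℕ} {E E' L : X.Modules} (e : E ≅ E')
    (h : ExtPow.IsExtPow i E L) : ExtPow.IsExtPow i E' L := by
  obtain ⟨φ, hφ⟩ := h
  let f : ∀ U : X.affineOpens, (E.val.obj (op U.1)) ≃ₗ[Γ(X, U.1)] (E'.val.obj (op U.1)) := fun U =>
    { toFun := fun x => e.hom.app U.1 x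
      invFun := fun x => e.inv.app U.1 x
      left_inv := fun x => congrArg (fun ψ : E ⟶ E => ψ.app U.1 x) e.hom_inv_id
      right_inv := fun x => congrArg (fun ψ : E' ⟶ E' => ψ.app U.1 x) e.inv_hom_id
      map_add' := fun a b => map_add (e.hom.app U.1).hom a b
      map_smul' := fun r a => Scheme.Modules.Hom.app_smul e.hom r a }
  let g : ∀ U : X.affineOpens, ↥(⋀[Γ(X, U.1)]^i (E.val.obj (op U.1))) ≃ₗ[Γ(X, U.1)]
      ↥(⋀[Γ(X, U.1)]^i (E'.val.obj (op U.1))) := fun U =>
    LinearEquiv.ofLinear (exteriorPower.map i (f U).toLinearMap) (exteriorPower.map i (f U).symm.toLinearMap)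
      (exteriorPower.linearMap_ext (AlternatingMap.ext fun v => by simp [Function.comp_def]))
      (exteriorPower.linearMap_ext (AlternatingMap.ext fun v => by simp [Function.comp_def]))
  refine ⟨fun U => (φ U).trans (g U), fun U V hUV v => ?_⟩
  show L.val.map (homOfLE hUV).op ((φ U).symm (exteriorPower.map i (f U).symm.toLinearMap _)) =
    (φ V).symm (exteriorPower.map i (f V).symm.toLinearMap _)
  rw [exteriorPower.map_apply_ιMulti, exteriorPower.map_apply_ιMulti, hφ U V hUV]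
  refine congrArg (fun w => (φ V).symm (exteriorPower.ιMulti _ i w)) (funext fun j => ?_)
  exact (Coherent.app_resM e.inv hUV (v j)).symm

/-- `ω_{P^n_Y/Y} ≅ O(-n-1)`. -/
theorem nonempty_topDiff_twistOver (Y : Scheme.{u}) (n : ℕ)
    [QuasiSeparated (CohB1.ProjSpaceOver.toBase n Y)] (L : (CohB1.ProjSpaceOver n Y).Modules)
    (hL : ExtPow.IsExtPow n (Omega.sheaf (CohB1.ProjSpaceOver.toBase n Y)) L) :
    Nonempty (L ≅ Twist.twistOver n Y (-(n : ℤ) - 1)) := by
  haveI : IsDomain (ULift.{u} ℤ) := MulEquiv.isDomain ℤ ULift.ringEquiv.toMulEquiv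
  haveI : IsProper (CohB1.ProjSpace.toSpec n (ULift.{u} ℤ)) := Coherent.isProper_projSpace_toSpec (n := n) (R := ULift.{u} ℤ)
  haveI := PnCanon5.smoothOfRelativeDimension_toSpec n (ULift.{u} ℤ)
  have hΩ := FundLocal.isFinLocFreeOfRank_omega_qs (CohB1.ProjSpace.toSpec n (ULift.{u} ℤ)) n
  obtain ⟨L₀, -, hL₀⟩ := ExtPowEx28.exists_isExtPow (LocFreeLib.isFinLocFree_of_rank hΩ) n
  obtain ⟨e₀⟩ := PnCanon5.nonempty_topDiff_twist hL₀
  let g' : CohB1.ProjSpaceOver n Y ⟶ CohB1.ProjSpace n (ULift.{u} ℤ) :=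
    pullback.fst (CohB1.ProjSpace.toSpec n (ULift.{u} ℤ)) (specULiftZIsTerminal.from Y)
  obtain ⟨c⟩ := JacAJ27.nonempty_omega_bc (g' := g') (f' := CohB1.ProjSpaceOver.toBase n Y)
    (IsPullback.of_hasPullback (CohB1.ProjSpace.toSpec n (ULift.{u} ℤ)) (specULiftZIsTerminal.from Y))
  obtain ⟨e⟩ := KvbLam28.exists_iso_of_isExtPow hL (isExtPow_congr_source c (Canon15.isExtPow_pullback g' hΩ hL₀))
  rw [show -(n : ℤ) - 1 = -((n : ℤ) + 1) by ring]
  exact ⟨e ≪≫ (Scheme.Modules.pullback g').mapIso e₀⟩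

end Groth.Agent.EulerPn5.CanonOver
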