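import Groth.Agent.EulerPn5.Dim
import Groth.Agent.VarietyLib.CurveHom
import Groth.Agent.AmpleLib.FTIdeal
import Groth.Agent.CurveLib.ProjLine

/-!
# Sections of twists of ideal sheaves on projective space
-/

set_option autoImplicit false
set_option linter.style.haveILetI false
set_option linter.unusedSectionVars false
set_option backward.isDefEq.respectTransparency.types false
set_option maxHeartbeats 1000000

universe u

open CategoryTheory CategoryTheory.Limits AlgebraicGeometry TopologicalSpace Opposite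
open Groth.Agent.Coherent Groth.Agent.EulerLib Groth.Agent.CAlgH3 Groth.Agent.PicLib Groth.Agent.AmpleLib

namespace Groth.Agent.EulerPn5

variable {n : ℕ} {k : Type u} [Field k]

local notation "O[" d "]" => Twist.twistProjSpace n k d

theorem not_V_twist {d : ℤ} (hd : 0 ≤ d) : ¬ ModCohSeq.V O[d] 0 := fun hv => by
  haveI : IsProper ((CohB1.ProjSpace n k) ↘ Spec (CommRingCat.of k)) := Coherent.isProper_projSpace_toSpec n k
  haveI : Subsingleton (Coh.HH (CohB1.ProjSpace n k) O[d] 0) := hv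
  have hf := finrank_twist (n := n) (k := k) d (Or.inr hd)
  rw [Module.finrank_zero_of_subsingleton, if_pos hd] at hf
  have : 0 < (n + d.toNat).choose d.toNat := Nat.choose_pos (by omega)
  omega

/-- `H^0(M(d)) = 0` iff there are no nonzero maps `O(-d) → M`. -/
theorem V_tensor_twist_iff (M : (CohB1.ProjSpace n k).Modules) {a d : ℤ} (h : a + d = 0) :
    ModCohSeq.V (CohB1.tensorMod M O[d]) 0 ↔ ∀ f : O[a] ⟶ M, f = 0 := by
  obtain ⟨t⟩ := nonempty_tt (n := n) (A := k) h
  obtain ⟨t'⟩ := nonempty_tt (n := n) (A := k) (show d + a = 0 by omega)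
  obtain ⟨b⟩ := nonempty_twist0 (n := n) (A := k)
  let φ := (Linear.homCongr k (t ≪≫ b) (Iso.refl (CohB1.tensorMod M O[d]))).trans (SerreDual.homUnitHH k _)
  constructor
  · intro hv f
    haveI : Subsingleton (Coh.HH (CohB1.ProjSpace n k) (CohB1.tensorMod M O[d]) 0) := hv
    exact SerreDual.tensorRightHom_injective k _ _ (Coherent.isInvertible_twistProjSpaceZ n d k)
      (φ.injective (Subsingleton.elim _ _))
  · intro hf
    obtain ⟨e0⟩ := nonempty_tensor_twist0 M
    let i₁ : O[a] ≅ CohB1.tensorMod (Coh.structureModule (CohB1.ProjSpace n k)) O[a] := (unitTensorIso _).symm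
    let i₂ : CohB1.tensorMod (CohB1.tensorMod M O[d]) O[a] ≅ CohB1.tensorMod M O[0] :=
      DCat.TensorAssoc.assocIso M O[d] O[a] ≪≫ AmpleLib.tensorIso (Iso.refl M) t'
    let ψ := Linear.homCongr k i₁.symm (i₂ ≪≫ e0)
    have hz : ∀ g : Coh.structureModule (CohB1.ProjSpace n k) ⟶ CohB1.tensorMod M O[d], g = 0 := fun g =>
      SerreDual.tensorRightHom_injective k _ _ (Coherent.isInvertible_twistProjSpaceZ n a k)
        (ψ.injective ((hf _).trans (hf _).symm))
    haveI : Subsingleton (Coh.structureModule (CohB1.ProjSpace n k) ⟶ CohB1.tensorMod M O[d]) :=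
      ⟨fun x y => (hz x).trans (hz y).symm⟩
    exact (SerreDual.homUnitHH k _).toEquiv.symm.subsingleton

theorem exists_ne_zero_twist {a b : ℤ} (h : a ≤ b) : ∃ f : O[a] ⟶ O[b], f ≠ 0 := by
  by_contra hc
  push_neg at hc
  obtain ⟨t⟩ := nonempty_tt (n := n) (A := k) (show b + -a = b - a by ring)
  exact not_V_twist (d := b - a) (by omega)
    (ModCohSeq.V_of_iso t ((V_tensor_twist_iff O[b] (add_neg_cancel a)).2 hc))

theorem not_isZero_twist' (a : ℤ) : ¬ IsZero O[a] := fun hz => by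
  obtain ⟨f, hf⟩ := exists_ne_zero_twist (n := n) (k := k) (le_refl a)
  exact hf (hz.eq_of_src _ _)

/-- Vanishing in degree `D` gives vanishing below. -/
theorem V_tensor_twist_of_le {M : (CohB1.ProjSpace n k).Modules}
    (hι : ∀ (a : ℤ) (f : O[a] ⟶ M), f ≠ 0 → Mono f) {d D : ℤ}
    (hdD : d ≤ D) (hv : ModCohSeq.V (CohB1.tensorMod M O[D]) 0) : ModCohSeq.V (CohB1.tensorMod M O[d]) 0 := by
  refine (V_tensor_twist_iff M (neg_add_cancel d)).2 fun f => ?_
  by_contra hf
  haveI := hι _ f hf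
  obtain ⟨h, hh⟩ := exists_ne_zero_twist (n := n) (k := k) (show -D ≤ -d by omega)
  exact hh ((cancel_mono f).1 (((V_tensor_twist_iff M (neg_add_cancel D)).1 hv _).trans zero_comp.symm))

theorem mono_to_idealMod (I : (CohB1.ProjSpace n k).IdealSheafData) (a : ℤ) (f : O[a] ⟶ ClSub.idealMod I)
    (hf : f ≠ 0) : Mono f := by
  haveI : IsIntegral (CohB1.ProjSpace n k) := CurveLib.isIntegral_projSpace (k := k) n
  haveI := AmpleLib.mono_idealModι I
  haveI : Mono (f ≫ ClSub.idealModι I) := VarietyLib.mono_of_ne_zero_invertible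
    (Coherent.isInvertible_twistProjSpaceZ n a k) AmpleLib.isInvertible_structureModule _
    fun h => hf ((cancel_mono (ClSub.idealModι I)).1 (h.trans zero_comp.symm))
  exact mono_of_mono f (ClSub.idealModι I)

/-- `H^0(E(k₀))` for an extension `0 → O → E → J(c) → 0`. -/
theorem V_middle_iff (hn : 2 ≤ n) (I : (CohB1.ProjSpace n k).IdealSheafData) (c k₀ : ℤ)
    {S : ShortComplex (CohB1.ProjSpace n k).Modules} (hS : S.ShortExact)
    (h₁ : Nonempty (S.X₁ ≅ Coh.structureModule (CohB1.ProjSpace n k)))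
    (h₃ : Nonempty (S.X₃ ≅ CohB1.tensorMod (ClSub.idealMod I) O[c])) :
    ModCohSeq.V (CohB1.tensorMod S.X₂ O[k₀]) 0 ↔
      (k₀ < 0 ∧ ∀ d : ℤ, d ≤ c + k₀ → ModCohSeq.V (CohB1.tensorMod (ClSub.idealMod I) O[d]) 0) := by
  obtain ⟨a₁⟩ := h₁
  obtain ⟨a₃⟩ := h₃
  have hT := isFinLocFree_twist (n := n) (A := k) k₀
  haveI := CAlgH3.LocFreeFactor.isQCoh_of_finLocFree hT
  obtain ⟨U, hU, e₁, e₂, e₃⟩ := VarietyLib.exists_tensorSeq hS O[k₀] fun x => by
    haveI := Props12.free_stalk_of_isFinLocFree O[k₀] hT x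
    infer_instance
  let i₁ : U.X₁ ≅ O[k₀] := eqToIso e₁ ≪≫ AmpleLib.tensorIso a₁ (Iso.refl _) ≪≫ unitTensorIso _
  obtain ⟨t⟩ := nonempty_tt (n := n) (A := k) (show c + k₀ = c + k₀ from rfl)
  let i₃ : U.X₃ ≅ CohB1.tensorMod (ClSub.idealMod I) O[c + k₀] :=
    eqToIso e₃ ≪≫ AmpleLib.tensorIso a₃ (Iso.refl _) ≪≫
      DCat.TensorAssoc.assocIso (ClSub.idealMod I) O[c] O[k₀] ≪≫ AmpleLib.tensorIso (Iso.refl _) t
  constructor
  · intro h
    have h₂ : ModCohSeq.V U.X₂ 0 := ModCohSeq.V_of_iso (eqToIso e₂).symm h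
    have hk : k₀ < 0 := by
      by_contra hk
      refine not_V_twist (n := n) (k := k) (d := k₀) (by omega) (ModCohSeq.V_of_iso i₁ ?_)
      refine (ModCohSeq.V_iff_HMod _ 0).2 ?_
      haveI : Subsingleton (HA (RingHom.id _) U.X₂ (⊤ : (CohB1.ProjSpace n k).Opens) 0) :=
        (ModCohSeq.V_iff_HMod _ 0).1 h₂
      exact (EulerLib.postA_zero_injective (RingHom.id _) hU ⊤).subsingleton
    refine ⟨hk, fun d hd => V_tensor_twist_of_le (mono_to_idealMod I) hd (ModCohSeq.V_of_iso i₃ ?_)⟩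
    exact ModCohSeq.V_right hU h₂ (ModCohSeq.V_of_iso i₁.symm (V_twist (by omega) (by omega)))
  · rintro ⟨hk, h⟩
    exact ModCohSeq.V_of_iso (eqToIso e₂) (ModCohSeq.V_mid hU
      (ModCohSeq.V_of_iso i₁.symm (V_twist (by omega) (by omega)))
      (ModCohSeq.V_of_iso i₃.symm (h _ le_rfl)))

end Groth.Agent.EulerPn5
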