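import Groth.Agent.EulerPn5.Bott
import Groth.Agent.EulerLib.Twist

/-!
# The Bott formula
-/

set_option autoImplicit false
set_option linter.style.haveILetI false
set_option linter.unusedSectionVars false
set_option backward.isDefEq.respectTransparency.types false
set_option maxHeartbeats 1000000

universe u

open CategoryTheory CategoryTheory.Limits AlgebraicGeometry TopologicalSpace Opposite
open Groth.Agent.Coherent Groth.Agent.EulerLib Groth.Agent.CAlgH3

namespace Groth.Agent.EulerPn5

theorem choose_identity (p a b : ℕ) :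
    (p + a + 2).choose (p + 1) * (p + 1 + a + b).choose (p + 1 + a) =
      (p + a + b + 2).choose (p + 1 + b) * (p + b).choose p +
        (p + a + b + 1).choose (p + 1 + b) * (p + b).choose (p + 1) := by
  have h1 : (p + b).choose (p + 1) * (p + 1) = (p + b).choose p * b := by
    rw [Nat.choose_succ_right_eq, Nat.add_sub_cancel_left]
  have h2 : (p + a + b + 2).choose (p + 1 + b) * (a + 1) = (p + a + b + 1).choose (p + 1 + b) * (p + a + b + 2) := by
    rw [Nat.choose_mul_succ_eq]
    congr 1
    omega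
  have h3 : (p + a + 2).choose (p + 1) * (a + 1) = (p + a + 1).choose (p + 1) * (p + a + 2) := by
    rw [Nat.choose_mul_succ_eq]
    congr 1
    omega
  have h4 : (p + 1 + a + b).choose (p + 1 + a) * (p + 1 + a).choose (p + 1) =
      (p + 1 + a + b).choose (p + 1) * (a + b).choose a := by
    rw [Nat.choose_mul (by omega)]
    congr 2 <;> omega
  have h5 : (p + 1 + a + b).choose (p + 1 + b) * (p + 1 + b).choose (p + 1) =
      (p + 1 + a + b).choose (p + 1) * (a + b).choose b := by
    rw [Nat.choose_mul (by omega)]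
    congr 2 <;> omega
  have h6 : (p + b + 1) * (p + b).choose p = (p + b + 1).choose (p + 1) * (p + 1) :=
    Nat.add_one_mul_choose_eq (p + b) p
  have h7 : (a + b).choose b = (a + b).choose a := (Nat.choose_symm_add).symm
  rw [h7] at h5
  rw [show p + 1 + a = p + a + 1 by omega, show p + a + 1 + b = p + a + b + 1 by omega] at h4 h5 ⊢
  rw [show p + 1 + b = p + b + 1 by omega] at h2 h5 ⊢
  apply Nat.eq_of_mul_eq_mul_right (show 0 < (a + 1) * (p + 1) by positivity)
  generalize (p + a + 2).choose (p + 1) = u at *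
  generalize (p + a + b + 1).choose (p + a + 1) = v at *
  generalize (p + a + b + 2).choose (p + b + 1) = s at *
  generalize (p + a + b + 1).choose (p + b + 1) = t at *
  generalize (p + b).choose p = x at *
  generalize (p + b).choose (p + 1) = y at *
  generalize (p + a + 1).choose (p + 1) = w at *
  generalize (p + b + 1).choose (p + 1) = z at *
  calc u * v * ((a + 1) * (p + 1)) = (u * (a + 1)) * (v * (p + 1)) := by ring
    _ = (p + a + 2) * (v * w) * (p + 1) := by rw [h3]; ring
    _ = (p + a + 2) * (t * z) * (p + 1) := by rw [h4, h5]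
    _ = (p + a + 2) * t * ((p + b + 1) * x) := by rw [h6]; ring
    _ = t * x * ((p + 1) * (p + a + b + 2) + (a + 1) * b) := by ring
    _ = (s * (a + 1)) * x * (p + 1) + t * (y * (p + 1)) * (a + 1) := by rw [h1, h2]; ring
    _ = (s * x + t * y) * ((a + 1) * (p + 1)) := by ring

variable {n : ℕ} {k : Type u} [Field k] [IsProper (CohB1.ProjSpace n k ↘ Spec (CommRingCat.of k))]
  [QuasiSeparated (CohB1.ProjSpace.toSpec n k)]

local notation "O[" d "]" => Twist.twistProjSpace n k d
local notation "Ω₀" => Omega.sheaf (CohB1.ProjSpace.toSpec n k)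

theorem finrank_twist (e : ℤ) (h0 : 0 < n ∨ 0 ≤ e) :
    Module.finrank k (Coh.HH (CohB1.ProjSpace n k) O[e] 0) = if 0 ≤ e then (n + e.toNat).choose e.toNat else 0 := by
  split_ifs with he
  · obtain ⟨m, rfl⟩ := Int.eq_ofNat_of_zero_le he
    obtain ⟨h⟩ := Coherent.nonempty_HH_zero_twist n k m
    rw [h.finrank_eq, CommAlg4.finrank_homogeneous_fin]
    congr 1
    simp
  · haveI : Subsingleton (Coh.HH (CohB1.ProjSpace n k) O[e] 0) := V_twist (by omega) (by omega)
    exact Module.finrank_zero_of_subsingleton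

/-- `h^0(Ω^p(d))`. -/
theorem finrank_zero (p d : ℕ) {L : (CohB1.ProjSpace n k).Modules} (hp : p ≤ n) (hd : 0 < d)
    (hL : ExtPow.IsExtPow p Ω₀ L) :
    Module.finrank k (Coh.HH (CohB1.ProjSpace n k) (CohB1.tensorMod L O[(d : ℤ)]) 0) =
      (d + n - p).choose d * (d - 1).choose p := by
  induction p generalizing L with
  | zero =>
    obtain ⟨e⟩ := nonempty_zero_iso hL (d : ℤ)
    rw [(hhEquiv k e 0).finrank_eq, finrank_twist _ (Or.inr (Int.natCast_nonneg d)), if_pos (Int.natCast_nonneg d)]
    simp [Nat.add_comm]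
  | succ p ih =>
    obtain ⟨L', hL'⟩ : ∃ L', L' = L := ⟨L, rfl⟩
    subst hL'
    rename' L' => L₁
    obtain ⟨L, hLf, hL₀⟩ := exists_omegaPow (n := n) (A := k) p
    obtain ⟨K, f, g, w, hK, hS⟩ := exists_bott_seq p (d : ℤ) hL₀ hL
    have hT := isFinLocFree_twist (n := n) (A := k) ((d : ℤ))
    have hL'f := WedgeDual5.isFinLocFree_of_isExtPow isFinLocFree_omega hL
    have e : Module.finrank k (Coh.HH (CohB1.ProjSpace n k) K 0) =
        Module.finrank k (Coh.HH (CohB1.ProjSpace n k) (CohB1.tensorMod L₁ O[(d : ℤ)]) 0) +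
          Module.finrank k (Coh.HH (CohB1.ProjSpace n k) (CohB1.tensorMod L O[(d : ℤ)]) 0) :=
      by
        have c₁ : Coh.IsCoh (CohB1.tensorMod L₁ O[(d : ℤ)]) := CohBC.isCoh_of_isFinLocFree (ExtFilt28.isFinLocFree_tensor hL'f hT)
        have c₂ : Coh.IsCoh K := CohBC.isCoh_of_isFinLocFree (hK.isFinLocFree (isFinLocFree_twist _))
        have c₃ : ModCohSeq.V (CohB1.tensorMod L₁ O[(d : ℤ)]) 1 := V_pos (by omega) (n + 1) (p + 1) (by omega) hL 1 one_pos
        have h := finrank_zero_add (X := CohB1.ProjSpace n k) k hS c₁ c₂ c₃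
        dsimp only at h
        exact h
    rw [hK.finrank k (isFinLocFree_twist _) (V_twist (by omega) (by omega)), finrank_twist _ (Or.inl (by omega)),
      ih (by omega) hL₀] at e
    by_cases hdp : d ≤ p
    · rw [if_neg (by omega), Nat.mul_zero] at e
      rw [Nat.choose_eq_zero_of_lt (show d - 1 < p + 1 by omega), Nat.mul_zero]
      omega
    obtain ⟨a, rfl⟩ : ∃ a, n = p + 1 + a := ⟨n - (p + 1), by omega⟩
    obtain ⟨b, rfl⟩ : ∃ b, d = p + 1 + b := ⟨d - (p + 1), by omega⟩
    have := choose_identity p a b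
    rw [if_pos (by omega), show ((p + 1 + b : ℕ) : ℤ) - ((p : ℤ) + 1) = (b : ℤ) by push_cast; ring, Int.toNat_natCast,
      show p + 1 + b + (p + 1 + a) - p = p + a + b + 2 by omega, show p + 1 + b - 1 = p + b by omega,
      show p + 1 + a + 1 = p + a + 2 by omega, show (p + 1 + a + b).choose b = (p + 1 + a + b).choose (p + 1 + a) from
        (Nat.choose_symm_add).symm, this] at e
    rw [show p + 1 + b + (p + 1 + a) - (p + 1) = p + a + b + 1 by omega, show p + 1 + b - 1 = p + b by omega]
    omega

end Groth.Agent.EulerPn5
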