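import Groth.Agent.CI14.Coh
import Groth.Agent.EulerPn5.Dim
import Groth.Agent.WedgeDual5.Sheaf
import Groth.Agent.Coherent.InternalHomAdj
import Groth.Agent.SerreDual.ExtShTensor
import Groth.Agent.PnCanon5.Main
import Groth.Agent.S10931

/-!
# The restriction of the tangent bundle of `P^n` to a hypersurface
-/

set_option autoImplicit false
set_option linter.style.haveILetI false
set_option linter.unusedSectionVars false
set_option backward.isDefEq.respectTransparency.types false
set_option maxHeartbeats 1000000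

universe u

open CategoryTheory CategoryTheory.Limits AlgebraicGeometry Opposite TopologicalSpace
open Groth.Agent Groth.Agent.Coherent Groth.Agent.PicLib Groth.Agent.AmpleLib Groth.Agent.InjMod14.Kosz
open Groth.Agent.EulerLib Groth.Agent.CAlgH3.ModCohSeq Groth.Agent.ModStalk Groth.Agent.OmegaLib

namespace Groth.Agent.EulerPn5

section div

variable {X : Scheme.{u}} (J : X.IdealSheafData) (hJ : PicF.IsInvertible (ClSub.idealMod J))

local notation "St" => DerSch.stalkFunctor X

theorem mono_tensorMap_flat {F F' : X.Modules} (φ : F ⟶ F') [Mono φ] {M : X.Modules} (hM : FlatMod.IsFinLocFree M) :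
    Mono (KoszTw.tensorMap φ (𝟙 M)) := by
  refine mono_of_stalks_injective _ fun x => ?_
  haveI : Mono ((St x).map φ) := inferInstance
  haveI : Module.Flat (X.presheaf.stalk x) ((St x).obj M) := by
    haveI := CAlgH3.LocFreeFactor.isQCoh_of_finLocFree hM
    haveI := Props12.free_stalk_of_isFinLocFree M hM x
    exact (inferInstance : Module.Flat (X.presheaf.stalk x) (M.presheaf.stalk x))
  let f := ((St x).map φ).hom
  have hf : Function.Injective f := (ModuleCat.mono_iff_injective _).mp inferInstance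
  intro v w h
  let e₁ : ((St x).obj (CohB1.tensorMod F M)) ≃ₗ[X.presheaf.stalk x]
      TensorProduct (X.presheaf.stalk x) ((St x).obj F) ((St x).obj M) :=
    (stalkTensorIso x F M).toLinearEquiv
  refine e₁.injective (Module.Flat.rTensor_preserves_injective_linearMap (M := ((St x).obj M)) f hf ?_)
  refine (VarietyLib.stalk_tensorMap_id φ M x v).symm.trans (Eq.trans ?_ (VarietyLib.stalk_tensorMap_id φ M x w))
  rw [h]

theorem mono_jmul_locFree {M : X.Modules} (hM : FlatMod.IsFinLocFree M) : Mono (jmul J M) := by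
  haveI := mono_idealModι J
  have h : KoszTw.tensorMap (𝟙 M) (ClSub.idealModι J) =
      (AmpleLib.tensorComm M (ClSub.idealMod J)).hom ≫ KoszTw.tensorMap (ClSub.idealModι J) (𝟙 M) ≫
        (AmpleLib.tensorComm (Coh.structureModule X) M).hom :=
    AmpleLib.hom_ext fun U a b => by
      refine (KoszTw.tensorMap_tmul _ _ _ _ _).trans ?_
      refine Eq.symm ?_
      refine (congrArg (fun z => (AmpleLib.tensorComm (Coh.structureModule X) M).hom.app U
        ((KoszTw.tensorMap (ClSub.idealModι J) (𝟙 M)).app U z)) (Bilin.desc_tmul _ U a b)).trans ?_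
      refine (congrArg (fun z => (AmpleLib.tensorComm (Coh.structureModule X) M).hom.app U z)
        (KoszTw.tensorMap_tmul _ _ _ b a)).trans ?_
      exact Bilin.desc_tmul _ U _ _
  haveI := mono_tensorMap_flat (ClSub.idealModι J) hM
  rw [jmul, h]
  infer_instance

include hJ in
/-- `0 → M ⊗ J → M → M|_{V(J)} → 0` for `M` locally free. -/
theorem divSeq_shortExact_locFree {M : X.Modules} (hM : FlatMod.IsFinLocFree M) :
    (CI14.divSeq J hJ M).ShortExact := by
  haveI := mono_jmul_locFree J hM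
  haveI := epi_clUnit J.subschemeι (F := M)
  refine { exact := ?_, mono_f := inferInstance, epi_g := inferInstance }
  rw [ShortComplex.exact_iff_mono_cokernel_desc]
  haveI := mono_clUnit J.subschemeι (killedBy_cokernel_jmul J M)
  have e : cokernel.desc (jmul J M) (clUnit J.subschemeι M) (CI14.jmul_comp_clUnit J hJ M) ≫
      (Scheme.Modules.pushforward J.subschemeι).map ((Scheme.Modules.pullback J.subschemeι).map (cokernel.π (jmul J M))) =
      clUnit J.subschemeι (cokernel (jmul J M)) := by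
    rw [← cancel_epi (cokernel.π (jmul J M)), cokernel.π_desc_assoc]
    exact ((Scheme.Modules.pullbackPushforwardAdjunction J.subschemeι).unit.naturality (cokernel.π (jmul J M))).symm
  exact mono_of_mono_fac e

include hJ in
theorem V_restrict_iff {M : X.Modules} (hM : FlatMod.IsFinLocFree M) (q : ℕ) (h₁ : V M q) (h₂ : V M (q + 1)) :
    V ((Scheme.Modules.pullback J.subschemeι).obj M) q ↔ V (CohB1.tensorMod M (ClSub.idealMod J)) (q + 1) := by
  haveI := CAlgH3.LocFreeFactor.isQCoh_of_finLocFree hM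
  haveI := EGA43.InjFibre.isQCoh_pullback J.subschemeι M
  rw [← CI14.V_push_iff J.subschemeι ((Scheme.Modules.pullback J.subschemeι).obj M) q]
  exact ⟨fun h => V_left (divSeq_shortExact_locFree J hJ hM) h h₂,
    fun h => V_right (divSeq_shortExact_locFree J hJ hM) h₁ h⟩

end div

variable {k : Type u} [Field k] {n : ℕ}

local notation "O[" d "]" => Twist.twistProjSpace n k d
local notation "Ω₀" => Omega.sheaf (CohB1.ProjSpace.toSpec n k)

/-- `Hom(Ω, O) ≅ ⋀^(n-1) Ω (n+1)`. -/
theorem nonempty_tangent_iso [DCoh.HasSheafHom Ω₀] {p : ℕ} (hp : 1 + p = n) {L : (CohB1.ProjSpace n k).Modules}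
    (hL : ExtPow.IsExtPow p Ω₀ L) :
    Nonempty ((DCoh.sheafHom Ω₀).obj (Coh.structureModule (CohB1.ProjSpace n k)) ≅
      CohB1.tensorMod L O[(n : ℤ) + 1]) := by
  obtain ⟨W, -, hW⟩ := ExtPowEx28.exists_isExtPow (isFinLocFree_omega (n := n) (A := k)) n
  obtain ⟨eW⟩ := PnCanon5.nonempty_topDiff_twist hW
  obtain ⟨eL⟩ := WedgeDual5.nonempty_iso_internalHom rank_omega hp (KvbLam28.isExtPow_one Ω₀) hL hW
  obtain ⟨v⟩ := SerreDual.nonempty_internalHom_eq_tensor (isFinLocFree_omega (n := n) (A := k)) W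
  obtain ⟨a⟩ := nonempty_tt (n := n) (A := k) (show -((n : ℤ) + 1) + ((n : ℤ) + 1) = 0 by ring)
  let D := internalHom Ω₀ (Coh.structureModule (CohB1.ProjSpace n k))
  obtain ⟨d⟩ := nonempty_tensor_twist0 D
  let O : (CohB1.ProjSpace n k).Modules := Coh.structureModule (CohB1.ProjSpace n k)
  let N : (CohB1.ProjSpace n k).Modules := O[(n : ℤ) + 1]
  let M : (CohB1.ProjSpace n k).Modules := O[-((n : ℤ) + 1)]
  have i₁ : (DCoh.sheafHom Ω₀).obj O ≅ D := (sheafHomIso Ω₀).app O
  have i₂ : D ≅ CohB1.tensorMod D (CohB1.tensorMod M N) := d.symm ≪≫ AmpleLib.tensorIso (Iso.refl D) a.symm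
  have i₃ : CohB1.tensorMod D (CohB1.tensorMod M N) ≅ CohB1.tensorMod (CohB1.tensorMod D M) N :=
    (DCat.TensorAssoc.assocIso D M N).symm
  have i₄ : CohB1.tensorMod D M ≅ L := AmpleLib.tensorIso (Iso.refl D) eW.symm ≪≫ v.symm ≪≫ eL.symm
  have i₅ : CohB1.tensorMod (CohB1.tensorMod D M) N ≅ CohB1.tensorMod L N := AmpleLib.tensorIso i₄ (Iso.refl N)
  exact ⟨i₁ ≪≫ i₂ ≪≫ i₃ ≪≫ i₅⟩

/-- The vanishing of `H^1(Z, T|Z)` for a hypersurface `Z` of degree `d`. -/
theorem subsingleton_H1_tangent_restrict_iff (hn : 2 ≤ n) {d : ℕ} (F : LefPen.Form n k d) (hF : F ≠ 0)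
    [DCoh.HasSheafHom Ω₀] :
    Subsingleton (Coh.HH (LefPen.hypIdeal F).subscheme
        ((Scheme.Modules.pullback (LefPen.hypIdeal F).subschemeι).obj
          ((DCoh.sheafHom Ω₀).obj (Coh.structureModule (CohB1.ProjSpace n k)))) 1) ↔
      ¬ ((n = 2 ∧ 5 ≤ d) ∨ (n = 3 ∧ d = 4)) := by
  haveI : IsProper ((CohB1.ProjSpace n k) ↘ Spec (CommRingCat.of k)) := Coherent.isProper_projSpace_toSpec n k
  obtain ⟨L, hLf, hL⟩ := exists_omegaPow (n := n) (A := k) (n - 1)
  obtain ⟨eT⟩ := nonempty_tangent_iso (p := n - 1) (by omega) hL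
  let J := LefPen.hypIdeal F
  let M := CohB1.tensorMod L O[(n : ℤ) + 1]
  have hM : FlatMod.IsFinLocFree M := ExtFilt28.isFinLocFree_tensor hLf (isFinLocFree_twist _)
  have hJ : PicF.IsInvertible (ClSub.idealMod J) :=
    FlatMor12.IdealModGen.isInvertible_idealMod J (CI14.isEffCartier_hyp F hF)
  obtain ⟨eJ⟩ := LefPen24.nonempty_idealMod_iso F hF
  obtain ⟨a⟩ := nonempty_tt (n := n) (A := k) (show (n : ℤ) + 1 + -(d : ℤ) = (n : ℤ) + 1 - d by ring)
  let e := AmpleLib.tensorIso (Iso.refl M) eJ ≪≫ DCat.TensorAssoc.assocIso L O[(n : ℤ) + 1] O[-(d : ℤ)] ≪≫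
    AmpleLib.tensorIso (Iso.refl L) a
  have hred : Subsingleton (Coh.HH J.subscheme ((Scheme.Modules.pullback J.subschemeι).obj
      ((DCoh.sheafHom Ω₀).obj (Coh.structureModule (CohB1.ProjSpace n k)))) 1) ↔
      V (CohB1.tensorMod L O[(n : ℤ) + 1 - d]) 2 := by
    refine Iff.trans ⟨V_of_iso ((Scheme.Modules.pullback J.subschemeι).mapIso eT),
      V_of_iso ((Scheme.Modules.pullback J.subschemeι).mapIso eT).symm⟩ ?_
    refine (V_restrict_iff J hJ hM 1 (V_pos (by omega) (n + 1) (n - 1) (by omega) hL 1 one_pos)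
      (V_pos (by omega) (n + 1) (n - 1) (by omega) hL 2 two_pos)).trans ?_
    exact ⟨V_of_iso e, V_of_iso e.symm⟩
  refine hred.trans ?_
  rcases lt_trichotomy ((n : ℤ) + 1 - d) 0 with h | h | h
  · by_cases hn2 : n = 2
    · subst hn2
      obtain ⟨c, hc⟩ : ∃ c : ℕ, (c : ℤ) = (d : ℤ) - 3 := ⟨d - 3, by omega⟩
      have hL1 : ExtPow.IsExtPow 1 (Omega.sheaf (CohB1.ProjSpace.toSpec 2 k)) L := hL
      have hs : Module.finrank k (Coh.HH (CohB1.ProjSpace 2 k) (CohB1.tensorMod L (Twist.twistProjSpace 2 k ((2 : ℕ) + 1 - d : ℤ))) 2) =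
          (c + 2 - 1).choose c * (c - 1).choose 1 := by
        have hc' : ((2 : ℕ) : ℤ) + 1 - d = -(c : ℤ) := by omega
        rw [hc', ← finrank_zero (n := 2) (k := k) 1 c one_le_two (by omega) hL1]
        exact Eq.symm (S10931.result k 2 1 0 one_le_two (by omega) L L hL1 hL1 (c : ℤ))
      haveI : Module.Finite k (Coh.HH (CohB1.ProjSpace 2 k) (CohB1.tensorMod L (Twist.twistProjSpace 2 k ((2 : ℕ) + 1 - d : ℤ))) 2) := by
        haveI := finCoh_of_isProper ((CohB1.ProjSpace 2 k) ↘ Spec (CommRingCat.of k))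
          (CohB1.tensorMod L (Twist.twistProjSpace 2 k ((2 : ℕ) + 1 - d : ℤ)))
          (CohBC.isCoh_of_isFinLocFree (ExtFilt28.isFinLocFree_tensor hLf (isFinLocFree_twist _))) 2
        exact Module.Finite.equiv (HHBaseEquiv k _ 2).symm
      constructor
      · intro hv
        haveI : Subsingleton (Coh.HH (CohB1.ProjSpace 2 k) (CohB1.tensorMod L (Twist.twistProjSpace 2 k ((2 : ℕ) + 1 - d : ℤ))) 2) := hv
        rw [Module.finrank_zero_of_subsingleton] at hs
        rintro (⟨-, hd5⟩ | ⟨h3, -⟩)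
        · rw [Nat.choose_one_right] at hs
          have : 0 < (c + 2 - 1).choose c := Nat.choose_pos (by omega)
          rcases Nat.mul_eq_zero.1 hs.symm with h | h <;> omega
        · omega
      · intro hne
        obtain rfl : c = 1 := by omega
        exact Module.finrank_zero_iff.1 (hs.trans (by simp))
    · refine iff_of_true (V_neg h (n - 1) hL 2 (by omega)) ?_
      omega
  · rw [h]
    by_cases hn3 : n = 3
    · refine iff_of_false (fun hv => ?_) (by omega)
      subst hn3
      obtain ⟨g⟩ := nonempty_HH_diag (n := 3) (A := k) 2 (by omega) hL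
      haveI : Subsingleton (Coh.HH (CohB1.ProjSpace 3 k) (CohB1.tensorMod L (Twist.twistProjSpace 3 k 0)) 2) := hv
      exact not_subsingleton k g.symm.toEquiv.subsingleton
    · refine iff_of_true (V_zero (n - 1) hL 2 (by omega)) ?_
      omega
  · refine iff_of_true (V_pos h (n + 1) (n - 1) (by omega) hL 2 two_pos) ?_
    omega

end Groth.Agent.EulerPn5
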