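import Groth.Agent.EulerPn5.IterExt
import Groth.Agent.Coherent.ProjSpaceCoh
import Groth.Agent.Coherent.GradedCoh
import Groth.Agent.PnCanon5.Chart
import Groth.Agent.FundLocal.SmoothImm
import Groth.Agent.WedgeDual5.Sheaf
import Groth.Agent.CommAlg4.HilbertLower

/-!
# Cohomology of twisted differential forms on projective space
-/

set_option autoImplicit false
set_option linter.style.haveILetI false
set_option linter.unusedSectionVars false
set_option backward.isDefEq.respectTransparency.types false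
set_option maxHeartbeats 1000000

universe u

open CategoryTheory CategoryTheory.Limits AlgebraicGeometry TopologicalSpace Opposite
open Groth.Agent.Coherent Groth.Agent.EulerLib Groth.Agent.CAlgH3 Groth.Agent.PicLib Groth.Agent.AmpleLib

namespace Groth.Agent.EulerPn5

section iso

variable {X : Scheme.{u}} (A : Type u) [CommRing A] [X.Over (Spec (CommRingCat.of A))]

/-- Cohomology of isomorphic modules, linearly. -/
noncomputable def hhEquiv {M N : X.Modules} (e : M ≅ N) (q : ℕ) : Coh.HH X M q ≃ₗ[A] Coh.HH X N q :=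
  let f : HA (Coherent.baseHom A X) M (⊤ : X.Opens) q ≃ₗ[A] HA (Coherent.baseHom A X) N (⊤ : X.Opens) q :=
    { postA (Coherent.baseHom A X) e.hom (⊤ : X.Opens) q with
      invFun := postA (Coherent.baseHom A X) e.inv (⊤ : X.Opens) q
      left_inv := fun x => (postA_comp _ e.hom e.inv q x).symm.trans (by rw [e.hom_inv_id, postA_id])
      right_inv := fun x => (postA_comp _ e.inv e.hom q x).symm.trans (by rw [e.inv_hom_id, postA_id]) }
  (HHBaseEquiv A M q).trans (f.trans (HHBaseEquiv A N q).symm)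

end iso

variable {n : ℕ} {A : Type u} [CommRing A] [QuasiSeparated (CohB1.ProjSpace.toSpec n A)]

local notation "O[" d "]" => Twist.twistProjSpace n A d
local notation "Ω₀" => Omega.sheaf (CohB1.ProjSpace.toSpec n A)

theorem rank_omega : FlatMod.IsFinLocFreeOfRank n Ω₀ := by
  haveI := PnCanon5.smoothOfRelativeDimension_toSpec n A
  exact FundLocal.isFinLocFreeOfRank_omega_qs (CohB1.ProjSpace.toSpec n A) n

theorem isFinLocFree_omega : FlatMod.IsFinLocFree Ω₀ := LocFreeLib.isFinLocFree_of_rank rank_omega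

theorem isFinLocFree_twist (d : ℤ) : FlatMod.IsFinLocFree O[d] :=
  SerreDual.isFinLocFree_of_invertible (Coherent.isInvertible_twistProjSpaceZ n d A)

theorem nonempty_tt {a b c : ℤ} (h : a + b = c) : Nonempty (CohB1.tensorMod O[a] O[b] ≅ O[c]) :=
  TwistLib.nonempty_tensor_twist_iso (𝒜 := CohB1.polyGrading n A)
    (fun x => by
      obtain ⟨i, hi⟩ := UPLib.exists_degOne_projSpace (R := CommRingCat.of A) n x
      exact ⟨_, MvPolynomial.isHomogeneous_X A i, hi⟩) h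

theorem nonempty_twist0 : Nonempty (O[0] ≅ Coh.structureModule (CohB1.ProjSpace n A)) :=
  TwistLib.nonempty_twist_zero_iso (𝒜 := CohB1.polyGrading n A)

theorem nonempty_tensor_twist0 (M : (CohB1.ProjSpace n A).Modules) :
    Nonempty (CohB1.tensorMod M O[0] ≅ M) := by
  obtain ⟨b⟩ := nonempty_twist0 (n := n) (A := A)
  exact ⟨AmpleLib.tensorIso (Iso.refl M) b ≪≫ AmpleLib.tensorComm _ _ ≪≫ unitTensorIso M⟩

theorem V_twist {d : ℤ} {q : ℕ} (h₀ : ¬ (q = 0 ∧ 0 ≤ d)) (hn : ¬ (q = n ∧ d ≤ -((n : ℤ) + 1))) :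
    ModCohSeq.V O[d] q :=
  Coherent.subsingleton_HH_twist q h₀ hn

/-- The basic sequence. -/
theorem exists_bott_seq (p : ℕ) (d : ℤ) {L L' : (CohB1.ProjSpace n A).Modules} (hL : ExtPow.IsExtPow p Ω₀ L)
    (hL' : ExtPow.IsExtPow (p + 1) Ω₀ L') :
    ∃ (K : (CohB1.ProjSpace n A).Modules) (f : CohB1.tensorMod L' O[d] ⟶ K) (g : K ⟶ CohB1.tensorMod L O[d])
      (w : f ≫ g = 0), It O[d - (p + 1)] (Nat.choose (n + 1) (p + 1)) K ∧ (ShortComplex.mk f g w).ShortExact := by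
  obtain ⟨a, b, w₀, hE⟩ := exists_euler_seq n A
  have hN := PicLib.isFinLocFreeOfRank_one (Coherent.isInvertible_twistProjSpaceZ n (-1) A)
  have hNf := LocFreeLib.isFinLocFree_of_rank hN
  obtain ⟨B, -, hB⟩ := ExtPowEx28.exists_isExtPow (isFinLocFree_mpow O[(-1 : ℤ)] hNf (n + 1)) (p + 1)
  have h1 : FlatMod.IsFinLocFreeOfRank 1 (Coh.structureModule (CohB1.ProjSpace n A)) :=
    PicLib.isFinLocFreeOfRank_one AmpleLib.isInvertible_structureModule
  obtain ⟨f, g, w, hT⟩ := exists_wedge_seq hE isFinLocFree_omega h1 p hL' hB hL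
  have hI : It O[-((p + 1 : ℕ) : ℤ)] (Nat.choose (n + 1) (p + 1)) B :=
    it_extPow_mpow hN (fun p => O[-(p : ℤ)])
      (by
        obtain ⟨e⟩ := nonempty_twist0 (n := n) (A := A)
        exact ⟨e.symm⟩)
      (fun p => nonempty_tt (by push_cast; ring)) (n + 1) (p + 1) B hB
  obtain ⟨c⟩ := nonempty_tt (n := n) (A := A) (show -((p + 1 : ℕ) : ℤ) + d = d - (p + 1) by push_cast; ring)
  have hTf := isFinLocFree_twist (n := n) (A := A) d
  haveI := CAlgH3.LocFreeFactor.isQCoh_of_finLocFree hTf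
  obtain ⟨U, hU, e₁, e₂, e₃⟩ := VarietyLib.exists_tensorSeq hT O[d] fun x => by
    haveI := Props12.free_stalk_of_isFinLocFree O[d] hTf x
    infer_instance
  let i₁ : U.X₁ ≅ CohB1.tensorMod L' O[d] := eqToIso e₁
  let i₂ : U.X₂ ≅ CohB1.tensorMod B O[d] := eqToIso e₂
  let i₃ : U.X₃ ≅ CohB1.tensorMod L O[d] := eqToIso e₃ ≪≫
    AmpleLib.tensorIso (AmpleLib.tensorComm L (Coh.structureModule (CohB1.ProjSpace n A)) ≪≫ unitTensorIso L)
      (Iso.refl _)
  refine ⟨CohB1.tensorMod B O[d], i₁.inv ≫ U.f ≫ i₂.hom, i₂.inv ≫ U.g ≫ i₃.hom, by simp [U.zero_assoc],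
    (hI.tensor hTf).change c, ?_⟩
  exact ShortComplex.shortExact_of_iso (ShortComplex.isoMk i₁ i₂ i₃ (by simp) (by simp)) hU

theorem exists_omegaPow (p : ℕ) :
    ∃ L : (CohB1.ProjSpace n A).Modules, FlatMod.IsFinLocFree L ∧ ExtPow.IsExtPow p Ω₀ L :=
  ExtPowEx28.exists_isExtPow isFinLocFree_omega p

theorem V_of_rank_lt {p : ℕ} (hp : n < p) {L : (CohB1.ProjSpace n A).Modules} (hL : ExtPow.IsExtPow p Ω₀ L)
    (d : ℤ) (q : ℕ) : ModCohSeq.V (CohB1.tensorMod L O[d]) q :=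
  V_of_isZero ((((DCoh.tensorBi (X := CohB1.ProjSpace n A)).obj O[d]).map_isZero
    (isZero_of_isExtPow rank_omega hL hp)).of_iso (AmpleLib.tensorComm _ _)) q

theorem nonempty_zero_iso {L : (CohB1.ProjSpace n A).Modules} (hL : ExtPow.IsExtPow 0 Ω₀ L) (d : ℤ) :
    Nonempty (CohB1.tensorMod L O[d] ≅ O[d]) := by
  obtain ⟨e⟩ := KvbLam28.exists_iso_of_isExtPow hL (KvbLam28.isExtPow_zero _)
  exact ⟨AmpleLib.tensorIso e (Iso.refl _) ≪≫ unitTensorIso _⟩

/-- `H^q(Ω^p(d)) = 0` for `d > 0`, `q > 0`. -/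
theorem V_pos {d : ℤ} (hd : 0 < d) : ∀ (m p : ℕ) {L : (CohB1.ProjSpace n A).Modules}, n < m + p →
    ExtPow.IsExtPow p Ω₀ L → ∀ q, 0 < q → ModCohSeq.V (CohB1.tensorMod L O[d]) q
  | 0, p, L, hm, hL, q, _ => V_of_rank_lt (by omega) hL d q
  | m + 1, p, L, hm, hL, q, hq => by
    by_cases hp : n < p
    · exact V_of_rank_lt hp hL d q
    obtain ⟨L', -, hL'⟩ := exists_omegaPow (n := n) (A := A) (p + 1)
    obtain ⟨K, f, g, w, hK, hS⟩ := exists_bott_seq p d hL hL'
    exact ModCohSeq.V_right hS (hK.vanish (V_twist (by omega) (by omega)))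
      (V_pos hd m (p + 1) (by omega) hL' (q + 1) q.succ_pos)

/-- `H^q(Ω^p(d)) = 0` for `d < 0`, `q < n`. -/
theorem V_neg {d : ℤ} (hd : d < 0) : ∀ (p : ℕ) {L : (CohB1.ProjSpace n A).Modules},
    ExtPow.IsExtPow p Ω₀ L → ∀ q, q < n → ModCohSeq.V (CohB1.tensorMod L O[d]) q
  | 0, L, hL, q, hq => by
    obtain ⟨e⟩ := nonempty_zero_iso hL d
    exact ModCohSeq.V_of_iso e.symm (V_twist (by omega) (by omega))
  | p + 1, L', hL', q, hq => by
    obtain ⟨L, -, hL⟩ := exists_omegaPow (n := n) (A := A) p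
    obtain ⟨K, f, g, w, hK, hS⟩ := exists_bott_seq p d hL hL'
    have hKv : ModCohSeq.V K q := hK.vanish (V_twist (by omega) (by omega))
    rcases q with _ | q
    · refine (ModCohSeq.V_iff_HMod _ 0).2 ?_
      haveI : Subsingleton (HA (RingHom.id _) K (⊤ : (CohB1.ProjSpace n A).Opens) 0) :=
        (ModCohSeq.V_iff_HMod _ 0).1 hKv
      exact (EulerLib.postA_zero_injective (RingHom.id _) hS ⊤).subsingleton
    · exact ModCohSeq.V_left hS (V_neg hd p hL q (by omega)) hKv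

theorem V_mid_zero {p : ℕ} (hp : p + 1 ≤ n) {K : (CohB1.ProjSpace n A).Modules} {m : ℕ}
    (hK : It O[(0 : ℤ) - (p + 1)] m K) (q : ℕ) : ModCohSeq.V K q :=
  hK.vanish (V_twist (by omega) (by omega))

/-- `H^q(Ω^p) = 0` for `q ≠ p`. -/
theorem V_zero : ∀ (p : ℕ) {L : (CohB1.ProjSpace n A).Modules},
    ExtPow.IsExtPow p Ω₀ L → ∀ q, q ≠ p → ModCohSeq.V (CohB1.tensorMod L O[0]) q
  | 0, L, hL, q, hq => by
    obtain ⟨e⟩ := nonempty_zero_iso hL (0 : ℤ)
    exact ModCohSeq.V_of_iso e.symm (V_twist (by omega) (by omega))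
  | p + 1, L', hL', q, hq => by
    by_cases hp : n < p + 1
    · exact V_of_rank_lt hp hL' 0 q
    obtain ⟨L, -, hL⟩ := exists_omegaPow (n := n) (A := A) p
    obtain ⟨K, f, g, w, hK, hS⟩ := exists_bott_seq p 0 hL hL'
    have hKv := V_mid_zero (by omega) hK
    rcases q with _ | q
    · refine (ModCohSeq.V_iff_HMod _ 0).2 ?_
      haveI : Subsingleton (HA (RingHom.id _) K (⊤ : (CohB1.ProjSpace n A).Opens) 0) :=
        (ModCohSeq.V_iff_HMod _ 0).1 (hKv 0)
      exact (EulerLib.postA_zero_injective (RingHom.id _) hS ⊤).subsingleton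
    · exact ModCohSeq.V_left hS (V_zero p hL q (by omega)) (hKv (q + 1))

/-- `H^p(Ω^p) ≅ A`. -/
theorem nonempty_HH_diag : ∀ (p : ℕ) {L : (CohB1.ProjSpace n A).Modules}, p ≤ n →
    ExtPow.IsExtPow p Ω₀ L → Nonempty (Coh.HH (CohB1.ProjSpace n A) (CohB1.tensorMod L O[0]) p ≃ₗ[A] A)
  | 0, L, _, hL => by
    obtain ⟨e⟩ := nonempty_zero_iso hL (0 : ℤ)
    obtain ⟨h⟩ := Coherent.nonempty_HH_zero_twist n A 0
    let c : A →ₗ[A] MvPolynomial.homogeneousSubmodule (Fin (n + 1)) A 0 :=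
      (Algebra.linearMap A (MvPolynomial (Fin (n + 1)) A)).codRestrict _ fun a => MvPolynomial.isHomogeneous_C _ a
    have hc : Function.Bijective c := by
      refine ⟨fun a b hab => MvPolynomial.C_injective _ _ (congrArg Subtype.val hab), fun m => ?_⟩
      obtain ⟨m, hm⟩ := m
      rw [MvPolynomial.homogeneousSubmodule_zero, Submodule.mem_one] at hm
      obtain ⟨a, rfl⟩ := hm
      exact ⟨a, rfl⟩
    exact ⟨(hhEquiv A e 0).trans (h.trans (LinearEquiv.ofBijective c hc).symm)⟩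
  | p + 1, L', hp, hL' => by
    obtain ⟨L, -, hL⟩ := exists_omegaPow (n := n) (A := A) p
    obtain ⟨K, f, g, w, hK, hS⟩ := exists_bott_seq p 0 hL hL'
    obtain ⟨e⟩ := nonempty_delta_equiv A hS p (V_mid_zero hp hK p) (V_mid_zero hp hK (p + 1))
    obtain ⟨h⟩ := nonempty_HH_diag p (by omega) hL
    exact ⟨e.symm.trans h⟩

end Groth.Agent.EulerPn5
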