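import Groth.Agent.KRRPBLib.Chart
import Groth.Agent.UPLib.ProjSpace
import Groth.Agent.PnEmb.Criterion
import Groth.Agent.Coherent.ProjSpaceBC
import Groth.Agent.RelVALib.UPFunctor
import Groth.Agent.CohCmpLib.Degree0

/-!
# Projective space is the projective bundle of a free module
-/

set_option autoImplicit false
set_option linter.unusedSectionVars false
set_option linter.style.haveILetI false
set_option backward.isDefEq.respectTransparency.types false
set_option maxHeartbeats 2000000

universe u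

open AlgebraicGeometry CategoryTheory TopologicalSpace Opposite
open Groth.Agent.Coherent Groth.Agent.PicLib Groth.Agent.AmpleLib Groth.Agent.KRRPBLib

namespace Groth.Agent.EulerPn5

section

variable {X P : Scheme.{u}} {E : X.Modules} {π : P ⟶ X} {O1 : P.Modules}
  (q : (Scheme.Modules.pullback π).obj E ⟶ O1) {U : X.Opens}

/-- The loci of a basis cover, for any quotient onto an invertible module. -/
theorem exists_mem_D_of_epi [Coh.IsQCoh E] (he : Epi q) (hL : PicF.IsInvertible O1) {n : ℕ}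
    (b : Module.Basis (Fin n) Γ(X, U) Γ(E, U)) {y : P}
    (hy : y ∈ π ⁻¹ᵁ U) (hU : IsAffineOpen U) : ∃ i, y ∈ D q (b i) := by
  have : Epi (((Scheme.Modules.pullbackPushforwardAdjunction π).homEquiv E O1).symm (adjunct q)) := by
    rw [adjunct, Equiv.symm_apply_apply]; exact he
  obtain ⟨V, -, e, W, hW, hyW, hgen⟩ :=
    RelVALib.exists_gen_of_epi π hL (adjunct q) y
  obtain ⟨W₁, hWU, hWV, hyW₁, c, hc⟩ := exists_near_eq_sum hU b e hy (hW hyW)
  let W₂ := W ⊓ π ⁻¹ᵁ W₁
  have hg := hgen.restrict (inf_le_left : W₂ ≤ W)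
  rw [resM_resM] at hg
  let d : Fin n → Γ(P, W₂) := fun i => hg.coef le_rfl (resM O1 (inf_le_right.trans (π.preimage_mono hWU)) (sec q (b i)))
  have hd : ∀ i, d i • resM O1 (inf_le_left.trans hW : W₂ ≤ π ⁻¹ᵁ V) ((adjunct q).app V e) =
      resM O1 (inf_le_right.trans (π.preimage_mono hWU)) (sec q (b i)) := fun i => by
    have := hg.coef_spec le_rfl (resM O1 (inf_le_right.trans (π.preimage_mono hWU)) (sec q (b i)))
    rwa [resM_self] at this
  have hsum : (∑ i, res (inf_le_right : W₂ ≤ π ⁻¹ᵁ W₁) (π.app W₁ (c i)) * d i) = 1 := by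
    refine (hg W₂ le_rfl).1 ?_
    show (∑ i, _) • _ = (1 : Γ(P, W₂)) • _
    rw [resM_self, one_smul, Finset.sum_smul]
    have h1 := congrArg ((adjunct q).app W₁) hc
    rw [map_sum, app_resM] at h1
    simp only [Scheme.Modules.Hom.app_smul, app_resM] at h1
    have h2 := congrArg (resM O1 (inf_le_right : W₂ ≤ π ⁻¹ᵁ W₁)) h1
    erw [map_sum] at h2
    refine Eq.trans ?_ (h2.symm.trans (resM_resM O1 (π.preimage_mono hWV) _ _))
    refine Finset.sum_congr rfl fun i _ => ?_
    rw [mul_smul, hd i]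
    refine Eq.trans ?_ (resM_smul O1 _ _ _).symm
    exact congrArg (res _ (π.app W₁ (c i)) • ·) (resM_resM O1 (π.preimage_mono hWU) _ _).symm
  have hy₂ : y ∈ W₂ := ⟨hyW, hyW₁⟩
  obtain ⟨i, hi⟩ : ∃ i, y ∈ P.basicOpen (d i) := by
    by_contra hcon
    push Not at hcon
    have h := congrArg (P.presheaf.germ W₂ y hy₂) hsum
    rw [map_sum, map_one] at h
    refine IsLocalRing.notMem_maximalIdeal.2 (isUnit_one (M := P.presheaf.stalk y)) (h ▸ Ideal.sum_mem _ fun i _ => ?_)
    rw [map_mul]
    refine Ideal.mul_mem_left _ _ ?_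
    exact (IsLocalRing.mem_maximalIdeal _).2 fun hu => hcon i ((P.mem_basicOpen _ y hy₂).2 hu)
  refine ⟨i, le_D q ((P.basicOpen_le _).trans (inf_le_right.trans (π.preimage_mono hWU))) ?_ hi⟩
  have h := RelVALib.isGen_basicOpen_of_smul hg (hd i)
  rwa [resM_resM] at h

end

variable (n : ℕ) (A : Type u) [CommRing A]

/-- The free module of rank `n + 1` on the base. -/
noncomputable abbrev base : (Spec (CommRingCat.of A)).Modules :=
  freeMod (Spec (CommRingCat.of A)) (ULift.{u} (Fin (n + 1)))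

/-- The sections `X_i` of `O(1)`. -/
noncomputable abbrev crd (i : Fin (n + 1)) : Γ(Twist.twistProjSpace n A 1, ⊤) := ProjUP.coord n A i

/-- The map to the pushforward of `O(1)` given by the coordinates. -/
noncomputable def baseHom :
    base n A ⟶ (Scheme.Modules.pushforward (CohB1.ProjSpace.toSpec n A)).obj (Twist.twistProjSpace n A 1) :=
  freeDesc fun i => unitDesc _ (crd n A i.down)

/-- The tautological quotient `O^(n+1) ⟶ O(1)`. -/
noncomputable def taut :
    (Scheme.Modules.pullback (CohB1.ProjSpace.toSpec n A)).obj (base n A) ⟶ Twist.twistProjSpace n A 1 :=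
  ((Scheme.Modules.pullbackPushforwardAdjunction (CohB1.ProjSpace.toSpec n A)).homEquiv _ _).symm (baseHom n A)

theorem exists_basis_base : ∃ b : Module.Basis (Fin (n + 1)) Γ(Spec (CommRingCat.of A), ⊤) Γ(base n A, ⊤),
    ∀ i, b i = freeBasisVec (ULift.up i) ⊤ := by
  classical
  refine ⟨((Pi.basisFun Γ(Spec (CommRingCat.of A), ⊤) (ULift.{u} (Fin (n + 1)))).map
    (freeSectionsEquiv (X := Spec (CommRingCat.of A)) ⊤).symm).reindex Equiv.ulift, fun i => ?_⟩
  rw [Module.Basis.reindex_apply, Module.Basis.map_apply, LinearEquiv.symm_apply_eq]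
  funext j
  show Pi.basisFun _ _ (ULift.up i) j = freeCoord ⊤ j (freeBasisVec (ULift.up i) ⊤)
  rw [freeCoord_basisVec, Pi.basisFun_apply, Pi.single_apply]
  exact if_congr eq_comm rfl rfl

theorem baseHom_app (i : Fin (n + 1)) :
    (baseHom n A).app ⊤ (freeBasisVec (ULift.up i) ⊤) = crd n A i :=
  (app_freeBasisVec _ (ULift.up i) ⊤).trans ((unitVal_unitDesc _ _ ⊤).trans (resM_self _ le_top _))

theorem adjunct_taut : adjunct (taut n A) = baseHom n A := Equiv.apply_symm_apply _ _

theorem epi_taut : Epi (taut n A) :=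
  RelVALib.epi_of_exists_gen _ (baseHom n A) fun y => by
    obtain ⟨i, hi⟩ := UPLib.exists_degOne_projSpace (R := CommRingCat.of A) n y
    refine ⟨⊤, freeBasisVec (ULift.up i) ⊤, Proj.basicOpen _ (MvPolynomial.X i), le_top, hi, ?_⟩
    rw [baseHom_app]
    have e := PnEmb.preimage_chartOpen (𝟙 (CohB1.ProjSpace n A))
      ((Scheme.Modules.pullbackId (CohB1.ProjSpace n A)).app (Twist.twistProjSpace n A 1))
      (fun l => CohCmpLib.pullbackId_hom_app_pullSec (Twist.twistProjSpace n A 1) ⊤ (crd n A l)) i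
    exact (le_glocus_iff (crd n A i) _).1 e.le

theorem isProjBundle_projSpace :
    KRR.IsProjBundle (CohB1.ProjSpace.toSpec n A) (base n A) (Twist.twistProjSpace n A 1) (taut n A) := by
  classical
  have hN : PicF.IsInvertible (Twist.twistProjSpace n A 1) := Coherent.isInvertible_twistProjSpaceZ n 1 A
  haveI : Coh.IsQCoh (base n A) := isQCoh_freeMod
  refine ⟨PicLib.isFinLocFreeOfRank_one hN, epi_taut n A, fun T g L hLr s hs => ?_⟩
  have hL : PicF.IsInvertible L := isInvertible_of_rankOne hLr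
  obtain ⟨b, hb⟩ := exists_basis_base n A
  have hU : IsAffineOpen (⊤ : (Spec (CommRingCat.of A)).Opens) := isAffineOpen_top _
  let t := (Scheme.Modules.pullbackPushforwardAdjunction g).homEquiv (base n A) L s
  let σ : Fin (n + 1) → Γ(L, ⊤) := fun i => t.app ⊤ (b i)
  have hcov : ∀ y : T, ∃ i, y ∈ glocus L (σ i) := fun y => by
    obtain ⟨i, hi⟩ := exists_mem_D_of_epi s hs hL b (y := y) (U := ⊤) trivial hU
    exact ⟨i, (le_glocus_iff (σ i) (D s (b i))).2 (isGen_D s (b i)) hi⟩
  obtain ⟨h, hh, τ, hτ⟩ := UPLib.exists_hom_projSpace n g hL σ hcov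
  have key : ∀ {r : T ⟶ CohB1.ProjSpace n A} (hr : r ≫ CohB1.ProjSpace.toSpec n A = g)
      (e : (Scheme.Modules.pullback r).obj (Twist.twistProjSpace n A 1) ≅ L),
      ((Scheme.Modules.pullbackCongr hr).inv.app (base n A) ≫
        (Scheme.Modules.pullbackComp r (CohB1.ProjSpace.toSpec n A)).inv.app (base n A) ≫
        (Scheme.Modules.pullback r).map (taut n A) ≫ e.hom = s) ↔
      ∀ i, e.hom.app ⊤ (ProjUP.pullSec r (Twist.twistProjSpace n A 1) (ProjUP.coord n A i)) = σ i := by
    intro r hr e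
    subst hr
    rw [← ((Scheme.Modules.pullbackPushforwardAdjunction (r ≫ CohB1.ProjSpace.toSpec n A)).homEquiv (base n A) L).injective.eq_iff]
    have hval : ∀ i, ((Scheme.Modules.pullbackPushforwardAdjunction (r ≫ CohB1.ProjSpace.toSpec n A)).homEquiv (base n A) L
        ((Scheme.Modules.pullbackCongr (rfl : r ≫ CohB1.ProjSpace.toSpec n A = _)).inv.app (base n A) ≫
          (Scheme.Modules.pullbackComp r (CohB1.ProjSpace.toSpec n A)).inv.app (base n A) ≫
          (Scheme.Modules.pullback r).map (taut n A) ≫ e.hom)).app ⊤ (b i) =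
        e.hom.app ⊤ (ProjUP.pullSec r (Twist.twistProjSpace n A 1) (ProjUP.coord n A i)) := fun i => by
      rw [Scheme.Modules.pullbackCongr]
      simp only [eqToIso_refl, Iso.refl_inv, NatTrans.id_app, Category.id_comp]
      refine (app_adjunct_pullback r e.hom ⊤ (b i)).trans ?_
      rw [adjunct_taut, hb, baseHom_app]
      rfl
    constructor
    · intro heq i
      rw [← hval i, heq]
    · intro hv
      exact hom_ext_basis hU b _ rfl _ _ fun i => (hval i).trans (hv i)
  refine ⟨h, ⟨hh, τ, (key hh τ).2 hτ⟩, fun r ⟨hr, e, he⟩ => ?_⟩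
  refine UPLib.eq_of_iso_projSpace n (hr.trans hh.symm) (e ≪≫ τ.symm) fun i => ?_
  show τ.inv.app ⊤ (e.hom.app ⊤ _) = _
  rw [(key hr e).1 he i, ← hτ i]
  exact ConcreteCategory.congr_hom (congrArg (fun z => Scheme.Modules.Hom.app z ⊤) τ.hom_inv_id) _

end Groth.Agent.EulerPn5
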