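import Groth.Agent.CI14.Coh
import Groth.Agent.EulerPn5.Bott
import Groth.Agent.EulerLib.SupportVanishing
import Groth.Agent.PnCanon5.Dualizing
import Groth.Agent.FlatMorAdm.LocFreeApps

/-!
# Top cohomology of the twists on a complete intersection
-/

set_option autoImplicit false
set_option linter.style.haveILetI false
set_option linter.unusedSectionVars false
set_option backward.isDefEq.respectTransparency false
set_option backward.isDefEq.respectTransparency.types false
set_option maxHeartbeats 1000000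

universe u

open CategoryTheory CategoryTheory.Limits AlgebraicGeometry Opposite TopologicalSpace
open Groth.Agent Groth.Agent.Coherent Groth.Agent.PicLib Groth.Agent.DimLib Groth.Agent.CAlgH3.ModCohSeq Groth.Agent.AmpleLib

namespace Groth.Agent.EulerPn5

theorem V_mpow {X : Scheme.{u}} {N : X.Modules} {q : ℕ} (h : V N q) : ∀ m, V (mpow N m) q
  | 0 => EulerLib.subsingleton_HH_of_isZero (isZero_zero _) q
  | m + 1 => V_mid (S := ShortComplex.mk (biprod.inl : mpow N m ⟶ mpow N m ⊞ N) biprod.snd biprod.inl_snd)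
      (ShortComplex.Splitting.ofHasBinaryBiproduct (mpow N m) N).shortExact (V_mpow h m) h

theorem V_pullback_iff {X Y Z : Scheme.{u}} (e : Z ⟶ Y) [IsIso e] (g : Y ⟶ X) {f : Z ⟶ X} (he : e ≫ g = f)
    (M : X.Modules) [Coh.IsQCoh M] (q : ℕ) :
    V ((Scheme.Modules.pullback f).obj M) q ↔ V ((Scheme.Modules.pullback g).obj M) q := by
  subst he
  exact ⟨fun h => CI14.V_of_eq (IsIso.inv_hom_id_assoc e g).symm (CI14.V_pullback_of_iso (inv e) (e ≫ g) M q h),
    fun h => CI14.V_pullback_of_iso e g M q h⟩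

theorem V_push_pullback_iff {X Y Z : Scheme.{u}} (j : Z ⟶ Y) [IsClosedImmersion j] (g : Y ⟶ X)
    (M : X.Modules) [Coh.IsQCoh M] (q : ℕ) :
    V ((Scheme.Modules.pushforward j).obj ((Scheme.Modules.pullback j).obj ((Scheme.Modules.pullback g).obj M))) q ↔
      V ((Scheme.Modules.pullback (j ≫ g)).obj M) q := by
  haveI := EGA43.InjFibre.isQCoh_pullback g M
  haveI := EGA43.InjFibre.isQCoh_pullback j ((Scheme.Modules.pullback g).obj M)
  rw [CI14.V_push_iff j]
  exact ⟨V_of_iso ((Scheme.Modules.pullbackComp j g).app M), V_of_iso ((Scheme.Modules.pullbackComp j g).app M).symm⟩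

variable {k : Type u} [Field k] {n : ℕ}


/-- Top cohomology of `O(i)` on a subscheme can only decrease with `i`. -/
theorem V_twist_succ {X : Scheme.{u}} [AlgebraicGeometry.IsNoetherian X] [X.IsSeparated] (ι : X ⟶ CohB1.ProjSpace n k) {q : ℕ}
    (hX : topologicalKrullDim X ≤ (q : WithBot ℕ∞)) (i : ℤ)
    (h : V ((Scheme.Modules.pullback ι).obj (Twist.twistProjSpace n k i)) q) :
    V ((Scheme.Modules.pullback ι).obj (Twist.twistProjSpace n k (i + 1))) q := by
  obtain ⟨f, g, w, hS⟩ := exists_euler_seq n k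
  haveI : Epi g := hS.epi_g
  let T : (CohB1.ProjSpace n k).Modules := Twist.twistProjSpace n k (i + 1)
  let N : (CohB1.ProjSpace n k).Modules := Twist.twistProjSpace n k (-1)
  let F := tensE T ⋙ Scheme.Modules.pullback ι
  haveI : PreservesColimitsOfSize.{u, u} (tensE T) := (tensorHomAdj T).leftAdjoint_preservesColimits
  haveI : PreservesColimitsOfSize.{u, u} (Scheme.Modules.pullback ι) :=
    (Scheme.Modules.pullbackPushforwardAdjunction ι).leftAdjoint_preservesColimits
  haveI : PreservesColimitsOfSize.{0, 0} (tensE T) := (tensorHomAdj T).leftAdjoint_preservesColimits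
  haveI : PreservesColimitsOfSize.{0, 0} (Scheme.Modules.pullback ι) :=
    (Scheme.Modules.pullbackPushforwardAdjunction ι).leftAdjoint_preservesColimits
  haveI : Epi (F.map g) := inferInstance
  obtain ⟨e⟩ := nonempty_mpow_sigma N (n + 1)
  obtain ⟨e'⟩ := nonempty_mpow_sigma (F.obj N) (n + 1)
  obtain ⟨a⟩ := nonempty_tt (n := n) (A := k) (show i + 1 + -1 = i by ring)
  have hN : V (F.obj N) q := V_of_iso ((Scheme.Modules.pullback ι).mapIso a).symm h
  have hM : V (F.obj (mpow N (n + 1))) q :=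
    V_of_iso (e'.symm ≪≫ (PreservesCoproduct.iso F (fun _ : ULift.{u} (Fin (n + 1)) => N)).symm ≪≫ F.mapIso e)
      (V_mpow hN (n + 1))
  have hT : FlatMod.IsFinLocFree T := isFinLocFree_twist _
  haveI : Coh.IsQCoh (F.obj (mpow N (n + 1))) :=
    CAlgH3.LocFreeFactor.isQCoh_of_finLocFree (FlatMorAdm.isFinLocFree_pullback ι
      (ExtFilt28.isFinLocFree_tensor hT (isFinLocFree_mpow _ (isFinLocFree_twist _) _)))
  haveI : Coh.IsQCoh (F.obj (Coh.structureModule (CohB1.ProjSpace n k))) :=
    CAlgH3.LocFreeFactor.isQCoh_of_finLocFree (FlatMorAdm.isFinLocFree_pullback ι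
      (ExtFilt28.isFinLocFree_tensor hT (Coherent.CohBC.isFinLocFree_structureModule _)))
  haveI := Coherent.isQCoh_kernel (F.map g)
  have hK : (ShortComplex.mk (kernel.ι (F.map g)) (F.map g) (kernel.condition _)).ShortExact :=
    { exact := ShortComplex.exact_of_f_is_kernel _ (kernelIsKernel _)
      mono_f := inferInstance
      epi_g := inferInstance }
  exact V_of_iso ((Scheme.Modules.pullback ι).mapIso (AmpleLib.tensorComm T _ ≪≫ unitTensorIso T))
    (V_right hK hM (EulerLib.subsingleton_HH_of_dim _ hX (Nat.lt_succ_self q)))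

/-- Top cohomology of complete intersections. -/
theorem top_ci : ∀ (r : ℕ) (a : Fin r → ℕ) (_ : ∀ l, 1 ≤ a l) (G : ∀ l : Fin r, LefPen.Form n k (a l)),
    r < n → CI14.IsProperCI G →
    (∀ i : ℤ, (∑ l, (a l : ℤ)) - n - 1 < i →
      V ((Scheme.Modules.pullback (LefPen.ciIdeal G).subschemeι).obj (Twist.twistProjSpace n k i)) (n - r)) ∧
    ¬ V ((Scheme.Modules.pullback (LefPen.ciIdeal G).subschemeι).obj
      (Twist.twistProjSpace n k ((∑ l, (a l : ℤ)) - n - 1))) (n - r) := by
  intro r
  induction r with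
  | zero =>
    intro a _ G hn _
    have hI : LefPen.ciIdeal G = ⊥ := iSup_of_empty _
    have hk : Scheme.Hom.ker (𝟙 (CohB1.ProjSpace n k)) = (LefPen.ciIdeal G).subschemeι.ker := by
      rw [Scheme.IdealSheafData.ker_subschemeι, hI, Scheme.Hom.ker_eq_bot_of_isIso]
    let e := IsClosedImmersion.lift (𝟙 (CohB1.ProjSpace n k)) (LefPen.ciIdeal G).subschemeι hk.le
    haveI : IsIso e := IsClosedImmersion.isIso_of_ker_eq (LefPen.ciIdeal G).subschemeι (𝟙 _) e
      (IsClosedImmersion.lift_fac _ _ _) hk.symm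
    have he : e ≫ 𝟙 _ = (LefPen.ciIdeal G).subschemeι := IsClosedImmersion.lift_fac _ _ _
    have hι : IsIso (LefPen.ciIdeal G).subschemeι := he ▸ inferInstance
    have key : ∀ i : ℤ, V ((Scheme.Modules.pullback (LefPen.ciIdeal G).subschemeι).obj (Twist.twistProjSpace n k i)) n ↔
        V (Twist.twistProjSpace n k i) n := fun i => by
      haveI := CI14.isIso_clUnit_of_isIso (LefPen.ciIdeal G).subschemeι (Twist.twistProjSpace n k i)
      haveI : Coh.IsQCoh ((Scheme.Modules.pullback (LefPen.ciIdeal G).subschemeι).obj (Twist.twistProjSpace n k i)) :=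
        AmpleLib.isQCoh_of_isInvertible (PicLoc.isInvertible_pullback _ (CI14.isInvertible_twist' i))
      rw [← CI14.V_push_iff (LefPen.ciIdeal G).subschemeι]
      exact ⟨fun h => V_of_isIso' (clUnit (LefPen.ciIdeal G).subschemeι (Twist.twistProjSpace n k i)) h,
        fun h => V_of_isIso (clUnit (LefPen.ciIdeal G).subschemeι (Twist.twistProjSpace n k i)) h⟩
    simp only [Finset.univ_eq_empty, Finset.sum_empty, Nat.sub_zero]
    refine ⟨fun i hi => (key i).2 (V_twist (by omega) (by omega)), fun h => ?_⟩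
    obtain ⟨L, -, hL⟩ := exists_omegaPow (n := n) (A := k) n
    obtain ⟨eW⟩ := PnCanon5.nonempty_topDiff_twist hL
    obtain ⟨g⟩ := nonempty_HH_diag (n := n) (A := k) n le_rfl hL
    obtain ⟨d⟩ := nonempty_tensor_twist0 L
    have h0 : V (CohB1.tensorMod L (Twist.twistProjSpace n k 0)) n :=
      V_of_iso (d ≪≫ eW).symm (V_of_iso (eqToIso (congrArg (Twist.twistProjSpace n k)
        (show (0 : ℤ) - n - 1 = -((n : ℤ) + 1) by ring))) ((key _).1 h))
    haveI : Subsingleton (Coh.HH (CohB1.ProjSpace n k) (CohB1.tensorMod L (Twist.twistProjSpace n k 0)) n) := h0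
    exact not_subsingleton k g.symm.toEquiv.subsingleton
  | succ r ih =>
    intro a ha G hr hG
    obtain ⟨ihV, ihN⟩ := ih (fun l => a l.castSucc) (fun l => ha l.castSucc) (fun l => G l.castSucc) (by omega)
      (CI14.isProperCI_castSucc ha G (by omega) hG)
    obtain ⟨cV, -⟩ := CI14.coh_ci r (fun l => a l.castSucc) (fun l => ha l.castSucc) (fun l => G l.castSucc) (by omega)
      (CI14.isProperCI_castSucc ha G (by omega) hG)
    let J := CI14.cut G
    let ι' := (CI14.prev G).subschemeι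
    have hJ : PicF.IsInvertible (ClSub.idealMod J) :=
      FlatMor12.IdealModGen.isInvertible_idealMod J (CI14.isEffCartier_cut G hG)
    obtain ⟨eJ⟩ := CI14.nonempty_idealMod_cut_iso G ha (by omega) hG
    have hk : (J.subschemeι ≫ ι').ker = (LefPen.ciIdeal G).subschemeι.ker := by
      rw [CI14.ker_comap_comp_subschemeι, CI14.prev_sup_eq, Scheme.IdealSheafData.ker_subschemeι]
    let e := IsClosedImmersion.lift (J.subschemeι ≫ ι') (LefPen.ciIdeal G).subschemeι hk.le
    haveI : IsIso e := IsClosedImmersion.isIso_of_ker_eq (LefPen.ciIdeal G).subschemeι (J.subschemeι ≫ ι') e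
      (IsClosedImmersion.lift_fac _ _ _) hk.symm
    have he : e ≫ (J.subschemeι ≫ ι') = (LefPen.ciIdeal G).subschemeι := IsClosedImmersion.lift_fac _ _ _
    let O' : ℤ → (CI14.prev G).subscheme.Modules := fun i => (Scheme.Modules.pullback ι').obj (Twist.twistProjSpace n k i)
    have hM : ∀ i : ℤ, PicF.IsInvertible (O' i) := fun i => PicLoc.isInvertible_pullback _ (CI14.isInvertible_twist' i)
    have hsum : (∑ l, (a l : ℤ)) = (∑ l : Fin r, (a l.castSucc : ℤ)) + a (Fin.last r) := Fin.sum_univ_castSucc _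
    obtain ⟨p, hp⟩ : ∃ p, n - (r + 1) = p := ⟨_, rfl⟩
    have hp1 : n - r = p + 1 := by omega
    rw [hp1] at ihV ihN
    have hiso : ∀ i : ℤ, Nonempty (CohB1.tensorMod (O' i) (ClSub.idealMod J) ≅ O' (i - a (Fin.last r))) := fun i => by
      obtain ⟨et⟩ := CI14.nonempty_twist_tensor (n := n) (k := k) i (-(a (Fin.last r) : ℤ)) (i - (a (Fin.last r) : ℤ)) (by ring)
      exact ⟨AmpleLib.tensorIso (Iso.refl _) eJ ≪≫
        (DCat.PullTensor.pullTensorIso ι' _ _).symm ≪≫ (Scheme.Modules.pullback ι').mapIso et⟩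
    have hres : ∀ i : ℤ, V ((Scheme.Modules.pullback (LefPen.ciIdeal G).subschemeι).obj (Twist.twistProjSpace n k i)) p ↔
        V ((CI14.divSeq J hJ (O' i)).X₃) p := fun i =>
      haveI := CI14.isQCoh_twist' (n := n) (k := k) i
      (V_pullback_iff e (J.subschemeι ≫ ι') he (Twist.twistProjSpace n k i) p).trans
        (V_push_pullback_iff J.subschemeι ι' (Twist.twistProjSpace n k i) p).symm
    rw [hp]
    refine ⟨fun i hi => ?_, fun h => ?_⟩
    · obtain ⟨ej⟩ := hiso i
      exact (hres i).2 (V_right (CI14.divSeq_shortExact J hJ (hM i)) (cV i p (by omega) (by omega))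
        (V_of_iso ej.symm (ihV _ (by omega))))
    · obtain ⟨ej⟩ := hiso ((∑ l, (a l : ℤ)) - n - 1)
      have h1 := V_left (CI14.divSeq_shortExact J hJ (hM _)) ((hres _).1 h)
        (ihV ((∑ l, (a l : ℤ)) - n - 1) (by have := ha (Fin.last r); omega))
      refine ihN (V_of_iso ((Scheme.Modules.pullback ι').mapIso (eqToIso (congrArg (Twist.twistProjSpace n k) ?_)))
        (V_of_iso ej h1))
      omega

/-- `H^1` of `O(c)` on a complete intersection curve. -/
theorem V_ci_curve_iff {m : ℕ} (hm : m + 1 = n) {a : Fin m → ℕ} (ha : ∀ l, 1 ≤ a l)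
    (G : ∀ l : Fin m, LefPen.Form n k (a l)) (hG : CI14.IsProperCI G)
    (hX : topologicalKrullDim ↥(LefPen.ciIdeal G).subscheme ≤ (1 : WithBot ℕ∞)) (c : ℤ) :
    V ((Scheme.Modules.pullback (LefPen.ciIdeal G).subschemeι).obj (Twist.twistProjSpace n k c)) 1 ↔
      (∑ l, (a l : ℤ)) - n - 1 < c := by
  obtain ⟨h1, h2⟩ := top_ci m a ha G (by omega) hG
  haveI : IsLocallyNoetherian (LefPen.ciIdeal G).subscheme :=
    LocallyOfFiniteType.isLocallyNoetherian ((LefPen.ciIdeal G).subschemeι ≫ CohB1.ProjSpace.toSpec n k)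
  haveI : IsProper (CohB1.ProjSpace.toSpec n k) := Coherent.isProper_projSpace_toSpec n k
  haveI : CompactSpace ↥(LefPen.ciIdeal G).subscheme :=
    QuasiCompact.compactSpace_of_compactSpace ((LefPen.ciIdeal G).subschemeι ≫ CohB1.ProjSpace.toSpec n k)
  haveI : AlgebraicGeometry.IsNoetherian (LefPen.ciIdeal G).subscheme := {}
  haveI : (LefPen.ciIdeal G).subscheme.IsSeparated :=
    ⟨by
      rw [← terminal.comp_from (LefPen.ciIdeal G).subschemeι]
      infer_instance⟩
  rw [show n - m = 1 by omega] at h1 h2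
  refine ⟨fun h => ?_, h1 c⟩
  by_contra hc
  refine h2 ?_
  obtain ⟨e, he⟩ : ∃ e : ℕ, c + e = (∑ l, (a l : ℤ)) - n - 1 := ⟨((∑ l, (a l : ℤ)) - n - 1 - c).toNat, by omega⟩
  rw [← he]
  clear he
  induction e with
  | zero => simpa using h
  | succ e ih =>
    have := V_twist_succ (LefPen.ciIdeal G).subschemeι (q := 1) (by exact_mod_cast hX) _ ih
    rwa [show c + ((e + 1 : ℕ) : ℤ) = c + (e : ℤ) + 1 by push_cast; ring]

end Groth.Agent.EulerPn5
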