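import Groth.Agent.EulerPn5.SerreAlg
import Groth.Agent.FundLocal.DetSES
import Groth.Agent.Canon15.TopDiff
import Groth.Agent.KvbLam28.Basic
import Groth.Agent.SerreDual.ExtShStalk

/-!
# The determinant of an extension of a rank one torsion free sheaf by a line bundle
-/

set_option autoImplicit false
set_option linter.style.haveILetI false
set_option linter.unusedSectionVars false
set_option backward.isDefEq.respectTransparency.types false
set_option maxHeartbeats 1000000

universe u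

open CategoryTheory CategoryTheory.Limits AlgebraicGeometry Opposite TopologicalSpace
open Groth.Agent Groth.Agent.Coherent Groth.Agent.PicLib Groth.Agent.AmpleLib Groth.Agent.ExtFilt28
open Groth.Agent.GrassLib.PBundle

namespace Groth.Agent.EulerPn5

section Alg

variable {R : Type u} [CommRing R] {M : Type u} [AddCommGroup M] [Module R M]

/-- The determinant on the second exterior power of a free module of rank two. -/
theorem exists_detEquiv (b : Module.Basis (Fin 2) R M) :
    ∃ Λ : ↥(⋀[R]^2 M) ≃ₗ[R] R, ∀ v w : M,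
      Λ (exteriorPower.ιMulti R 2 ![v, w]) = b.repr v 0 * b.repr w 1 - b.repr v 1 * b.repr w 0 := by
  rcases subsingleton_or_nontrivial R with hR | hR
  · haveI := Module.subsingleton R ↥(⋀[R]^2 M)
    exact ⟨LinearEquiv.ofSubsingleton _ _, fun _ _ => Subsingleton.elim _ _⟩
  let Λ : ↥(⋀[R]^2 M) →ₗ[R] R := exteriorPower.alternatingMapLinearEquiv b.det
  have hΛ : ∀ v w, Λ (exteriorPower.ιMulti R 2 ![v, w]) = b.repr v 0 * b.repr w 1 - b.repr v 1 * b.repr w 0 := fun v w => by
    rw [exteriorPower.alternatingMapLinearEquiv_apply_ιMulti, Module.Basis.det_apply, Matrix.det_fin_two]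
    simp [Module.Basis.toMatrix_apply]
    ring
  have hs : Function.Surjective Λ := fun r => ⟨r • exteriorPower.ιMulti R 2 ![b 0, b 1], by
    rw [map_smul, hΛ]; simp⟩
  haveI : Module.Free R M := Module.Free.of_basis b
  haveI : Module.Finite R M := Module.Finite.of_basis b
  haveI : Module.Free R ↥(⋀[R]^2 M) := Module.Free.of_basis (b.exteriorPower 2)
  haveI : Module.Finite R ↥(⋀[R]^2 M) := Module.Finite.of_basis (b.exteriorPower 2)
  have hr : Module.finrank R R = Module.finrank R ↥(⋀[R]^2 M) := by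
    rw [Module.finrank_self, Module.finrank_eq_card_basis (b.exteriorPower 2)]
    rw [← Nat.card_eq_fintype_card, Set.powersetCard.card]; simp
  let ε := LinearEquiv.ofFinrankEq R ↥(⋀[R]^2 M) hr
  have hb := OrzechProperty.injective_of_surjective_endomorphism (Λ.comp ε.toLinearMap) (hs.comp ε.surjective)
  refine ⟨LinearEquiv.ofBijective Λ ⟨fun a a' h => ?_, hs⟩, hΛ⟩
  obtain ⟨a, rfl⟩ := ε.surjective a
  obtain ⟨a', rfl⟩ := ε.surjective a'
  exact congrArg ε (hb h)

end Alg

variable {X : Scheme.{u}}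

/-- For `0 → L → E → J → 0` with `E` of rank two and `J ⊂ N` killed by no map out: `det E ≅ L ⊗ N`. -/
theorem nonempty_det_extension {S : ShortComplex X.Modules} (hS : S.ShortExact) (h₁ : PicF.IsInvertible S.X₁)
    (h₂ : FlatMod.IsFinLocFreeOfRank 2 S.X₂) {N : X.Modules} (hN : PicF.IsInvertible N) (j : S.X₃ ⟶ N) [Mono j]
    {D : X.Modules} (hD : ExtPow.IsExtPow 2 S.X₂ D)
    (hext : ∀ α : CohB1.tensorMod S.X₁ S.X₃ ⟶ D, ∃ σ : CohB1.tensorMod S.X₁ N ⟶ D, (tensE S.X₁).map j ≫ σ = α) :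
    Nonempty (CohB1.tensorMod S.X₁ N ≅ D) := by
  classical
  haveI := AmpleLib.isQCoh_of_isInvertible h₁
  haveI := LocFreeLib.isQCoh_of_isFinLocFreeOfRank h₂
  have hDi := Canon15.isInvertible_of_isExtPow h₂ hD
  haveI := AmpleLib.isQCoh_of_isInvertible hDi
  haveI := AmpleLib.isQCoh_of_isInvertible hN
  obtain ⟨φ, cφ⟩ := hD
  obtain ⟨φ₁, c₁⟩ := KvbLam28.isExtPow_one S.X₁
  obtain ⟨φ₂, c₂⟩ := KvbLam28.isExtPow_one S.X₂
  obtain ⟨μ, hμ⟩ := exists_muHom S.f
    (fun U => (exteriorPower.oneEquiv Γ(X, U.1) (S.X₁.val.obj (op U.1))).symm)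
    (fun U => (exteriorPower.oneEquiv Γ(X, U.1) (S.X₂.val.obj (op U.1))).symm) φ
    (fun U V h e => (congrArg (S.X₁.val.map (homOfLE h).op) (exteriorPower.oneEquiv_ιMulti (R := Γ(X, U.1)) e)).trans
      (exteriorPower.oneEquiv_ιMulti (R := Γ(X, V.1)) (M := S.X₁.val.obj (op V.1)) fun j => S.X₁.val.map (homOfLE h).op (e j)).symm)
    (fun U V h e => (congrArg (S.X₂.val.map (homOfLE h).op) (exteriorPower.oneEquiv_ιMulti (R := Γ(X, U.1)) e)).trans
      (exteriorPower.oneEquiv_ιMulti (R := Γ(X, V.1)) (M := S.X₂.val.obj (op V.1)) fun j => S.X₂.val.map (homOfLE h).op (e j)).symm)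
    cφ (rfl : 1 + 1 = 2)
  have hμ' : ∀ (U : X.affineOpens) (a : Γ(S.X₁, U.1)) (e : Γ(S.X₂, U.1)),
      φ U (μ.app U.1 (tmul a e)) = exteriorPower.ιMulti Γ(X, U.1) 2
        ![(show S.X₂.val.obj (op U.1) from S.f.app U.1 a), (show S.X₂.val.obj (op U.1) from e)] := fun U a e => by
    rw [hμ U]
    show φ U ((φ U).symm (mu (secMap S.f U.1) (rfl : 1 + 1 = 2) (TensorProduct.map _ _ ((tmulEquiv S.X₁ S.X₂ U).symm (tmul a e))))) = _
    rw [LinearEquiv.apply_symm_apply, tmulEquiv_symm_tmul, TensorProduct.map_tmul]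
    have ha : ∀ {V : X.Modules} (z : V.val.obj (op U.1)),
        ((exteriorPower.oneEquiv Γ(X, U.1) (V.val.obj (op U.1))).symm z) =
          exteriorPower.ιMulti Γ(X, U.1) 1 fun _ => z := fun z => by
      rw [LinearEquiv.symm_apply_eq, exteriorPower.oneEquiv_ιMulti]
    rw [LinearEquiv.coe_coe, LinearEquiv.coe_coe, ha, ha, mu_ιMulti]
    congr 1
    funext i
    fin_cases i <;> rfl
  have hw : (tensE S.X₁).map S.f ≫ μ = 0 := by
    refine InjMod14.Kosz.hom_ext_affine _ _ fun U s => InjMod14.Kosz.sec_ext fun x hx => ?_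
    obtain ⟨W, hxW, m₀, hm₀⟩ := exists_isGen h₁ x
    obtain ⟨(V : X.Opens), hV, hxV, hle⟩ := Opens.isBasis_iff_nbhd.mp X.isBasis_affineOpens
      (show x ∈ U.1 ⊓ W from ⟨hx, hxW⟩)
    refine ⟨V, hle.trans inf_le_left, hxV, ?_⟩
    rw [← app_resM, ← app_resM]
    generalize resM _ (hle.trans inf_le_left) s = s'
    obtain ⟨t, rfl⟩ := (tmulEquiv S.X₁ S.X₁ ⟨V, hV⟩).surjective s'
    induction t using TensorProduct.induction_on with
    | zero => exact (congrArg _ (map_zero (tmulEquiv S.X₁ S.X₁ ⟨V, hV⟩))).trans ((map_zero _).trans (map_zero _).symm)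
    | add a b ha hb =>
      refine (congrArg _ (map_add (tmulEquiv S.X₁ S.X₁ ⟨V, hV⟩) a b)).trans ((map_add _ _ _).trans ?_)
      erw [ha, hb]
      exact add_zero _
    | tmul a b =>
      show μ.app V ((tE S.X₁ S.f).app V (tmul (show Γ(S.X₁, V) from a) (show Γ(S.X₁, V) from b))) = 0
      rw [tensE_map_tmul]
      have hm := hm₀.restrict (hle.trans inf_le_right)
      refine (φ ⟨V, hV⟩).injective ((hμ' ⟨V, hV⟩ _ _).trans ?_)
      refine Eq.trans ?_ (map_zero (φ ⟨V, hV⟩)).symm
      rw [← hm.coef_spec le_rfl (show Γ(S.X₁, V) from a), ← hm.coef_spec le_rfl (show Γ(S.X₁, V) from b),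
        Scheme.Modules.Hom.app_smul, Scheme.Modules.Hom.app_smul]
      generalize hm.coef le_rfl _ = r
      generalize hm.coef le_rfl _ = r'
      let y : S.X₂.val.obj (op V) := S.f.app V (resM S.X₁ le_rfl (resM S.X₁ (hle.trans inf_le_right) m₀))
      show exteriorPower.ιMulti Γ(X, V) 2 ![r • y, r' • y] = 0
      have h1 := (exteriorPower.ιMulti Γ(X, V) 2 (M := S.X₂.val.obj (op V))).map_update_smul ![y, r' • y] 0 r y
      have h2 := (exteriorPower.ιMulti Γ(X, V) 2 (M := S.X₂.val.obj (op V))).map_update_smul ![y, y] 1 r' y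
      have u1 : ∀ z : S.X₂.val.obj (op V), Function.update ![y, r' • y] 0 z = ![z, r' • y] := fun z => by
        funext i; fin_cases i <;> simp
      have u2 : ∀ z : S.X₂.val.obj (op V), Function.update ![y, y] 1 z = ![y, z] := fun z => by
        funext i; fin_cases i <;> simp
      rw [u1, u1] at h1
      rw [u2, u2] at h2
      rw [h1, h2, (exteriorPower.ιMulti Γ(X, V) 2).map_eq_zero_of_eq ![y, y] (i := 0) (j := 1) rfl (by decide),
        smul_zero, smul_zero]
  haveI : PreservesColimitsOfSize.{0, 0} (tensE S.X₁) := (tensorHomAdj S.X₁).leftAdjoint_preservesColimits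
  have hex := CokernelCofork.mapIsColimit _ hS.gIsCokernel (tensE S.X₁)
  obtain ⟨α, hα⟩ : ∃ α, (tensE S.X₁).map S.g ≫ α = μ :=
    ⟨(CokernelCofork.IsColimit.desc' hex μ hw).1, (CokernelCofork.IsColimit.desc' hex μ hw).2⟩
  obtain ⟨σ, hσ⟩ := hext α
  have key : ∀ (U : X.Opens) (a : Γ(S.X₁, U)) (e : Γ(S.X₂, U)),
      σ.app U (tmul a (j.app U (S.g.app U e))) = μ.app U (tmul a e) := fun U a e => by
    have h := congrArg (fun ψ : CohB1.tensorMod S.X₁ S.X₂ ⟶ D => ψ.app U (tmul a e))
      ((congrArg ((tensE S.X₁).map S.g ≫ ·) hσ).trans hα)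
    refine Eq.trans ?_ h
    show _ = σ.app U ((tE S.X₁ j).app U ((tE S.X₁ S.g).app U (tmul a e)))
    rw [tensE_map_tmul, tensE_map_tmul]
  haveI : IsIso σ := by
    refine InjMod14.Kosz.isIso_of_affine_nbhds σ fun W x hx => ?_
    obtain ⟨W₁, hxW₁, m₀, hm₀⟩ := exists_isGen h₁ x
    obtain ⟨W₂, hxW₂, ν₀, hν₀⟩ := exists_isGen hN x
    obtain ⟨W₃, hxW₃, ⟨eE⟩⟩ := h₂ x
    obtain ⟨(V : X.Opens), hV, hxV, hle⟩ := Opens.isBasis_iff_nbhd.mp X.isBasis_affineOpens
      (show x ∈ (W ⊓ W₁) ⊓ (W₂ ⊓ W₃) from ⟨⟨hx, hxW₁⟩, hxW₂, hxW₃⟩)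
    refine ⟨⟨V, hV⟩, hxV, hle.trans (inf_le_left.trans inf_le_left), ?_⟩
    obtain ⟨b₀⟩ := Props12.exists_basis_sections eE (hle.trans (inf_le_right.trans inf_le_right))
    let b : Module.Basis (Fin 2) Γ(X, V) (S.X₂.val.obj (op V)) := b₀
    obtain ⟨Λ, hΛ⟩ := exists_detEquiv b
    let m := resM S.X₁ (hle.trans (inf_le_left.trans inf_le_right)) m₀
    let ν := resM N (hle.trans (inf_le_right.trans inf_le_left)) ν₀
    have hm : IsGen S.X₁ V m := hm₀.restrict _
    have hν : IsGen N V ν := hν₀.restrict _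
    let Φ : Γ(D, V) ≃ₗ[Γ(X, V)] Γ(X, V) := (φ ⟨V, hV⟩).trans Λ
    let τ : Γ(X, V) := Φ (σ.app V (tmul m ν))
    have hτ : IsUnit τ := by
      let c : (S.X₂.val.obj (op V)) →ₗ[Γ(X, V)] Γ(X, V) :=
        { toFun := fun e => hν.coef le_rfl (j.app V (S.g.app V e))
          map_add' := fun a a' => by
            show hν.coef le_rfl (j.app V (S.g.app V ((show Γ(S.X₂, V) from a) + (show Γ(S.X₂, V) from a')))) = _
            rw [map_add, map_add, hν.coef_add]
          map_smul' := fun r a => by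
            show hν.coef le_rfl (j.app V (S.g.app V (r • (show Γ(S.X₂, V) from a)))) = _
            rw [Scheme.Modules.Hom.app_smul, Scheme.Modules.Hom.app_smul, hν.coef_smul]
            rfl }
      refine SerreAlg.isUnit_pairing b (m := S.f.app V m) (fun t ht => ?_) c (fun e he => ?_) (τ := τ) fun e => ?_
      · have h1 : S.f.app V (t • m) = S.f.app V 0 := by
          rw [Scheme.Modules.Hom.app_smul, map_zero]; exact ht
        refine (hm V le_rfl).1 ?_
        show t • resM S.X₁ le_rfl m = (0 : Γ(X, V)) • resM S.X₁ le_rfl m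
        rw [PicLib.resM_self, zero_smul]
        exact sections_injective hS V h1
      · have h1 : j.app V (S.g.app V e) = 0 := by
          rw [← hν.coef_spec le_rfl (j.app V (S.g.app V e))]
          exact (congrArg (· • resM N le_rfl ν) he).trans (zero_smul _ _)
        obtain ⟨a, ha⟩ := sections_exact hS (U := V) e
          (app_injective_of_mono j V (h1.trans (map_zero _).symm))
        refine ⟨hm.coef le_rfl a, ?_⟩
        show hm.coef le_rfl a • S.f.app V m = e
        rw [← Scheme.Modules.Hom.app_smul, ← ha]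
        refine congrArg _ ?_
        conv_rhs => rw [← hm.coef_spec le_rfl a, PicLib.resM_self]
      · have h1 : Λ (φ ⟨V, hV⟩ (μ.app V (tmul m (show Γ(S.X₂, V) from e)))) = _ :=
          (congrArg Λ (hμ' ⟨V, hV⟩ m (show Γ(S.X₂, V) from e))).trans (hΛ _ _)
        have h3 : σ.app V (tmul m (j.app V (S.g.app V (show Γ(S.X₂, V) from e)))) =
            hν.coef le_rfl (j.app V (S.g.app V (show Γ(S.X₂, V) from e))) • σ.app V (tmul m ν) := by
          generalize j.app V (S.g.app V (show Γ(S.X₂, V) from e)) = z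
          conv_lhs => rw [← hν.coef_spec le_rfl z, PicLib.resM_self, tmul_smul_right, Scheme.Modules.Hom.app_smul]
        have h2 : μ.app V (tmul m (show Γ(S.X₂, V) from e)) = c e • σ.app V (tmul m ν) :=
          (key V m (show Γ(S.X₂, V) from e)).symm.trans h3
        exact h1.symm.trans (((congrArg Φ h2).trans (map_smul Φ (c e) _)).trans (mul_comm (c e) τ))
    have hgen : Function.Bijective fun r : Γ(X, V) => r • (tmul m ν : Γ(CohB1.tensorMod S.X₁ N, V)) := by
      have h1 := (bijective_tmul_gen (M := S.X₁) hν V le_rfl).comp (hm V le_rfl)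
      convert h1 using 1
      funext r
      show r • tmul m ν = tmul (r • resM S.X₁ le_rfl m) (resM N le_rfl ν)
      rw [PicLib.resM_self, PicLib.resM_self, tmul_smul_left]
    refine (Function.Bijective.of_comp_iff _ hgen).1 ?_
    refine (Function.Bijective.of_comp_iff' Φ.bijective _).1 ?_
    obtain ⟨w, hw'⟩ := hτ
    convert (show Function.Bijective (fun r : Γ(X, V) => r * τ) from hw' ▸ w.mulRight.bijective) using 1
    funext r
    show Φ (σ.app V (r • tmul m ν)) = r * τ
    rw [Scheme.Modules.Hom.app_smul, map_smul, smul_eq_mul]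
  exact ⟨asIso σ⟩

end Groth.Agent.EulerPn5
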