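import Groth.Agent.EulerPn5.Bundle
import Groth.Agent.KPr28.Gen0
import Groth.Agent.OmegaLib.DOmega
import Groth.Agent.SerreDual.CMVanishing
import Groth.Agent.Euler15.Iso
import Groth.Agent.SerreDual.TwistEquiv
import Groth.Agent.VarietyLib.TensorExact
import Groth.Agent.SerreDual.ProjDualAll
import Groth.Agent.FlatMor12.FlatFun.GenPts
import Groth.Agent.TwistLib.TwistInv
import Groth.Agent.ExtFilt28.LocFree

/-!
# The Euler sequence on projective space
-/

set_option autoImplicit false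
set_option linter.style.haveILetI false
set_option linter.unusedSectionVars false
set_option backward.isDefEq.respectTransparency.types false
set_option maxHeartbeats 2000000

universe u

open CategoryTheory CategoryTheory.Limits AlgebraicGeometry TopologicalSpace Opposite
open Groth.Agent.Coherent Groth.Agent.PicLib Groth.Agent.AmpleLib
open scoped ZeroObject

namespace Groth.Agent.EulerPn5

section Pow

variable {X : Scheme.{u}}

/-- `N^(⊕ m)`. -/
noncomputable def mpow (N : X.Modules) : ℕ → X.Modules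
  | 0 => 0
  | m + 1 => mpow N m ⊞ N

theorem nonempty_mpow_sigma (N : X.Modules) : ∀ m : ℕ,
    Nonempty ((∐ fun _ : ULift.{u} (Fin m) => N) ≅ mpow N m)
  | 0 => ⟨IsZero.iso ((IsZero.iff_id_eq_zero _).2 (Sigma.hom_ext _ _ fun j => j.down.elim0)) (isZero_zero _)⟩
  | m + 1 => by
    obtain ⟨e⟩ := nonempty_mpow_sigma N m
    show Nonempty (_ ≅ mpow N m ⊞ N)
    let F : (∐ fun _ : ULift.{u} (Fin (m + 1)) => N) ⟶ mpow N m ⊞ N :=
      Sigma.desc fun j => Fin.lastCases (motive := fun _ => N ⟶ mpow N m ⊞ N) biprod.inr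
        (fun i => Sigma.ι (fun _ : ULift.{u} (Fin m) => N) ⟨i⟩ ≫ e.hom ≫ biprod.inl) j.down
    let G : mpow N m ⊞ N ⟶ ∐ fun _ : ULift.{u} (Fin (m + 1)) => N :=
      biprod.desc (e.inv ≫ Sigma.desc fun i => Sigma.ι (fun _ : ULift.{u} (Fin (m + 1)) => N) ⟨i.down.castSucc⟩)
        (Sigma.ι (fun _ : ULift.{u} (Fin (m + 1)) => N) ⟨Fin.last m⟩)
    refine ⟨Iso.mk F G (Sigma.hom_ext _ _ fun j => ?_) (biprod.hom_ext' _ _ ?_ ?_)⟩
    · obtain ⟨j⟩ := j
      rw [Sigma.ι_desc_assoc, Category.comp_id]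
      refine Fin.lastCases ?_ (fun i => ?_) j
      · simp only [G, Fin.lastCases_last, biprod.inr_desc]
      · simp only [G, Fin.lastCases_castSucc, Category.assoc, biprod.inl_desc, e.hom_inv_id_assoc, Sigma.ι_desc]
    · rw [biprod.inl_desc_assoc, Category.assoc, Category.comp_id, Iso.inv_comp_eq]
      refine Sigma.hom_ext _ _ fun i => ?_
      erw [Sigma.ι_desc_assoc, Sigma.ι_desc]
      simp only [Fin.lastCases_castSucc]
    · rw [biprod.inr_desc_assoc, Category.comp_id, Sigma.ι_desc]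
      simp only [Fin.lastCases_last]

theorem isFinLocFree_mpow (N : X.Modules) (hN : FlatMod.IsFinLocFree N) : ∀ m, FlatMod.IsFinLocFree (mpow N m)
  | 0 => fun _ => ⟨⊤, 0, trivial, ⟨(((Scheme.Modules.restrictFunctor (⊤ : X.Opens).ι).map_isZero (isZero_zero _))).iso
      ((IsZero.iff_id_eq_zero _).2 (Limits.Sigma.hom_ext _ _ fun j => j.elim0))⟩⟩
  | m + 1 => ExtFilt28.isFinLocFree_extension (S := ShortComplex.mk (biprod.inl : mpow N m ⟶ mpow N m ⊞ N) biprod.snd biprod.inl_snd)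
      (ShortComplex.Splitting.ofHasBinaryBiproduct (mpow N m) N).shortExact (isFinLocFree_mpow N hN m) hN

/-- The free module as a coproduct. -/
theorem nonempty_freeMod_sigma (X : Scheme.{u}) (I : Type u) :
    Nonempty (Coherent.freeMod X I ≅ ∐ fun _ : I => Coh.structureModule X) :=
  ⟨(SheafOfModules.isColimitFreeCofan (R := X.ringCatSheaf) I).coconePointUniqueUpToIso (coproductIsCoproduct _)⟩

theorem nonempty_sigma_tensor (I : Type u) (N : X.Modules) :
    Nonempty (CohB1.tensorMod (∐ fun _ : I => Coh.structureModule X) N ≅ ∐ fun _ : I => N) := by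
  haveI : PreservesColimitsOfSize.{u, u} (tensE N) := (tensorHomAdj N).leftAdjoint_preservesColimits
  have e := PreservesCoproduct.iso (tensE N) (fun _ : I => Coh.structureModule X)
  refine ⟨(AmpleLib.tensorComm (∐ fun _ : I => Coh.structureModule X) N).trans (e.trans ?_)⟩
  exact Sigma.mapIso fun _ => (AmpleLib.tensorComm N (Coh.structureModule X)).trans (unitTensorIso N)

theorem nonempty_pullback_free_tensor {Y : Scheme.{u}} (h : Y ⟶ X) (m : ℕ) (N : Y.Modules) :
    Nonempty (CohB1.tensorMod ((Scheme.Modules.pullback h).obj (Coherent.freeMod X (ULift.{u} (Fin m)))) N ≅ mpow N m) := by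
  haveI := (Scheme.Modules.pullbackPushforwardAdjunction h).leftAdjoint_preservesColimits
  obtain ⟨e₀⟩ := nonempty_freeMod_sigma X (ULift.{u} (Fin m))
  obtain ⟨e₁⟩ := AmpleLib.exists_pullStructureIso h
  obtain ⟨e₂⟩ := nonempty_mpow_sigma N m
  obtain ⟨e₃⟩ := nonempty_sigma_tensor (ULift.{u} (Fin m)) N
  have d : (Scheme.Modules.pullback h).obj (∐ fun _ : ULift.{u} (Fin m) => Coh.structureModule X) ≅
      ∐ fun _ : ULift.{u} (Fin m) => Coh.structureModule Y :=
    PreservesCoproduct.iso (Scheme.Modules.pullback h) _ ≪≫ Sigma.mapIso fun _ => e₁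
  exact ⟨AmpleLib.tensorIso ((Scheme.Modules.pullback h).mapIso e₀ ≪≫ d) (Iso.refl N) ≪≫ e₃ ≪≫ e₂⟩

end Pow

variable (n : ℕ) (A : Type u) [CommRing A] [QuasiSeparated (CohB1.ProjSpace.toSpec n A)]

/-- `0 → Ω → O(-1)^(n+1) → O → 0`. -/
theorem exists_euler_seq :
    ∃ (f : Omega.sheaf (CohB1.ProjSpace.toSpec n A) ⟶ mpow (Twist.twistProjSpace n A (-1)) (n + 1))
      (g : mpow (Twist.twistProjSpace n A (-1)) (n + 1) ⟶ Coh.structureModule (CohB1.ProjSpace n A)) (w : f ≫ g = 0),
      (ShortComplex.mk f g w).ShortExact := by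
  let P := CohB1.ProjSpace n A
  let π := CohB1.ProjSpace.toSpec n A
  let N1 : P.Modules := Twist.twistProjSpace n A 1
  let N : P.Modules := Twist.twistProjSpace n A (-1)
  have hN : PicF.IsInvertible N := Coherent.isInvertible_twistProjSpaceZ n (-1) A
  obtain ⟨e⟩ := Euler15.nonempty_iso_kernel
    (KPr28.Gen.isFinLocFree_freeMod (X := Spec (CommRingCat.of A)) (ULift.{u} (Fin (n + 1))))
    (isProjBundle_projSpace n A) (Omega.sheaf π) (OmegaSh.dOmega π) (OmegaLib.isUniversal_dOmega π)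
  haveI := epi_taut n A
  have hK : (ShortComplex.mk (kernel.ι (taut n A)) (taut n A) (kernel.condition _)).ShortExact :=
    { exact := ShortComplex.exact_of_f_is_kernel _ (kernelIsKernel _)
      mono_f := inferInstance
      epi_g := inferInstance }
  haveI := CAlgH3.LocFreeFactor.isQCoh_of_finLocFree (SerreDual.isFinLocFree_of_invertible hN)
  obtain ⟨T, hT, e₁, e₂, e₃⟩ := VarietyLib.exists_tensorSeq hK N fun x => by
    haveI := Props12.free_stalk_of_isFinLocFree N (SerreDual.isFinLocFree_of_invertible hN) x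
    infer_instance
  obtain ⟨a⟩ := TwistLib.nonempty_tensor_twist_iso (𝒜 := CohB1.polyGrading n A)
    (fun x => by
      obtain ⟨i, hi⟩ := UPLib.exists_degOne_projSpace (R := CommRingCat.of A) n x
      exact ⟨_, MvPolynomial.isHomogeneous_X A i, hi⟩) (show (1 : ℤ) + -1 = 0 by norm_num)
  obtain ⟨b⟩ := TwistLib.nonempty_twist_zero_iso (𝒜 := CohB1.polyGrading n A)
  obtain ⟨m⟩ := nonempty_pullback_free_tensor π (n + 1) N
  let i₁ : T.X₁ ≅ Omega.sheaf π := eqToIso e₁ ≪≫ AmpleLib.tensorIso e.symm (Iso.refl N) ≪≫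
    DCat.TensorAssoc.assocIso (Omega.sheaf π) N1 N ≪≫ AmpleLib.tensorIso (Iso.refl _) (a ≪≫ b) ≪≫
    AmpleLib.tensorComm _ _ ≪≫ unitTensorIso _
  let i₂ : T.X₂ ≅ mpow N (n + 1) := eqToIso e₂ ≪≫ m
  let i₃ : T.X₃ ≅ Coh.structureModule P := eqToIso e₃ ≪≫ a ≪≫ b
  refine ⟨i₁.inv ≫ T.f ≫ i₂.hom, i₂.inv ≫ T.g ≫ i₃.hom, by simp [T.zero_assoc], ?_⟩
  exact ShortComplex.shortExact_of_iso (ShortComplex.isoMk i₁ i₂ i₃ (by simp) (by simp)) hT

end Groth.Agent.EulerPn5
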