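import Groth.Agent.EulerPn5.IdealTwist
import Groth.Agent.KoszPn17.TwistGen
import Groth.Agent.VB5.Basic
import Groth.Agent.VarietyLib.DegBasic
import Groth.Agent.TF7.EndScalar

/-!
# Three forms on `P^n`, `n ≥ 3`, have a common zero
-/

set_option autoImplicit false
set_option linter.style.haveILetI false
set_option linter.unusedSectionVars false
set_option backward.isDefEq.respectTransparency.types false
set_option maxHeartbeats 1000000

universe u

open CategoryTheory CategoryTheory.Limits AlgebraicGeometry TopologicalSpace Opposite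
open Groth.Agent.Coherent Groth.Agent.EulerLib Groth.Agent.CAlgH3 Groth.Agent.PicLib Groth.Agent.AmpleLib
open scoped ZeroObject

namespace Groth.Agent.EulerPn5

theorem rank_biprod {X : Scheme.{u}} [IsIntegral X] [IsLocallyNoetherian X] {A B : X.Modules} {a b : ℕ}
    (hA : FlatMod.IsFinLocFreeOfRank a A) (hB : FlatMod.IsFinLocFreeOfRank b B) :
    FlatMod.IsFinLocFreeOfRank (a + b) (A ⊞ B) := by
  have hS := (ShortComplex.Splitting.ofHasBinaryBiproduct A B).shortExact
  obtain ⟨r, hr⟩ := VB5.exists_rank (ExtFilt28.isFinLocFree_extension hS (LocFreeLib.isFinLocFree_of_rank hA)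
    (LocFreeLib.isFinLocFree_of_rank hB))
  obtain rfl : r = a + b := VarietyLib.rank_add hS hA hr hB (genericPoint X)
  exact hr

theorem exists_wedge_seq_biprod {X : Scheme.{u}} {M N : X.Modules} (hM : FlatMod.IsFinLocFree M)
    (hN : FlatMod.IsFinLocFreeOfRank 1 N) (p : ℕ) {A B C : X.Modules} (hA : ExtPow.IsExtPow (p + 1) M A)
    (hB : ExtPow.IsExtPow (p + 1) (M ⊞ N) B) (hC : ExtPow.IsExtPow p M C) :
    ∃ (f : A ⟶ B) (g : B ⟶ CohB1.tensorMod C N) (w : f ≫ g = 0), (ShortComplex.mk f g w).ShortExact :=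
  exists_wedge_seq (S := ShortComplex.mk (biprod.inl : M ⟶ M ⊞ N) biprod.snd biprod.inl_snd)
    (ShortComplex.Splitting.ofHasBinaryBiproduct M N).shortExact hM hN p hA hB hC

variable {n : ℕ} {k : Type u} [Field k]

local notation "O[" d "]" => Twist.twistProjSpace n k d

theorem rank_twist (d : ℤ) : FlatMod.IsFinLocFreeOfRank 1 O[d] :=
  PicLib.isFinLocFreeOfRank_one (Coherent.isInvertible_twistProjSpaceZ n d k)

theorem isLocallyNoetherian_projSpace : IsLocallyNoetherian (CohB1.ProjSpace n k) := by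
  haveI : IsProper ((CohB1.ProjSpace n k) ↘ Spec (CommRingCat.of k)) := Coherent.isProper_projSpace_toSpec n k
  haveI := EulerLib.isNoetherian_of_proper k (X := CohB1.ProjSpace n k)
  infer_instance

/-- All non-positive twists have no cohomology below the top degree. -/
def NegV (M : (CohB1.ProjSpace n k).Modules) : Prop :=
  ∀ t : ℤ, t ≤ 0 → ∀ q, q < n → ModCohSeq.V (CohB1.tensorMod M O[t]) q

theorem negV_twist {x : ℤ} (hx : x < 0) : NegV (n := n) (k := k) O[x] := fun t ht q hq => by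
  obtain ⟨e⟩ := nonempty_tt (n := n) (A := k) (show x + t = x + t from rfl)
  exact ModCohSeq.V_of_iso e.symm (V_twist (by omega) (by omega))

theorem NegV.of_iso {M N : (CohB1.ProjSpace n k).Modules} (h : NegV M) (e : M ≅ N) : NegV N := fun t ht q hq =>
  ModCohSeq.V_of_iso (AmpleLib.tensorIso e (Iso.refl _)) (h t ht q hq)

theorem NegV.toV {M : (CohB1.ProjSpace n k).Modules} (h : NegV M) {q : ℕ} (hq : q < n) : ModCohSeq.V M q := by
  obtain ⟨e⟩ := nonempty_tensor_twist0 M
  exact ModCohSeq.V_of_iso e (h 0 le_rfl q hq)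

theorem negV_of_isZero {M : (CohB1.ProjSpace n k).Modules} (h : IsZero M) : NegV M := fun t _ q _ =>
  V_of_isZero (((((DCoh.tensorBi (X := CohB1.ProjSpace n k)).obj O[t]).map_isZero h)).of_iso
    (AmpleLib.tensorComm _ _)) q

theorem NegV.twist {M : (CohB1.ProjSpace n k).Modules} (h : NegV M) {x : ℤ} (hx : x ≤ 0) :
    NegV (CohB1.tensorMod M O[x]) := fun t ht q hq => by
  obtain ⟨e⟩ := nonempty_tt (n := n) (A := k) (show x + t = x + t from rfl)
  exact ModCohSeq.V_of_iso (DCat.TensorAssoc.assocIso M O[x] O[t] ≪≫ AmpleLib.tensorIso (Iso.refl M) e).symm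
    (h (x + t) (by omega) q hq)

theorem NegV.ext {S : ShortComplex (CohB1.ProjSpace n k).Modules} (hS : S.ShortExact) (h₁ : NegV S.X₁)
    (h₃ : NegV S.X₃) : NegV S.X₂ := fun t ht q hq => by
  have hT := isFinLocFree_twist (n := n) (A := k) t
  haveI := CAlgH3.LocFreeFactor.isQCoh_of_finLocFree hT
  obtain ⟨U, hU, e₁, e₂, e₃⟩ := VarietyLib.exists_tensorSeq hS O[t] fun x => by
    haveI := Props12.free_stalk_of_isFinLocFree O[t] hT x
    infer_instance
  exact ModCohSeq.V_of_iso (eqToIso e₂) (ModCohSeq.V_mid hU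
    (ModCohSeq.V_of_iso (eqToIso e₁).symm (h₁ t ht q hq)) (ModCohSeq.V_of_iso (eqToIso e₃).symm (h₃ t ht q hq)))

/-- All positive exterior powers of `M` are `NegV`. -/
def NegWedge (M : (CohB1.ProjSpace n k).Modules) : Prop :=
  ∀ (p : ℕ) (L : (CohB1.ProjSpace n k).Modules), ExtPow.IsExtPow (p + 1) M L → NegV L

theorem negWedge_twist {x : ℤ} (hx : x < 0) : NegWedge (n := n) (k := k) O[x] := fun p L hL => by
  rcases p with _ | p
  · exact (negV_twist hx).of_iso (KvbLam28.exists_iso_of_isExtPow (KvbLam28.isExtPow_one _) hL).some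
  · exact negV_of_isZero (isZero_of_isExtPow (rank_twist x) hL (by omega))

theorem NegWedge.add {M : (CohB1.ProjSpace n k).Modules} (hM : FlatMod.IsFinLocFree M) (h : NegWedge M) {x : ℤ}
    (hx : x < 0) : NegWedge (M ⊞ O[x]) := fun p B hB => by
  obtain ⟨A, -, hA⟩ := ExtPowEx28.exists_isExtPow hM (p + 1)
  obtain ⟨C, -, hC⟩ := ExtPowEx28.exists_isExtPow hM p
  obtain ⟨f, g, w, hT⟩ := exists_wedge_seq_biprod hM (rank_twist x) p hA hB hC
  refine NegV.ext (S := ShortComplex.mk f g w) hT (show NegV A from h p A hA) ?_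
  show NegV (CohB1.tensorMod C O[x])
  rcases p with _ | p
  · obtain ⟨e⟩ := KvbLam28.exists_iso_of_isExtPow (KvbLam28.isExtPow_zero M) hC
    exact (negV_twist hx).of_iso ((unitTensorIso _).symm ≪≫ AmpleLib.tensorIso e (Iso.refl _))
  · exact (h p C hC).twist hx.le

/-- Three forms of positive degree on `P^n`, `n ≥ 3`, have a common zero. -/
theorem not_epi_three (hn : 3 ≤ n) {x₁ x₂ x₃ : ℤ} (h₁ : x₁ < 0) (h₂ : x₂ < 0) (h₃ : x₃ < 0)
    (g : (O[x₁] ⊞ O[x₂]) ⊞ O[x₃] ⟶ Coh.structureModule (CohB1.ProjSpace n k)) [Epi g] : False := by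
  haveI : IsIntegral (CohB1.ProjSpace n k) := CurveLib.isIntegral_projSpace (k := k) n
  haveI := isLocallyNoetherian_projSpace (n := n) (k := k)
  let S : ShortComplex (CohB1.ProjSpace n k).Modules := ShortComplex.mk (kernel.ι g) g (kernel.condition g)
  have hS : S.ShortExact :=
    { exact := ShortComplex.exact_of_f_is_kernel _ (kernelIsKernel g)
      mono_f := inferInstanceAs (Mono (kernel.ι g))
      epi_g := inferInstanceAs (Epi g) }
  have hO : FlatMod.IsFinLocFreeOfRank 1 (Coh.structureModule (CohB1.ProjSpace n k)) :=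
    PicLib.isFinLocFreeOfRank_one AmpleLib.isInvertible_structureModule
  have h12 := rank_biprod (rank_twist (n := n) (k := k) x₁) (rank_twist x₂)
  have hM := rank_biprod h12 (rank_twist (n := n) (k := k) x₃)
  have hW : NegWedge ((O[x₁] ⊞ O[x₂]) ⊞ O[x₃]) :=
    ((negWedge_twist h₁).add (isFinLocFree_twist x₁) h₂).add (LocFreeLib.isFinLocFree_of_rank h12) h₃
  have hK : FlatMod.IsFinLocFree (kernel g) :=
    KoszPn17.isFinLocFree_kernel g (LocFreeLib.isFinLocFree_of_rank hM) (LocFreeLib.isFinLocFree_of_rank hO)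
  obtain ⟨r, hr⟩ := VB5.exists_rank hK
  obtain rfl : r = 2 := by
    have := VarietyLib.rank_add hS hr hM hO (genericPoint (CohB1.ProjSpace n k))
    omega
  choose C hCf hC using fun p => ExtPowEx28.exists_isExtPow hK p
  choose B hBf hB using fun p => ExtPowEx28.exists_isExtPow (LocFreeLib.isFinLocFree_of_rank hM) p
  have step : ∀ p, p < n → ModCohSeq.V (C (p + 1)) (p + 1) → ModCohSeq.V (C p) p := fun p hp hz => by
    obtain ⟨f, g', w, hT⟩ := exists_wedge_seq hS hK hO p (hC (p + 1)) (hB (p + 1)) (hC p)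
    exact ModCohSeq.V_of_iso (AmpleLib.tensorComm _ _ ≪≫ unitTensorIso _)
      (ModCohSeq.V_right hT ((hW p _ (hB (p + 1))).toV hp) hz)
  have h0 := step 0 (by omega) (step 1 (by omega) (step 2 (by omega)
    (V_of_isZero (isZero_of_isExtPow hr (hC 3) (by omega)) 3)))
  obtain ⟨e⟩ := KvbLam28.exists_iso_of_isExtPow (hC 0) (KvbLam28.isExtPow_zero _)
  obtain ⟨b⟩ := nonempty_twist0 (n := n) (A := k)
  exact not_V_twist (n := n) (k := k) (d := 0) le_rfl (ModCohSeq.V_of_iso (e ≪≫ b.symm) h0)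

theorem hom_twist_eq_zero (hn : 0 < n) {a b : ℤ} (h : b < a) (f : O[a] ⟶ O[b]) : f = 0 := by
  obtain ⟨t⟩ := nonempty_tt (n := n) (A := k) (show b + -a = b - a by ring)
  exact (V_tensor_twist_iff O[b] (add_neg_cancel a)).1
    (ModCohSeq.V_of_iso t.symm (V_twist (by omega) (by omega))) f

theorem isIso_endo_twist {a : ℤ} (f : O[a] ⟶ O[a]) (hf : f ≠ 0) : IsIso f := by
  haveI : IsIntegral (CohB1.ProjSpace n k) := CurveLib.isIntegral_projSpace (k := k) n
  haveI : IsProper ((CohB1.ProjSpace n k) ↘ Spec (CommRingCat.of k)) := Coherent.isProper_projSpace_toSpec n k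
  have hc : Coh.IsCoh O[a] := CohBC.isCoh_of_isFinLocFree (isFinLocFree_twist a)
  haveI : Module.Finite k (O[a] ⟶ O[a]) := TF7.finite_hom_coh k hc hc
  haveI : Mono f := VarietyLib.mono_of_ne_zero_invertible (Coherent.isInvertible_twistProjSpaceZ n a k)
    (Coherent.isInvertible_twistProjSpaceZ n a k) f hf
  have hinj : Function.Injective (Linear.rightComp k O[a] f) := fun x y h => (cancel_mono f).1 h
  obtain ⟨s, hs⟩ := LinearMap.surjective_of_injective hinj (𝟙 _)
  haveI : IsSplitEpi f := IsSplitEpi.mk' ⟨s, hs⟩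
  exact isIso_of_mono_of_epi f

end Groth.Agent.EulerPn5
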