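import Groth.Agent.EulerPn5.GenSectionAlg
import Groth.Agent.EulerPn5.ThreeForms
import Groth.Agent.LefPen24.DehomEval
import Groth.Agent.EmbLib24.Criterion
import Groth.Agent.H8Lim.ModEq
import Groth.Agent.SplitP1.Split
import Groth.Agent.Props13.ProperInter
import Groth.Agent.EulerLib.CohSub
import Groth.Agent.KoszPn17.TwistGen
import Groth.Agent.VB5.Basic
import Groth.Agent.VarietyLib.DetDeg
import Groth.Agent.CAlgH3.PSheafBound
import Groth.Agent.CAlgH3.PSheafPres
import Groth.Agent.Quot8.Twist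
import Groth.Agent.DQCoh.RpushDegree17
import Groth.Agent.DQCoh.ProperSuppFlat17
import Groth.Agent.Coherent.CohBC.SectionsPush

/-!
# General sections of globally generated bundles on projective space
-/

set_option autoImplicit false
set_option linter.style.haveILetI false
set_option linter.unusedSectionVars false
set_option backward.isDefEq.respectTransparency.types false
set_option maxHeartbeats 1000000

universe u

open CategoryTheory CategoryTheory.Limits AlgebraicGeometry TopologicalSpace Opposite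
open Groth.Agent.Coherent

namespace Groth.Agent.EulerPn5.GenSection

section affine

variable {X : Scheme.{u}} {r : ℕ} {E : X.Modules}

/-- A bundle has `r` sections over an affine open that are independent modulo a given maximal ideal. -/
theorem exists_indep (hE : FlatMod.IsFinLocFreeOfRank r E) {U : X.Opens} (hU : IsAffineOpen U)
    (I : Ideal Γ(X, U)) [I.IsMaximal] :
    ∃ x : Fin r → Γ(E, U), ∀ c : Fin r → Γ(X, U),
      (∑ j, c j • x j) ∈ I • (⊤ : Submodule Γ(X, U) Γ(E, U)) → ∀ j, c j ∈ I := by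
  classical
  haveI := LocFreeLib.isQCoh_of_isFinLocFreeOfRank hE
  let q : PrimeSpectrum Γ(X, U) := ⟨I, inferInstance⟩
  let y : X := hU.fromSpec q
  have hy : y ∈ U := by
    have h : y ∈ Set.range hU.fromSpec := ⟨q, rfl⟩
    rwa [hU.range_fromSpec] at h
  have hq : (hU.primeIdealOf ⟨y, hy⟩).asIdeal = I :=
    congrArg PrimeSpectrum.asIdeal (Props13.primeIdealOf_fromSpec hU q hy)
  obtain ⟨b⟩ := SplitP1.nonempty_basis_stalk hE y
  let S := X.presheaf.stalk y
  let _ := (X.presheaf.germ U y hy).hom.toAlgebra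
  let _ := Module.compHom (E.presheaf.stalk y) (X.presheaf.germ U y hy).hom
  haveI : IsScalarTower Γ(X, U) S (E.presheaf.stalk y) := IsScalarTower.of_algebraMap_smul fun _ _ => rfl
  let φ : Γ(E, U) →ₗ[Γ(X, U)] E.presheaf.stalk y :=
    { toFun := E.presheaf.germ U y hy
      map_add' := map_add _
      map_smul' := QCohLoc.germ_smul' (M := E) hy }
  haveI hloc := EGA43.QcohFP.isLocalizedModule_germ E hU hy φ fun _ => rfl
  haveI hat := hU.isLocalization_stalk ⟨y, hy⟩
  choose z hz using fun j => IsLocalizedModule.surj (hU.primeIdealOf ⟨y, hy⟩).asIdeal.primeCompl φ (b j)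
  refine ⟨fun j => (z j).1, fun c hc j => ?_⟩
  have hmem : φ (∑ i, c i • (z i).1) ∈ IsLocalRing.maximalIdeal S • (⊤ : Submodule S (E.presheaf.stalk y)) := by
    refine Submodule.smul_induction_on hc (fun a ha w _ => ?_) (fun a b ha hb => ?_)
    · rw [map_smul, ← algebraMap_smul S a (φ w)]
      refine Submodule.smul_mem_smul ?_ Submodule.mem_top
      exact (IsLocalization.AtPrime.to_map_mem_maximal_iff S (hU.primeIdealOf ⟨y, hy⟩).asIdeal a).2 (hq.symm ▸ ha)
    · rw [map_add]
      exact add_mem ha hb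
  have hrepr : ∀ (w : E.presheaf.stalk y), w ∈ IsLocalRing.maximalIdeal S • (⊤ : Submodule S (E.presheaf.stalk y)) →
      b.repr w j ∈ IsLocalRing.maximalIdeal S := fun w hw =>
    Submodule.smul_induction_on hw (fun a ha v _ => by
      rw [map_smul, Finsupp.smul_apply]
      exact Ideal.mul_mem_right _ _ ha) fun a b' ha hb' => by
      rw [map_add, Finsupp.add_apply]
      exact add_mem ha hb'
  have h1 : φ (∑ i, c i • (z i).1) = ∑ i, algebraMap Γ(X, U) S (c i * (z i).2) • b i := by
    rw [map_sum]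
    refine Finset.sum_congr rfl fun i _ => ?_
    rw [map_smul, ← hz i, algebraMap_smul, mul_smul]
    rfl
  have h2 := hrepr _ hmem
  rw [h1, b.repr_sum_self] at h2
  have h3 : c j * ((z j).2 : Γ(X, U)) ∈ I :=
    hq ▸ (IsLocalization.AtPrime.to_map_mem_maximal_iff S (hU.primeIdealOf ⟨y, hy⟩).asIdeal _).1 h2
  exact (Ideal.IsPrime.mem_or_mem inferInstance h3).resolve_right fun h => (z j).2.2 (hq.ge h)

theorem module_data (hE : FlatMod.IsFinLocFreeOfRank r E) {U : X.Opens} (hU : IsAffineOpen U) :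
    Module.Finite Γ(X, U) Γ(E, U) ∧ Module.Projective Γ(X, U) Γ(E, U) := by
  haveI := LocFreeLib.isQCoh_of_isFinLocFreeOfRank hE
  have hf := LocFreeLib.isFinLocFree_of_rank hE
  haveI := EGA43.QcohFP.finitePresentation_sections E (Props12.isFP_of_isFinLocFree E hf) hU
  haveI := Coherent.CohBC.flat_sections_of_isFinLocFree E hf hU
  exact ⟨inferInstance, Module.Flat.projective_of_finitePresentation⟩

set_option backward.isDefEq.respectTransparency false in
/-- A split monomorphism on sections over an affine cover is a monomorphism with locally free cokernel. -/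
theorem mono_and_isFinLocFree_cokernel {m : ℕ} (hE : FlatMod.IsFinLocFreeOfRank r E)
    (φ : Coherent.freeMod X (ULift.{u} (Fin m)) ⟶ E) (cover : ∀ x : X, ∃ U : X.Opens, IsAffineOpen U ∧ x ∈ U ∧
      ∃ ρ : Γ(E, U) →ₗ[Γ(X, U)] (Fin m → Γ(X, U)),
        ∀ a i, ρ (φ.app U a) i = freeCoord U (ULift.up i) a) :
    Mono φ ∧ FlatMod.IsFinLocFree (cokernel φ) := by
  classical
  haveI := LocFreeLib.isQCoh_of_isFinLocFreeOfRank hE
  haveI := isQCoh_freeMod (X := X) (I := ULift.{u} (Fin m))
  choose U hU hxU ρ hρ using cover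
  have hinj : ∀ x, Function.Injective (φ.app (U x)) := fun x a b h => by
    refine (freeSectionsEquiv (U x)).injective (funext fun i => ?_)
    show freeCoord (U x) i a = freeCoord (U x) i b
    rw [← hρ x a i.down, ← hρ x b i.down, h]
  haveI : Mono φ := by
    haveI : Coh.IsQCoh (kernel φ) := isQCoh_kernel φ
    refine Preadditive.mono_of_isZero_kernel φ (EulerLib.isZero_of_sections_cover inferInstance U hU
      (fun x => ⟨x, hxU x⟩) fun x => ⟨fun a b => app_injective_of_mono (kernel.ι φ) (U x) (hinj x ?_)⟩)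
    rw [kernel_ι_app_zero, kernel_ι_app_zero]
  refine ⟨inferInstance, ?_⟩
  haveI : Coh.IsQCoh (cokernel φ) := isQCoh_cokernel φ
  have hex : ∀ x (a : Γ(E, U x)), (cokernel.π φ).app (U x) a = 0 → ∃ b, φ.app (U x) b = a := fun x a ha => by
    obtain ⟨w, hw⟩ := kernel_sections_exact (cokernel.π φ) a ha
    let h := Abelian.monoLift φ (kernel.ι (cokernel.π φ)) (kernel.condition _)
    refine ⟨h.app (U x) w, ?_⟩
    rw [← hw]
    exact ConcreteCategory.congr_hom (congrArg (fun χ => Scheme.Modules.Hom.app χ (U x))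
      (Abelian.monoLift_comp φ (kernel.ι (cokernel.π φ)) (kernel.condition _))) w
  have key : ∀ x, Module.Finite Γ(X, U x) Γ(cokernel φ, U x) ∧ Module.Projective Γ(X, U x) Γ(cokernel φ, U x) := fun x => by
    obtain ⟨h1, h2⟩ := module_data hE (hU x)
    let e : Γ(Coherent.freeMod X (ULift.{u} (Fin m)), U x) ≃ₗ[Γ(X, U x)] (Fin m → Γ(X, U x)) :=
      (freeSectionsEquiv (U x)).trans (LinearEquiv.funCongrLeft Γ(X, U x) Γ(X, U x) Equiv.ulift.symm)
    refine projective_of_retraction ((appLin φ (U x)).comp e.symm.toLinearMap) (appLin (cokernel.π φ) (U x))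
      (H8Lim.app_surjective_of_epi _ (hU x)) (fun a => ⟨fun ha => ?_, ?_⟩) (ρ x) (LinearMap.ext fun v => funext fun i => ?_)
    · obtain ⟨b, rfl⟩ := hex x a ha
      exact ⟨e b, congrArg (φ.app (U x)) (e.symm_apply_apply b)⟩
    · rintro ⟨b, rfl⟩
      exact ConcreteCategory.congr_hom (congrArg (fun χ => Scheme.Modules.Hom.app χ (U x))
        (cokernel.condition φ)) (e.symm b)
    · show ρ x (φ.app (U x) (e.symm v)) i = v i
      rw [hρ]
      exact congrFun (e.apply_symm_apply v) i
  choose hfin hproj using key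
  have hfp : CohB1.IsFP (cokernel φ) := EGA43.FPKernel.isFP_of_forall_exists_affine _ fun x =>
    ⟨U x, hU x, hxU x, by haveI := hfin x; haveI := hproj x; exact Module.finitePresentation_of_projective _ _⟩
  refine Props12.isFinLocFree_of_isFP_of_free_stalks _ hfp fun x => ?_
  haveI := hfin x
  haveI := hproj x
  haveI : Module.Flat (X.presheaf.stalk x) ((cokernel φ).presheaf.stalk x) :=
    Props12.flat_stalk_of_flat_sections _ (hU x) (hxU x)
  haveI : Module.Finite (X.presheaf.stalk x) ((cokernel φ).presheaf.stalk x) :=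
    haveI := hfp
    Props12.finite_stalk_of_isFT _ (inferInstanceAs (SheafOfModules.IsFiniteType.{u} (R := X.ringCatSheaf) (cokernel φ))) x
  exact Module.free_of_flat_of_isLocalRing

end affine

section Pn

variable {n : ℕ} {k : Type u} [Field k]

local notation "ℙ" => CohB1.ProjSpace n k
local notation "O[" d "]" => Twist.twistProjSpace n k d

/-- The chart ring as a quotient of a polynomial ring. -/
noncomputable def chartHom (j : Fin (n + 1)) : MvPolynomial (Fin n) k →+* Γ(ℙ, LefPen.chart n k j) :=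
  MvPolynomial.eval₂Hom (EmbLib24.gl (CohB1.ProjSpace.toSpec n k) (LefPen.chart n k j))
    fun i => EmbLib24.coordFun n k j (j.succAbove i)

theorem chartHom_surjective (j : Fin (n + 1)) : Function.Surjective (chartHom (k := k) j) := fun s => by
  haveI : IsIso (Proj.awayToSection (CohB1.polyGrading n k) (MvPolynomial.X j)) := by
    rw [← Proj.basicOpenIsoAway_hom (CohB1.polyGrading n k) (MvPolynomial.X j)
      (MvPolynomial.isHomogeneous_X k j) one_pos]
    infer_instance
  obtain ⟨b, rfl⟩ := (ConcreteCategory.bijective_of_isIso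
    (Proj.awayToSection (CohB1.polyGrading n k) (MvPolynomial.X j))).2 s
  obtain ⟨d, a, ha, rfl⟩ := HomogeneousLocalization.Away.mk_surjective (CohB1.polyGrading n k)
    (MvPolynomial.isHomogeneous_X k j) b
  let G : LefPen.Form n k d := ⟨a, by simpa using ha⟩
  refine ⟨MvPolynomial.aeval (fun l => (j.insertNth (1 : MvPolynomial (Fin n) k) MvPolynomial.X : Fin (n + 1) → _) l) a, ?_⟩
  refine Eq.trans ?_ (show LefPen.dehom G j = _ from rfl)
  rw [LefPen24.dehom_eq_eval₂ G j]
  refine (MvPolynomial.eval₂Hom_bind₁ _ _ _ _).trans ?_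
  refine congrArg (fun g => MvPolynomial.eval₂ _ g a) (funext fun l => ?_)
  rcases j.eq_self_or_eq_succAbove l with rfl | ⟨i, rfl⟩
  · rw [Fin.insertNth_apply_same, map_one, EmbLib24.coordFun_self]
  · rw [Fin.insertNth_apply_succAbove]
    exact MvPolynomial.eval₂Hom_X' _ _ _

variable [IsAlgClosed k]

/-- A globally generated bundle of rank above the dimension has trivial subbundles with locally free quotient. -/
theorem exists_mono_free {r : ℕ} (hrn : n < r) {E : (CohB1.ProjSpace n k).Modules}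
    (hE : FlatMod.IsFinLocFreeOfRank r E) {N : ℕ} (ψ : FlatMod.freeMod ℙ N ⟶ E) [Epi ψ] :
    ∃ φ : FlatMod.freeMod ℙ (r - n) ⟶ E, Mono φ ∧ FlatMod.IsFinLocFreeOfRank n (cokernel φ) := by
  classical
  haveI := LocFreeLib.isQCoh_of_isFinLocFreeOfRank hE
  haveI := isQCoh_freeMod (X := ℙ) (I := ULift.{u} (Fin N))
  let ψ' : Coherent.freeMod ℙ (ULift.{u} (Fin N)) ⟶ E := (Props12.freeModIso ℙ N).hom ≫ ψ
  haveI : Epi ψ' := epi_comp _ _
  let σ : Fin N → (Coh.structureModule ℙ ⟶ E) := fun j => freeInj ⟨j⟩ ≫ ψ'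
  haveI hlin : IsLocallyNoetherian ℙ := isLocallyNoetherian_projSpace
  haveI : IsIntegral ℙ := CurveLib.isIntegral_projSpace (k := k) n
  have hF : ∀ j : Fin (n + 1), ∃ F : MvPolynomial (Fin (r - n) × Fin N) k, F ≠ 0 ∧
      ∀ v : Fin (r - n) → Fin N → k, MvPolynomial.eval (fun p => v p.1 p.2) F ≠ 0 →
        ∃ ρ : Γ(E, LefPen.chart n k j) →ₗ[Γ(ℙ, LefPen.chart n k j)] (Fin (r - n) → Γ(ℙ, LefPen.chart n k j)),
          ∀ (c : Fin (r - n) → Γ(ℙ, LefPen.chart n k j)) i, ρ (∑ l, c l • ∑ a, EmbLib24.gl (CohB1.ProjSpace.toSpec n k) (LefPen.chart n k j) (v l a) •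
            unitVal (σ a) (LefPen.chart n k j)) i = c i := by
    intro j
    have hU : IsAffineOpen (LefPen.chart n k j) := EmbLib24.isAffineOpen_chart n k j
    obtain ⟨h1, h2⟩ := module_data hE hU
    let π : (Fin N → Γ(ℙ, LefPen.chart n k j)) →ₗ[Γ(ℙ, LefPen.chart n k j)] Γ(E, LefPen.chart n k j) :=
      Fintype.linearCombination _ fun a => unitVal (σ a) (LefPen.chart n k j)
    have hπ : Function.Surjective π := fun z => by
      obtain ⟨a, rfl⟩ := H8Lim.app_surjective_of_epi ψ' hU z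
      refine ⟨fun l => freeCoord _ (ULift.up l) a, ?_⟩
      rw [freeMod_app]
      rw [Fintype.linearCombination_apply]
      exact Fintype.sum_equiv Equiv.ulift.symm _ _ fun l => rfl
    haveI : IsNoetherianRing Γ(ℙ, LefPen.chart n k j) := IsLocallyNoetherian.component_noetherian ⟨_, hU⟩
    obtain ⟨F, hF0, hF⟩ := exists_general_tuple (m := r - n) (chartHom j) (chartHom_surjective j) π hπ
      (show n + (r - n) ≤ r by omega) fun I hI => haveI := hI; exists_indep hE hU I
    refine ⟨F, hF0, fun v hv => ?_⟩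
    let f : (Fin (r - n) → Γ(ℙ, LefPen.chart n k j)) →ₗ[Γ(ℙ, LefPen.chart n k j)] Γ(E, LefPen.chart n k j) :=
      Fintype.linearCombination _ fun l => ∑ a, EmbLib24.gl (CohB1.ProjSpace.toSpec n k) (LefPen.chart n k j) (v l a) •
        unitVal (σ a) (LefPen.chart n k j)
    obtain ⟨ρ, hρ⟩ := exists_retraction f fun I hI c hc => hF v hv I hI c (by
      refine Eq.mpr ?_ hc
      congr 1
      rw [map_sum]
      refine Finset.sum_congr rfl fun l _ => ?_
      rw [map_smul]
      refine congrArg (c l • ·) ?_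
      rw [Fintype.linearCombination_apply]
      refine Finset.sum_congr rfl fun a _ => ?_
      exact congrArg (· • _) (MvPolynomial.eval₂Hom_C _ _ _))
    exact ⟨ρ, fun c i => congrFun (LinearMap.congr_fun hρ c) i⟩
  choose F hF0 hF using hF
  obtain ⟨v₀, hv₀⟩ : ∃ v, MvPolynomial.eval v (∏ j, F j) ≠ 0 := by
    by_contra! h
    exact Finset.prod_ne_zero_iff.2 (fun j _ => hF0 j) (MvPolynomial.funext fun v => by rw [h v, map_zero])
  let v : Fin (r - n) → Fin N → k := fun l a => v₀ (l, a)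
  let φ' : Coherent.freeMod ℙ (ULift.{u} (Fin (r - n))) ⟶ E :=
    freeDesc fun l => unitDesc E (∑ a, ProjUP.toGlobal (CohB1.ProjSpace.toSpec n k) (v l.down a) • unitVal (σ a) ⊤)
  have hφ : ∀ (U : (ℙ).Opens) (a : Γ(Coherent.freeMod ℙ (ULift.{u} (Fin (r - n))), U)),
      φ'.app U a = ∑ l : Fin (r - n), freeCoord U (ULift.up l) a •
        ∑ b, EmbLib24.gl (CohB1.ProjSpace.toSpec n k) U (v l b) • unitVal (σ b) U := by
    intro U a
    rw [freeMod_app]
    refine Fintype.sum_equiv Equiv.ulift _ _ fun l => congrArg (_ • ·) ?_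
    rw [freeInj_freeDesc, unitVal_unitDesc, map_sum]
    refine Finset.sum_congr rfl fun b _ => ?_
    rw [resM_smul, resM_unitVal]
    rfl
  obtain ⟨hmono, hfree⟩ := mono_and_isFinLocFree_cokernel hE φ' fun x => by
    obtain ⟨j, hj⟩ := EmbLib24.exists_chart_mem (n := n) (k := k) x
    obtain ⟨ρ, hρ⟩ := hF j v (by
      have h := hv₀
      rw [map_prod] at h
      exact Finset.prod_ne_zero_iff.1 h j (Finset.mem_univ j))
    refine ⟨LefPen.chart n k j, EmbLib24.isAffineOpen_chart n k j, hj, ρ, fun a i => ?_⟩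
    rw [hφ]
    exact hρ (fun l => freeCoord _ (ULift.up l) a) i
  let φ : FlatMod.freeMod ℙ (r - n) ⟶ E := (Props12.freeModIso ℙ (r - n)).inv ≫ φ'
  haveI : Mono φ := mono_comp _ _
  refine ⟨φ, inferInstance, ?_⟩
  have hfree' : FlatMod.IsFinLocFree (cokernel φ) :=
    DQCoh.ProperSuppFlat17.isFinLocFree_of_iso (cokernelEpiComp (Props12.freeModIso ℙ (r - n)).inv φ').symm hfree
  obtain ⟨r', hr'⟩ := VB5.exists_rank hfree'
  have hS : (ShortComplex.mk φ (cokernel.π φ) (cokernel.condition φ)).ShortExact :=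
    { exact := ShortComplex.exact_cokernel φ }
  obtain rfl : r' = n := by
    have := VarietyLib.rank_add hS (VarietyLib.isFinLocFreeOfRank_freeMod (X := ℙ) (r - n)) hE hr' (genericPoint ℙ)
    omega
  exact hr'

/-- An equivalence carries subobjects with given cokernel to subobjects with given cokernel. -/
theorem map_sub {C : Type (u + 1)} [Category.{u} C] [Abelian C] (F : C ⥤ C) [F.IsEquivalence] {O L' G E : C}
    {m : ℕ} (a : L' ≅ F.obj O) (e : F.obj G ≅ E) (φ : (∐ fun _ : Fin m => O) ⟶ G) [Mono φ] :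
    ∃ χ : (∐ fun _ : Fin m => L') ⟶ E, Mono χ ∧ Nonempty (F.obj (cokernel φ) ≅ cokernel χ) := by
  haveI : F.Additive := Functor.additive_of_preserves_binary_products F
  let e₂ : (∐ fun _ : Fin m => L') ≅ F.obj (∐ fun _ : Fin m => O) :=
    Sigma.mapIso (fun _ => a) ≪≫ (PreservesCoproduct.iso F _).symm
  haveI : Mono (F.map φ) := inferInstance
  exact ⟨e₂.hom ≫ F.map φ ≫ e.hom, mono_comp _ _, ⟨PreservesCokernel.iso F φ ≪≫
    (cokernelEpiComp e₂.hom (F.map φ ≫ e.hom) ≪≫ cokernelCompIsIso (F.map φ) e.hom).symm⟩⟩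

/-- An equivalence carries quotients of sums of one object to quotients of sums of its image. -/
theorem map_epi {C : Type (u + 1)} [Category.{u} C] [Abelian C] (F : C ⥤ C) [F.IsEquivalence] {O L' E : C}
    {b : ℕ} (a : O ≅ F.obj L') (π : (∐ fun _ : Fin b => L') ⟶ E) [Epi π] :
    ∃ π' : (∐ fun _ : Fin b => O) ⟶ F.obj E, Epi π' := by
  let e₁ : (∐ fun _ : Fin b => O) ≅ F.obj (∐ fun _ : Fin b => L') :=
    Sigma.mapIso (fun _ => a) ≪≫ (PreservesCoproduct.iso F _).symm
  exact ⟨e₁.hom ≫ F.map π, epi_comp _ _⟩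

theorem nonempty_unit_tensorR {X : Scheme.{u}} (L' : X.Modules) :
    Nonempty (L' ≅ (Quot8.tensorR L').obj (Coh.structureModule X)) :=
  ⟨(AmpleLib.unitTensorIso L').symm⟩

theorem nonempty_inv_tensorR {X : Scheme.{u}} {L L' : X.Modules}
    (e : CohB1.tensorMod L L' ≅ Coh.structureModule X) :
    Nonempty (Coh.structureModule X ≅ (Quot8.tensorR L).obj L') :=
  ⟨(AmpleLib.tensorComm L' L ≪≫ e).symm⟩

theorem rank_tensorR {X : Scheme.{u}} [IsLocallyNoetherian X] {L : X.Modules} (hL : PicF.IsInvertible L) {r : ℕ}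
    {M : X.Modules} (hM : FlatMod.IsFinLocFreeOfRank r M) : FlatMod.IsFinLocFreeOfRank r ((Quot8.tensorR L).obj M) :=
  Clifford24.isFinLocFreeOfRank_tensorMod hM hL

/-- Tensoring with an invertible module preserves subbundles of a given corank. -/
theorem tensor_sub {X : Scheme.{u}} [IsLocallyNoetherian X] {L L' : X.Modules}
    (e : CohB1.tensorMod L L' ≅ Coh.structureModule X) (hL' : PicF.IsInvertible L') {m q : ℕ} {E : X.Modules}
    (φ : FlatMod.freeMod X m ⟶ (Quot8.tensorR L).obj E) [Mono φ]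
    (hc : FlatMod.IsFinLocFreeOfRank q (cokernel φ)) :
    ∃ χ : (∐ fun _ : Fin m => L') ⟶ E, Mono χ ∧ FlatMod.IsFinLocFreeOfRank q (cokernel χ) := by
  haveI := Quot8.isEquivalence_tensorR (AmpleLib.tensorComm L' L ≪≫ e)
  obtain ⟨a⟩ := nonempty_unit_tensorR L'
  obtain ⟨χ, hχ, ⟨i⟩⟩ := map_sub (Quot8.tensorR L') a ((Quot8.tensorRComp e).app E) φ
  exact ⟨χ, hχ, DQCoh.RpushDegree17.isFinLocFreeOfRank_of_iso i (rank_tensorR hL' hc)⟩

/-- A module generated by copies of the inverse of `L` becomes generated by sections after tensoring with `L`. -/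
theorem exists_epi_tensor {X : Scheme.{u}} {L L' : X.Modules}
    (e : CohB1.tensorMod L L' ≅ Coh.structureModule X) {b : ℕ} {E : X.Modules}
    (π : (∐ fun _ : Fin b => L') ⟶ E) [Epi π] :
    ∃ π' : FlatMod.freeMod X b ⟶ (Quot8.tensorR L).obj E, Epi π' := by
  haveI := Quot8.isEquivalence_tensorR e
  obtain ⟨a⟩ := nonempty_inv_tensorR e
  exact map_epi (Quot8.tensorR L) a π

/-- A bundle of rank above the dimension has subbundles that are sums of one twist. -/
theorem exists_mono_twist {r : ℕ} (hrn : n < r) {E : (CohB1.ProjSpace n k).Modules}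
    (hE : FlatMod.IsFinLocFreeOfRank r E) :
    ∃ (a : ℤ) (φ : (∐ fun _ : Fin (r - n) => O[a]) ⟶ E),
      Mono φ ∧ FlatMod.IsFinLocFreeOfRank n (cokernel φ) := by
  haveI hlin : IsLocallyNoetherian ℙ := isLocallyNoetherian_projSpace
  have hcoh := SplitP1.isCoh_of_rank hE
  obtain ⟨d, hd⟩ := CAlgH3.PSheafBound.exists_isMRegular E hcoh
  obtain ⟨b, π₀, hπ₀, -⟩ := CAlgH3.PSheafPres.exists_presentation hcoh hd
  haveI := hπ₀
  obtain ⟨z⟩ := nonempty_twist0 (n := n) (A := k)
  obtain ⟨t⟩ := nonempty_tt (n := n) (A := k) (show d + -d = 0 by ring)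
  obtain ⟨π₁, hπ₁⟩ := exists_epi_tensor (t ≪≫ z) π₀
  haveI := hπ₁
  have hG : FlatMod.IsFinLocFreeOfRank r ((Quot8.tensorR O[d]).obj E) :=
    Clifford24.isFinLocFreeOfRank_tensorMod hE (Coherent.isInvertible_twistProjSpaceZ n d k)
  obtain ⟨φ, hφ, hcok⟩ := exists_mono_free hrn hG π₁
  haveI := hφ
  exact ⟨-d, tensor_sub (t ≪≫ z) (Coherent.isInvertible_twistProjSpaceZ n (-d) k) φ hcok⟩

end Pn

end Groth.Agent.EulerPn5.GenSection
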