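import Groth.Agent.Gen15.Engine
import Mathlib

/-!
# General sections of finite projective modules over quotients of polynomial rings
-/

set_option autoImplicit false
set_option linter.style.haveILetI false
set_option linter.unusedSectionVars false
set_option maxHeartbeats 800000

universe u

open MvPolynomial

namespace Groth.Agent.EulerPn5.GenSection

section functionals

variable {A : Type*} [CommRing A] {M : Type*} [AddCommGroup M] [Module A M] [Module.Projective A M]

/-- Functionals dual to a family independent modulo a maximal ideal. -/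
theorem exists_functionals {r : ℕ} (I : Ideal A) [I.IsMaximal] (x : Fin r → M)
    (hx : ∀ c : Fin r → A, (∑ j, c j • x j) ∈ I • (⊤ : Submodule A M) → ∀ j, c j ∈ I) :
    ∃ l : Fin r → Module.Dual A M, ∀ i j, l i (x j) - (if i = j then 1 else 0) ∈ I := by
  classical
  letI : Field (A ⧸ I) := Ideal.Quotient.field I
  let V := M ⧸ (I • (⊤ : Submodule A M))
  let q : M →ₗ[A] V := Submodule.mkQ _
  have hli : LinearIndependent (A ⧸ I) (fun j => q (x j)) := by
    refine Fintype.linearIndependent_iff.2 fun g hg j => ?_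
    choose c hc using fun j => Ideal.Quotient.mk_surjective (g j)
    rw [← hc j, Ideal.Quotient.eq_zero_iff_mem]
    refine hx c ((Submodule.Quotient.mk_eq_zero _).1 (Eq.trans ?_ hg)) j
    show q (∑ j, c j • x j) = _
    rw [map_sum]
    refine Finset.sum_congr rfl fun j _ => ?_
    rw [map_smul, ← hc j]
    rfl
  have key : ∀ i, ∃ l : Module.Dual A M, ∀ j, l (x j) - (if i = j then 1 else 0) ∈ I := fun i => by
    obtain ⟨f, hf⟩ := LinearMap.exists_extend
      ((Finsupp.lapply i).comp hli.repr : Submodule.span (A ⧸ I) (Set.range fun j => q (x j)) →ₗ[A ⧸ I] A ⧸ I)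
    let f' : M →ₗ[A] A ⧸ I := (f.restrictScalars A).comp q
    obtain ⟨l, hl⟩ := Module.projective_lifting_property (Algebra.linearMap A (A ⧸ I)) f'
      Ideal.Quotient.mk_surjective
    refine ⟨l, fun j => ?_⟩
    rw [← Ideal.Quotient.eq]
    have h1 : Ideal.Quotient.mk I (l (x j)) = f (q (x j)) := LinearMap.congr_fun hl (x j)
    have h2 := LinearMap.congr_fun hf ⟨q (x j), Submodule.subset_span ⟨j, rfl⟩⟩
    rw [h1]
    refine h2.trans ?_
    simp only [LinearMap.comp_apply, Finsupp.lapply_apply]
    rw [hli.repr_eq_single j _ rfl, Finsupp.single_apply]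
    by_cases h : i = j
    · rw [if_pos h, if_pos h.symm, map_one]
    · rw [if_neg h, if_neg (Ne.symm h), map_zero]
  choose l hl using key
  exact ⟨l, hl⟩

variable [Module.Finite A M]

/-- A map from a free module that is injective modulo every maximal ideal is split injective. -/
theorem exists_retraction {m : ℕ} (φ : (Fin m → A) →ₗ[A] M)
    (h : ∀ (I : Ideal A), I.IsMaximal → ∀ c : Fin m → A, φ c ∈ I • (⊤ : Submodule A M) → ∀ j, c j ∈ I) :
    ∃ ρ : M →ₗ[A] (Fin m → A), ρ.comp φ = LinearMap.id := by
  classical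
  let e : Fin m → (Fin m → A) := fun i => Pi.single i 1
  let Ψ : Module.Dual A M →ₗ[A] (Fin m → A) := LinearMap.pi fun i => LinearMap.applyₗ (φ (e i))
  have hsurj : LinearMap.range Ψ = ⊤ := by
    let R := LinearMap.range Ψ
    let Q := (Fin m → A) ⧸ R
    suffices hann : Module.annihilator A Q = ⊤ by
      have hs : ∀ z : Q, z = 0 := fun z => by
        have h1 : (1 : A) • z = 0 := Module.mem_annihilator.1 (hann.symm ▸ Submodule.mem_top) z
        rwa [one_smul] at h1
      exact eq_top_iff.2 fun z _ => (Submodule.Quotient.mk_eq_zero _).1 (hs _)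
    by_contra hne
    obtain ⟨I, hI, hle⟩ := Ideal.exists_le_maximal _ hne
    haveI := hI
    obtain ⟨l, hl⟩ := exists_functionals I (fun i => φ (e i)) fun c hc => h I hI c (by
      have h2 : c = ∑ i, c i • e i := pi_eq_sum_univ' c
      rw [h2, map_sum]
      simpa only [map_smul] using hc)
    have htop : (⊤ : Submodule A Q) ≤ I • ⊤ := by
      have hb : ∀ i, (Submodule.Quotient.mk (e i) : Q) ∈ I • (⊤ : Submodule A Q) := fun i => by
        have h3 : (Submodule.Quotient.mk (e i) : Q) = Submodule.Quotient.mk (e i - Ψ (l i)) :=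
          ((Submodule.Quotient.eq R).2 (by simp [R])).symm
        rw [h3, pi_eq_sum_univ' (e i - Ψ (l i))]
        simp only [← Submodule.mkQ_apply, map_sum, map_smul]
        refine Submodule.sum_mem _ fun j _ => Submodule.smul_mem_smul ?_ Submodule.mem_top
        have h4 := hl i j
        have h5 : (e i - Ψ (l i)) j = -(l i (φ (e j)) - if i = j then 1 else 0) := by
          show (Pi.single i (1 : A) : Fin m → A) j - l i (φ (e j)) = _
          rw [Pi.single_apply, neg_sub]
          simp only [eq_comm]
        rw [h5]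
        exact I.neg_mem h4
      intro z _
      obtain ⟨z, rfl⟩ := Submodule.Quotient.mk_surjective R z
      rw [pi_eq_sum_univ' z]
      simp only [← Submodule.mkQ_apply, map_sum, map_smul]
      exact Submodule.sum_mem _ fun j _ => Submodule.smul_mem _ _ (hb j)
    obtain ⟨s, hs, hs0⟩ := Submodule.exists_sub_one_mem_and_smul_eq_zero_of_fg_of_le_smul I (⊤ : Submodule A Q)
      Module.Finite.fg_top htop
    have hsI : s ∈ I := hle (Module.mem_annihilator.2 fun z => hs0 z Submodule.mem_top)
    exact hI.ne_top ((Ideal.eq_top_iff_one _).2 (by simpa using I.sub_mem hsI hs))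
  choose L hL using fun i => LinearMap.range_eq_top.1 hsurj (e i)
  refine ⟨LinearMap.pi L, LinearMap.pi_ext' fun j => LinearMap.ext_ring ?_⟩
  funext i
  have h1 := congrFun (hL i) j
  show L i (φ (Pi.single j 1)) = (Pi.single j 1 : Fin m → A) i
  refine h1.trans ?_
  show (Pi.single i (1 : A) : Fin m → A) j = _
  rw [Pi.single_apply, Pi.single_apply]
  simp only [eq_comm]

/-- The cokernel of a split injection into a projective module is projective. -/
theorem projective_of_retraction {m : ℕ} (φ : (Fin m → A) →ₗ[A] M) {Q : Type*} [AddCommGroup Q] [Module A Q]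
    (g : M →ₗ[A] Q) (hg : Function.Surjective g) (hex : Function.Exact φ g) (ρ : M →ₗ[A] (Fin m → A))
    (hρ : ρ.comp φ = LinearMap.id) : Module.Finite A Q ∧ Module.Projective A Q := by
  refine ⟨Module.Finite.of_surjective g hg, ?_⟩
  let p : M →ₗ[A] M := LinearMap.id - φ.comp ρ
  have hp : LinearMap.ker g ≤ LinearMap.ker p := fun z hz => by
    obtain ⟨c, rfl⟩ := (hex z).1 (LinearMap.mem_ker.1 hz)
    have h1 : ρ (φ c) = c := LinearMap.congr_fun hρ c
    simp [p, h1]
  let e : (M ⧸ LinearMap.ker g) ≃ₗ[A] Q := g.quotKerEquivOfSurjective hg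
  let s : Q →ₗ[A] M := ((LinearMap.ker g).liftQ p hp).comp e.symm.toLinearMap
  refine Module.Projective.of_split s g (LinearMap.ext fun z => ?_)
  obtain ⟨z, rfl⟩ := hg z
  have h1 : e.symm (g z) = Submodule.Quotient.mk z := e.symm_apply_eq.2 rfl
  show g (((LinearMap.ker g).liftQ p hp) (e.symm (g z))) = g z
  rw [h1]
  show g (z - φ (ρ z)) = g z
  rw [map_sub, hex.apply_apply_eq_zero, sub_zero]

end functionals

section bad

variable {k : Type u} [Field k] {n N m : ℕ}

/-- `k`-combinations of few polynomial vectors in which some combination of the `v`'s lies form a small set. -/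
theorem exists_avoid_span {ι : Type} [Fintype ι] (P : ι → Fin N → MvPolynomial (Fin n) k) (K : ℕ)
    (hK : n + K + m ≤ N) :
    ∃ F : MvPolynomial (Fin m × Fin N) k, F ≠ 0 ∧ ∀ v : Fin m → Fin N → k, eval (fun p => v p.1 p.2) F ≠ 0 →
      ∀ (t : Fin n → k) (c : Fin m → k), c ≠ 0 →
        Module.finrank k (Submodule.span k (Set.range fun a j => eval t (P a j))) ≤ K →
        (fun j => ∑ l, c l * v l j) ∉ Submodule.span k (Set.range fun a j => eval t (P a j)) := by
  classical
  let σ : Fin m → Type := fun i => Fin n ⊕ (Fin K ⊕ ({l : Fin m // l ≠ i} ⊕ {l : Fin m // l ≠ i} × Fin N))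
  let P' : Option ι → Fin N → MvPolynomial (Fin n) k := fun a => a.elim 0 P
  let g : ∀ (J : Fin K → Option ι) (i : Fin m), Fin m × Fin N → MvPolynomial (σ i) k := fun J i p =>
    if h : p.1 = i then
      (∑ a, X (.inr (.inl a)) * rename Sum.inl (P' (J a) p.2)) -
        ∑ l : {l : Fin m // l ≠ i}, X (.inr (.inr (.inl l))) * X (.inr (.inr (.inr (l, p.2))))
    else X (.inr (.inr (.inr (⟨p.1, h⟩, p.2))))
  have hcard : ∀ i, Fintype.card (σ i) < Fintype.card (Fin m × Fin N) := fun i => by
    have hm : 0 < m := i.pos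
    have h1 : Fintype.card {l : Fin m // l ≠ i} = m - 1 := by simp
    simp only [σ, Fintype.card_sum, Fintype.card_prod, Fintype.card_fin, h1]
    obtain ⟨m', rfl⟩ : ∃ m', m = m' + 1 := ⟨m - 1, by omega⟩
    rw [Nat.add_sub_cancel, Nat.succ_mul]
    omega
  choose Φ hΦ0 hΦ using fun J i => Gen15.exists_dependent (g J i) (hcard i)
  refine ⟨∏ J, ∏ i, Φ J i, Finset.prod_ne_zero_iff.2 fun J _ => Finset.prod_ne_zero_iff.2 fun i _ => hΦ0 J i,
    fun v hv t c hc hdim hmem => ?_⟩
  let w : Option ι → Fin N → k := fun a j => eval t (P' a j)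
  have hspan : Submodule.span k (Set.range fun a j => eval t (P a j)) = Submodule.span k (Set.range w) := by
    refine le_antisymm (Submodule.span_mono ?_) (Submodule.span_le.2 ?_)
    · rintro _ ⟨a, rfl⟩
      exact ⟨some a, rfl⟩
    · rintro _ ⟨(_ | a), rfl⟩
      · have h0 : w none = 0 := funext fun j => by simp [w, P']
        rw [h0]
        exact Submodule.zero_mem _
      · exact Submodule.subset_span ⟨a, rfl⟩
  rw [hspan] at hdim hmem
  obtain ⟨κ, a, ha, hsp, hli⟩ := exists_linearIndependent' k w
  haveI : Finite κ := Finite.of_injective a ha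
  haveI : Fintype κ := Fintype.ofFinite κ
  have hκ : Fintype.card κ ≤ K := by
    refine le_trans (le_of_eq ?_) hdim
    rw [← hsp]
    exact (finrank_span_eq_card hli).symm
  let emb : κ ↪ Fin K := (Fintype.equivFin κ).toEmbedding.trans ⟨Fin.castLE hκ, Fin.castLE_injective hκ⟩
  let J : Fin K → Option ι := Function.extend emb a fun _ => none
  have hJ : Submodule.span k (Set.range w) ≤ Submodule.span k (Set.range (w ∘ J)) := by
    rw [← hsp]
    refine Submodule.span_mono ?_
    rintro _ ⟨z, rfl⟩
    exact ⟨emb z, by simp only [Function.comp_apply, J, emb.injective.extend_apply]⟩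
  obtain ⟨i, hi⟩ : ∃ i, c i ≠ 0 := by
    by_contra h
    push_neg at h
    exact hc (funext h)
  obtain ⟨d, hd⟩ := (Submodule.mem_span_range_iff_exists_fun k).1 (hJ hmem)
  let s : σ i → k := Sum.elim t (Sum.elim (fun a => d a / c i)
    (Sum.elim (fun l => c l.1 / c i) (fun p => v p.1.1 p.2)))
  have hs : ∀ p, eval s (g J i p) = v p.1 p.2 := by
    rintro ⟨l, j⟩
    by_cases h : l = i
    · subst h
      simp only [g, dif_pos, map_sub, map_sum, map_mul, eval_X, eval_rename]
      have h1 : (fun x : Fin n => s (Sum.inl x)) = t := rfl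
      have hd' : ∑ a, d a * eval t (P' (J a) j) = ∑ x, c x * v x j := by
        have := congrFun hd j
        simpa [w, Finset.sum_apply] using this
      have hsplit : ∑ x, c x * v x j = c l * v l j + ∑ x : {x : Fin m // x ≠ l}, c x.1 * v x.1 j := by
        rw [← Finset.add_sum_erase _ _ (Finset.mem_univ l)]
        congr 1
        rw [← Finset.sum_subtype (Finset.univ.erase l) (by simp) (fun x => c x * v x j)]
      show (∑ a, d a / c l * eval (fun x => s (Sum.inl x)) (P' (J a) j)) -
        ∑ x : {x : Fin m // x ≠ l}, c x.1 / c l * v x.1 j = v l j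
      rw [h1]
      apply mul_left_cancel₀ hi
      rw [mul_sub, Finset.mul_sum, Finset.mul_sum]
      have e1 : ∀ a, c l * (d a / c l * eval t (P' (J a) j)) = d a * eval t (P' (J a) j) := fun a => by
        field_simp
      have e2 : ∀ x : {x : Fin m // x ≠ l}, c l * (c x.1 / c l * v x.1 j) = c x.1 * v x.1 j := fun x => by
        field_simp
      simp only [e1, e2]
      rw [hd', hsplit, add_sub_cancel_right]
    · simp only [g, dif_neg h, eval_X]
      rfl
  refine hv ?_
  rw [map_prod]
  refine Finset.prod_eq_zero (Finset.mem_univ J) ?_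
  rw [map_prod]
  refine Finset.prod_eq_zero (Finset.mem_univ i) ?_
  have h0 : eval s (aeval (g J i) (Φ J i)) = 0 := by rw [hΦ J i, map_zero]
  have hfun : (fun p : Fin m × Fin N => v p.1 p.2) = fun p => eval s (g J i p) := funext fun p => (hs p).symm
  rw [hfun, ← h0]
  exact (congrArg (fun φ : MvPolynomial (Fin m × Fin N) k →+* k => φ (Φ J i))
    (show (eval s).comp (aeval (g J i)).toRingHom = eval fun p => eval s (g J i p) from
      ringHom_ext (fun a => by simp) (fun p => by simp))).symm

variable [IsAlgClosed k] {A : Type u} [CommRing A] {M : Type u} [AddCommGroup M] [Module A M] [Module.Projective A M]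

/-- General `m`-tuples of sections are independent at every point. -/
theorem exists_general_tuple [IsNoetherianRing A] (ω : MvPolynomial (Fin n) k →+* A) (hω : Function.Surjective ω)
    (π : (Fin N → A) →ₗ[A] M) (hπ : Function.Surjective π) {r : ℕ} (hm : n + m ≤ r)
    (hrank : ∀ I : Ideal A, I.IsMaximal → ∃ x : Fin r → M, ∀ c : Fin r → A,
      (∑ j, c j • x j) ∈ I • (⊤ : Submodule A M) → ∀ j, c j ∈ I) :
    ∃ F : MvPolynomial (Fin m × Fin N) k, F ≠ 0 ∧ ∀ v : Fin m → Fin N → k, eval (fun p => v p.1 p.2) F ≠ 0 →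
      ∀ I : Ideal A, I.IsMaximal → ∀ c : Fin m → A,
        π (∑ l, c l • fun j => ω (MvPolynomial.C (v l j))) ∈ I • (⊤ : Submodule A M) → ∀ l, c l ∈ I := by
  classical
  obtain ⟨L, P, hP⟩ := Submodule.fg_iff_exists_fin_generating_family.1 (IsNoetherian.noetherian (LinearMap.ker π))
  choose Ph hPh using fun a j => hω (P a j)
  by_cases hbad : ∀ I : Ideal A, ¬ I.IsMaximal
  · exact ⟨1, one_ne_zero, fun v _ I hI => absurd hI (hbad I)⟩
  push_neg at hbad
  have hNr : r ≤ N := by
    obtain ⟨I, hI⟩ := hbad
    haveI := hI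
    letI : Field (A ⧸ I) := Ideal.Quotient.field I
    obtain ⟨x, hx⟩ := hrank I hI
    choose w hw using fun i => hπ (x i)
    have hli : LinearIndependent (A ⧸ I) (fun i (j : Fin N) => Ideal.Quotient.mk I (w i j)) := by
      refine Fintype.linearIndependent_iff.2 fun g hg i => ?_
      choose c hc using fun i => Ideal.Quotient.mk_surjective (g i)
      rw [← hc i, Ideal.Quotient.eq_zero_iff_mem]
      refine hx c ?_ i
      simp only [← hw, ← map_smul, ← map_sum]
      have hu : ∀ j, (∑ i, c i • w i) j ∈ I := fun j => by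
        rw [← Ideal.Quotient.eq_zero_iff_mem]
        have := congrFun hg j
        simpa [Finset.sum_apply, ← hc] using this
      rw [pi_eq_sum_univ' (∑ i, c i • w i), map_sum]
      exact Submodule.sum_mem _ fun j _ => by
        rw [map_smul]; exact Submodule.smul_mem_smul (hu j) Submodule.mem_top
    simpa using hli.fintype_card_le_finrank
  obtain ⟨F, hF0, hF⟩ := exists_avoid_span (m := m) Ph (N - r) (by omega)
  refine ⟨F, hF0, fun v hv I hI c hc l => ?_⟩
  haveI := hI
  haveI : (I.comap ω).IsMaximal := Ideal.comap_isMaximal_of_surjective ω hω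
  obtain ⟨t, ht⟩ := (MvPolynomial.isMaximal_iff_eq_vanishingIdeal_singleton (I := I.comap ω)).1 inferInstance
  have hker : ∀ p, eval t p = 0 ↔ ω p ∈ I := fun p => by
    rw [← Ideal.mem_comap, ht, MvPolynomial.mem_vanishingIdeal_singleton_iff]
    rfl
  let res : A →+* k := ω.liftOfSurjective hω ⟨eval t, fun p hp => (hker p).2 (by rw [RingHom.mem_ker.1 hp]; exact I.zero_mem)⟩
  have hres : ∀ p, res (ω p) = eval t p := fun p =>
    RingHom.liftOfRightInverse_comp_apply _ _ _ _ p
  have hresI : ∀ a, a ∈ I ↔ res a = 0 := fun a => by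
    obtain ⟨p, rfl⟩ := hω a
    rw [hres, hker]
  let S' : Submodule k (Fin N → k) := Submodule.span k (Set.range fun a j => eval t (Ph a j))
  have hmem : ∀ u : Fin N → A, π u ∈ I • (⊤ : Submodule A M) → (fun j => res (u j)) ∈ S' := fun u hu => by
    have htop : I • (⊤ : Submodule A M) = Submodule.map π (I • (⊤ : Submodule A (Fin N → A))) := by
      rw [Submodule.map_smul'', Submodule.map_top, LinearMap.range_eq_top.2 hπ]
    rw [htop] at hu
    obtain ⟨μ, hμ, hμu⟩ := hu
    have hμ0 : ∀ j, res (μ j) = 0 := fun j => by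
      refine (hresI _).1 ?_
      exact Submodule.smul_induction_on hμ (fun a ha z _ => I.mul_mem_right (z j) ha) fun a b ha hb => I.add_mem ha hb
    have hk : u - μ ∈ LinearMap.ker π := by rw [LinearMap.mem_ker, map_sub, hμu, sub_self]
    rw [← hP] at hk
    obtain ⟨b, hb⟩ := (Submodule.mem_span_range_iff_exists_fun A).1 hk
    have : (fun j => res (u j)) = ∑ a, res (b a) • fun j => eval t (Ph a j) := funext fun j => by
      have h1 := congrArg res (congrFun hb j)
      simp only [Finset.sum_apply, Pi.smul_apply, smul_eq_mul, map_sum, map_mul, Pi.sub_apply, map_sub, hμ0,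
        sub_zero] at h1
      rw [← h1, Finset.sum_apply]
      exact Finset.sum_congr rfl fun a _ => by rw [Pi.smul_apply, smul_eq_mul, ← hres, hPh]
    rw [this]
    exact Submodule.sum_mem _ fun a _ => Submodule.smul_mem _ _ (Submodule.subset_span ⟨a, rfl⟩)
  have hdim : Module.finrank k S' ≤ N - r := by
    obtain ⟨x, hx⟩ := hrank I hI
    obtain ⟨f, hf⟩ := exists_functionals I x hx
    let Λ : (Fin N → k) →ₗ[k] (Fin r → k) :=
      LinearMap.pi fun i => ∑ j, res (f i (π (Pi.single j 1))) • LinearMap.proj j
    have hΛ : ∀ (u : Fin N → A) i, Λ (fun j => res (u j)) i = res (f i (π u)) := fun u i => by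
      conv_rhs => rw [pi_eq_sum_univ' u]
      simp [Λ, mul_comm]
    have hsurj : Function.Surjective Λ := fun y => by
      choose w hw using fun i => hπ (x i)
      refine ⟨∑ i, y i • fun j => res (w i j), funext fun i => ?_⟩
      rw [map_sum, Finset.sum_apply]
      simp only [map_smul, Pi.smul_apply, hΛ, hw, smul_eq_mul]
      have h1 : ∀ a, res (f i (x a)) = if i = a then 1 else 0 := fun a => by
        have := (hresI _).1 (hf i a)
        rw [map_sub, sub_eq_zero] at this
        rw [this]
        split_ifs <;> simp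
      simp [h1]
    have hle : S' ≤ LinearMap.ker Λ := Submodule.span_le.2 (by
      rintro _ ⟨a, rfl⟩
      refine LinearMap.mem_ker.2 (funext fun i => ?_)
      show Λ (fun j => eval t (Ph a j)) i = 0
      have h1 : (fun j => eval t (Ph a j)) = fun j => res (P a j) := funext fun j => by rw [← hres, hPh]
      rw [h1, hΛ]
      have : π (P a) = 0 := LinearMap.mem_ker.1 (hP ▸ Submodule.subset_span ⟨a, rfl⟩)
      rw [this, map_zero, map_zero])
    have h2 := Λ.finrank_range_add_finrank_ker
    rw [LinearMap.range_eq_top.2 hsurj, finrank_top, Module.finrank_fin_fun, Module.finrank_fin_fun] at h2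
    have h3 := Submodule.finrank_mono hle
    omega
  by_contra hl
  refine hF v hv t (fun l => res (c l)) (fun h0 => hl ((hresI _).2 (congrFun h0 l))) hdim ?_
  have h4 := hmem _ hc
  convert h4 using 1
  funext j
  simp [Finset.sum_apply, hres]

end bad

end Groth.Agent.EulerPn5.GenSection
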