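import Groth.Agent.EulerPn5.Wedge
import Groth.Agent.EulerPn5.Euler
import Groth.Agent.LESBound.Ineq
import Groth.Agent.CAlgH3.ModCohSeq
import Groth.Agent.Coherent.CohBC.HomSheaf

/-!
# Iterated extensions of copies of a module
-/

set_option autoImplicit false
set_option linter.style.haveILetI false
set_option linter.unusedSectionVars false
set_option backward.isDefEq.respectTransparency.types false
set_option maxHeartbeats 1000000

universe u

open CategoryTheory CategoryTheory.Limits AlgebraicGeometry TopologicalSpace Opposite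
open Groth.Agent.Coherent Groth.Agent.EulerLib Groth.Agent.CAlgH3
open scoped ZeroObject

namespace Groth.Agent.EulerPn5

variable {X : Scheme.{u}}

/-- `M` is built from `m` copies of `N` by extensions. -/
inductive It (N : X.Modules) : ℕ → X.Modules → Prop
  | zero {M : X.Modules} (h : IsZero M) : It N 0 M
  | base {M : X.Modules} (e : M ≅ N) : It N 1 M
  | ext {a b : ℕ} {S : ShortComplex X.Modules} (hS : S.ShortExact) (h₁ : It N a S.X₁) (h₃ : It N b S.X₃) :
      It N (a + b) S.X₂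

theorem It.of_iso {N : X.Modules} {m : ℕ} {M M' : X.Modules} (h : It N m M) (e : M ≅ M') : It N m M' := by
  cases h with
  | zero h => exact .zero (h.of_iso e.symm)
  | base f => exact .base (e.symm ≪≫ f)
  | @ext a b S hS h₁ h₃ =>
    let T : ShortComplex X.Modules := ShortComplex.mk (S.f ≫ e.hom) (e.inv ≫ S.g) (by simp [S.zero])
    have hi : S ≅ T := ShortComplex.isoMk (S₁ := S) (S₂ := T) (Iso.refl S.X₁) e (Iso.refl S.X₃) (by simp [T]) (by simp [T])
    exact It.ext (S := T) (ShortComplex.shortExact_of_iso hi hS) h₁ h₃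

theorem V_of_isZero {M : X.Modules} (h : IsZero M) (q : ℕ) : ModCohSeq.V M q := by
  refine (ModCohSeq.V_iff_HMod _ q).2 (subsingleton_of_forall_eq 0 fun x => ?_)
  have := postHM_id M q ⊤ x
  rw [(IsZero.iff_id_eq_zero _).1 h, postHM_zero] at this
  exact this.symm

theorem It.vanish {N : X.Modules} {q : ℕ} (hN : ModCohSeq.V N q) {m : ℕ} {M : X.Modules} (h : It N m M) :
    ModCohSeq.V M q := by
  induction h with
  | zero h => exact V_of_isZero h q
  | base e => exact ModCohSeq.V_of_iso e.symm hN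
  | ext hS _ _ ih₁ ih₃ => exact ModCohSeq.V_mid hS ih₁ ih₃

theorem It.isFinLocFree {N : X.Modules} (hN : FlatMod.IsFinLocFree N) {m : ℕ} {M : X.Modules} (h : It N m M) :
    FlatMod.IsFinLocFree M := by
  induction h with
  | zero h => exact fun _ => ⟨⊤, 0, trivial, ⟨(((Scheme.Modules.restrictFunctor (⊤ : X.Opens).ι).map_isZero h)).iso
      ((IsZero.iff_id_eq_zero _).2 (Limits.Sigma.hom_ext _ _ fun j => j.elim0))⟩⟩
  | base e => exact ExtFilt28.isFinLocFree_congr e.symm hN
  | ext hS _ _ ih₁ ih₃ => exact ExtFilt28.isFinLocFree_extension hS ih₁ ih₃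

theorem It.tensor {N : X.Modules} {m : ℕ} {M : X.Modules} (h : It N m M) {T : X.Modules}
    (hT : FlatMod.IsFinLocFree T) : It (CohB1.tensorMod N T) m (CohB1.tensorMod M T) := by
  induction h with
  | zero h =>
    exact .zero (((((DCoh.tensorBi (X := X)).obj T).map_isZero h)).of_iso (AmpleLib.tensorComm _ _))
  | base e => exact .base (AmpleLib.tensorIso e (Iso.refl T))
  | @ext a b S hS _ _ ih₁ ih₃ =>
    haveI := CAlgH3.LocFreeFactor.isQCoh_of_finLocFree hT
    obtain ⟨U, hU, e₁, e₂, e₃⟩ := VarietyLib.exists_tensorSeq hS T fun x => by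
      haveI := Props12.free_stalk_of_isFinLocFree T hT x
      infer_instance
    exact (It.ext hU (e₁ ▸ ih₁) (e₃ ▸ ih₃)).of_iso (eqToIso e₂)

theorem It.change {N N' : X.Modules} (e : N ≅ N') {m : ℕ} {M : X.Modules} (h : It N m M) : It N' m M := by
  induction h with
  | zero h => exact .zero h
  | base f => exact .base (f ≪≫ e)
  | ext hS _ _ ih₁ ih₃ => exact .ext hS ih₁ ih₃

section dim

variable (k : Type u) [Field k] [X.Over (Spec (CommRingCat.of k))] [IsProper (X ↘ Spec (CommRingCat.of k))]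

/-- Additivity of `h^0` when the first `H^1` vanishes. -/
theorem finrank_zero_add {S : ShortComplex X.Modules} (hS : S.ShortExact) (h₁ : Coh.IsCoh S.X₁)
    (h₂ : Coh.IsCoh S.X₂) (hv : ModCohSeq.V S.X₁ 1) :
    Module.finrank k (Coh.HH X S.X₂ 0) =
      Module.finrank k (Coh.HH X S.X₁ 0) + Module.finrank k (Coh.HH X S.X₃ 0) := by
  haveI := finCoh_of_isProper (X ↘ Spec (CommRingCat.of k)) S.X₁ h₁ 0
  haveI := finCoh_of_isProper (X ↘ Spec (CommRingCat.of k)) S.X₂ h₂ 0
  haveI : Subsingleton (HA (Coherent.baseHom k X) S.X₁ (⊤ : X.Opens) (0 + 1)) := (ModCohSeq.V_iff_HMod _ 1).1 hv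
  have hinj := EulerLib.postA_zero_injective (Coherent.baseHom k X) hS ⊤
  have hsurj : Function.Surjective (postA (Coherent.baseHom k X) S.g (⊤ : X.Opens) 0) := fun x =>
    (exact_postA_deltaA (Coherent.baseHom k X) hS ⊤ 0 x).1 (Subsingleton.elim _ _)
  haveI := finite_right (Coherent.baseHom k X) hS
  rw [(HHBaseEquiv k S.X₁ 0).finrank_eq, (HHBaseEquiv k S.X₂ 0).finrank_eq, (HHBaseEquiv k S.X₃ 0).finrank_eq]
  have e := (postA (Coherent.baseHom k X) S.g (⊤ : X.Opens) 0).finrank_range_add_finrank_ker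
  rw [LinearMap.exact_iff.1 (exact_postA (Coherent.baseHom k X) hS ⊤ 0),
    LinearMap.finrank_range_of_inj hinj, LinearMap.range_eq_top.2 hsurj, finrank_top] at e
  omega

theorem It.finrank {N : X.Modules} (hN : FlatMod.IsFinLocFree N) (hv : ModCohSeq.V N 1) {m : ℕ} {M : X.Modules}
    (h : It N m M) : Module.finrank k (Coh.HH X M 0) = m * Module.finrank k (Coh.HH X N 0) := by
  induction h with
  | zero h =>
    haveI : Subsingleton (Coh.HH X _ 0) := V_of_isZero h 0
    rw [Module.finrank_zero_of_subsingleton, Nat.zero_mul]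
  | base e => rw [Nat.one_mul, (SerreDual.hmapIso k e 0).finrank_eq]
  | @ext a b S hS h₁ h₃ ih₁ ih₃ =>
    rw [finrank_zero_add k hS (CohBC.isCoh_of_isFinLocFree (h₁.isFinLocFree hN))
      (CohBC.isCoh_of_isFinLocFree ((It.ext hS h₁ h₃).isFinLocFree hN)) (h₁.vanish hv), ih₁, ih₃, Nat.add_mul]

end dim

/-- Isomorphism `H^q(X₃) ≅ H^(q+1)(X₁)` along a sequence with acyclic middle. -/
theorem nonempty_delta_equiv (A : Type u) [CommRing A] [X.Over (Spec (CommRingCat.of A))]
    {S : ShortComplex X.Modules} (hS : S.ShortExact) (q : ℕ) (h₂ : ModCohSeq.V S.X₂ q)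
    (h₂' : ModCohSeq.V S.X₂ (q + 1)) : Nonempty (Coh.HH X S.X₃ q ≃ₗ[A] Coh.HH X S.X₁ (q + 1)) := by
  haveI : Subsingleton (HA (Coherent.baseHom A X) S.X₂ (⊤ : X.Opens) q) := (ModCohSeq.V_iff_HMod _ q).1 h₂
  haveI : Subsingleton (HA (Coherent.baseHom A X) S.X₂ (⊤ : X.Opens) (q + 1)) := (ModCohSeq.V_iff_HMod _ (q + 1)).1 h₂'
  refine ⟨(HHBaseEquiv A S.X₃ q).trans ((LinearEquiv.ofBijective (deltaA (Coherent.baseHom A X) hS ⊤ q)
    ⟨(injective_iff_map_eq_zero _).2 fun x hx => ?_, fun x => ?_⟩).trans (HHBaseEquiv A S.X₁ (q + 1)).symm)⟩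
  · obtain ⟨y, rfl⟩ := (exact_postA_deltaA (Coherent.baseHom A X) hS ⊤ q x).1 hx
    rw [Subsingleton.elim y 0, map_zero]
  · exact (exact_deltaA_postA (Coherent.baseHom A X) hS ⊤ q x).1 (Subsingleton.elim _ _)

/-- Exterior powers of `N^(⊕ m)`. -/
theorem it_extPow_mpow {N : X.Modules} (hN : FlatMod.IsFinLocFreeOfRank 1 N) (P : ℕ → X.Modules)
    (h0 : Nonempty (Coh.structureModule X ≅ P 0)) (hs : ∀ p, Nonempty (CohB1.tensorMod (P p) N ≅ P (p + 1))) :
    ∀ (m p : ℕ) (B : X.Modules), ExtPow.IsExtPow p (mpow N m) B → It (P p) (Nat.choose m p) B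
  | m, 0, B, hB => by
    rw [Nat.choose_zero_right]
    exact .base ((KvbLam28.exists_iso_of_isExtPow hB (KvbLam28.isExtPow_zero _)).some ≪≫ h0.some)
  | 0, p + 1, B, hB => by
    rw [Nat.choose_zero_succ]
    have hz : FlatMod.IsFinLocFreeOfRank 0 (mpow N 0) := fun _ =>
      ⟨⊤, trivial, ⟨(((Scheme.Modules.restrictFunctor (⊤ : X.Opens).ι).map_isZero (isZero_zero _))).iso
        ((IsZero.iff_id_eq_zero _).2 (Limits.Sigma.hom_ext _ _ fun j => j.elim0))⟩⟩
    exact .zero (isZero_of_isExtPow hz hB (Nat.succ_pos p))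
  | m + 1, p + 1, B, hB => by
    have hNf := LocFreeLib.isFinLocFree_of_rank hN
    have hm := isFinLocFree_mpow N hNf m
    obtain ⟨A, -, hA⟩ := ExtPowEx28.exists_isExtPow hm (p + 1)
    obtain ⟨C, hCf, hC⟩ := ExtPowEx28.exists_isExtPow hm p
    obtain ⟨f, g, w, hT⟩ := exists_wedge_seq
      (S := ShortComplex.mk (biprod.inl : mpow N m ⟶ mpow N m ⊞ N) biprod.snd biprod.inl_snd)
      (ShortComplex.Splitting.ofHasBinaryBiproduct (mpow N m) N).shortExact hm hN p hA hB hC
    have h1 := it_extPow_mpow hN P h0 hs m (p + 1) A hA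
    have h3 := ((it_extPow_mpow hN P h0 hs m p C hC).tensor hNf).change (hs p).some
    have := It.ext hT h1 h3
    rw [Nat.choose_succ_succ']
    rw [Nat.add_comm (Nat.choose m (p + 1))] at this
    exact this

end Groth.Agent.EulerPn5
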