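import Groth.Agent.VB5.Basic
import Groth.Agent.RefHullLib.LowDim
import Groth.Agent.SplitP1.Split
import Groth.Agent.KRRPBLib.Basic

/-!
# Kernels of maps between bundles of rank two on locally factorial schemes
-/

set_option autoImplicit false
set_option linter.style.haveILetI false
set_option linter.unusedSectionVars false
set_option backward.isDefEq.respectTransparency.types false
set_option maxHeartbeats 1000000

universe u

open CategoryTheory CategoryTheory.Limits AlgebraicGeometry TopologicalSpace Opposite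
open Groth.Agent.Coherent Groth.Agent.PicLib Groth.Agent.AmpleLib

namespace Groth.Agent.EulerPn5

section Algebra

variable {R : Type u} [CommRing R] [IsDomain R] [UniqueFactorizationMonoid R] {M N : Type u}
  [AddCommGroup M] [Module R M] [AddCommGroup N] [Module R N]

/-- A nonzero non-injective map out of a free module of rank two has a kernel free of rank one. -/
theorem nonempty_basis_ker (bM : Module.Basis (Fin 2) R M) (bN : Module.Basis (Fin 2) R N) (φ : M →ₗ[R] N)
    (h0 : φ ≠ 0) (hinj : ¬ Function.Injective φ) : Nonempty (Module.Basis (Fin 1) R (LinearMap.ker φ)) := by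
  classical
  obtain ⟨i, hi⟩ : ∃ i, (bN.coord i).comp φ ≠ 0 := by
    by_contra h
    push_neg at h
    exact h0 (LinearMap.ext fun x => bN.ext_elem fun i => by
      rw [LinearMap.zero_apply, map_zero]
      exact LinearMap.congr_fun (h i) x)
  let l : M →ₗ[R] R := (bN.coord i).comp φ
  have hl : ∀ x, l x = bM.repr x 0 * l (bM 0) + bM.repr x 1 * l (bM 1) := fun x => by
    conv_lhs => rw [← bM.sum_repr x]
    rw [Fin.sum_univ_two, map_add, map_smul, map_smul, smul_eq_mul, smul_eq_mul]
  obtain ⟨a', b', c, hrel, ha, hb⟩ : ∃ a' b' c, IsRelPrime a' b' ∧ c * a' = l (bM 0) ∧ c * b' = l (bM 1) := by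
    by_cases h : l (bM 0) = 0
    · refine UniqueFactorizationMonoid.exists_reduced_factors' _ _ fun h1 => hi (LinearMap.ext fun x => ?_)
      show l x = 0
      rw [hl x, h, h1, mul_zero, mul_zero, add_zero]
    · exact UniqueFactorizationMonoid.exists_reduced_factors _ h _
  have hc : c ≠ 0 := fun hc => hi (LinearMap.ext fun x => by
    show l x = 0
    rw [hl x, ← ha, ← hb, hc, zero_mul, zero_mul, mul_zero, mul_zero, add_zero])
  let v : M := (-b') • bM 0 + a' • bM 1
  have hv0 : bM.repr v 0 = -b' := by simp [v]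
  have hv1 : bM.repr v 1 = a' := by simp [v]
  have hne : a' ≠ 0 ∨ b' ≠ 0 := by
    by_contra h
    push_neg at h
    obtain ⟨rfl, rfl⟩ := h
    exact hc ((isRelPrime_zero_left.1 hrel).ne_zero rfl).elim
  have hspan : ∀ x, l x = 0 → ∃ t : R, x = t • v := by
    intro x hx
    rw [hl x, ← ha, ← hb] at hx
    have hx' : bM.repr x 0 * a' + bM.repr x 1 * b' = 0 :=
      (mul_eq_zero.1 (show c * (bM.repr x 0 * a' + bM.repr x 1 * b') = 0 by rw [← hx]; ring)).resolve_left hc
    have hdvd : a' ∣ bM.repr x 1 := hrel.dvd_of_dvd_mul_right ⟨-(bM.repr x 0), by linear_combination hx'⟩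
    obtain ⟨t, ht⟩ := hdvd
    by_cases ha0 : a' = 0
    · subst ha0
      obtain ⟨u, hu⟩ := isRelPrime_zero_left.1 hrel
      refine ⟨-(bM.repr x 0) * ↑u⁻¹, bM.ext_elem fun j => ?_⟩
      rw [map_smul, Finsupp.smul_apply, smul_eq_mul]
      fin_cases j
      · simp only [Fin.zero_eta, hv0, ← hu]
        linear_combination (-(bM.repr x) 0) * (Units.inv_mul u)
      · simp only [Fin.mk_one, hv1, mul_zero]
        rw [ht, zero_mul]
    · refine ⟨t, bM.ext_elem fun j => ?_⟩
      rw [map_smul, Finsupp.smul_apply, smul_eq_mul]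
      fin_cases j
      · simp only [Fin.zero_eta, hv0]
        refine mul_right_cancel₀ ha0 ?_
        linear_combination hx' - b' * ht
      · simp only [Fin.mk_one, hv1]
        rw [ht]; ring
  obtain ⟨w, hw, hw0⟩ : ∃ w, φ w = 0 ∧ w ≠ 0 := by
    by_contra h
    push_neg at h
    exact hinj ((injective_iff_map_eq_zero φ).2 fun x hx => h x hx)
  obtain ⟨s, rfl⟩ := hspan w (by show bN.coord i (φ w) = 0; rw [hw, map_zero])
  have hs : s ≠ 0 := fun hs => hw0 (by rw [hs, zero_smul])
  have hφv : φ v = 0 := by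
    refine bN.ext_elem fun j => ?_
    have h := congrArg (fun y => bN.repr y j) hw
    simp only [map_smul, map_zero, Finsupp.smul_apply, smul_eq_mul, Finsupp.zero_apply] at h ⊢
    exact (mul_eq_zero.1 h).resolve_left hs
  let g : R →ₗ[R] LinearMap.ker φ := LinearMap.toSpanSingleton R _ ⟨v, LinearMap.mem_ker.2 hφv⟩
  have hg : Function.Bijective g := by
    refine ⟨(injective_iff_map_eq_zero g).2 fun t ht => ?_, fun x => ?_⟩
    · have h : t • v = 0 := congrArg Subtype.val ht
      by_contra ht0
      refine hw0 ?_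
      have hvz : v = 0 := bM.ext_elem fun j => by
        have h' := congrArg (fun y => bM.repr y j) h
        simp only [map_smul, map_zero, Finsupp.smul_apply, smul_eq_mul, Finsupp.zero_apply] at h' ⊢
        exact (mul_eq_zero.1 h').resolve_left ht0
      rw [hvz, smul_zero]
    · obtain ⟨t, ht⟩ := hspan x.1 (by show bN.coord i (φ x.1) = 0; rw [LinearMap.mem_ker.1 x.2, map_zero])
      exact ⟨t, Subtype.ext ht.symm⟩
  exact ⟨(Module.Basis.singleton (Fin 1) R).map (LinearEquiv.ofBijective g hg)⟩

/-- The kernel of a map between free modules of rank two is free. -/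
theorem free_ker (bM : Module.Basis (Fin 2) R M) (bN : Module.Basis (Fin 2) R N) (φ : M →ₗ[R] N) :
    Module.Free R (LinearMap.ker φ) := by
  by_cases h0 : φ = 0
  · exact Module.Free.of_basis (bM.map (LinearEquiv.ofTop _ (by rw [h0, LinearMap.ker_zero])).symm)
  by_cases hinj : Function.Injective φ
  · haveI : Subsingleton (LinearMap.ker φ) := by
      rw [LinearMap.ker_eq_bot.2 hinj]; infer_instance
    exact Module.Free.of_subsingleton _ _
  exact Module.Free.of_basis (nonempty_basis_ker bM bN φ h0 hinj).some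

end Algebra

variable {X : Scheme.{u}} [IsIntegral X] [IsLocallyNoetherian X] {E F : X.Modules}

/-- The stalk of a kernel. -/
theorem nonempty_stalk_kernel (ψ : E ⟶ F) (x : X) :
    Nonempty ((kernel ψ).presheaf.stalk x ≃ₗ[X.presheaf.stalk x]
      LinearMap.ker ((DerSch.stalkFunctor X x).map ψ).hom) := by
  let St := DerSch.stalkFunctor X x
  let S : ShortComplex X.Modules := ShortComplex.mk (kernel.ι ψ) ψ (kernel.condition ψ)
  have hS : S.Exact := ShortComplex.exact_of_f_is_kernel _ (kernelIsKernel ψ)
  have hex : Function.Exact (St.map (kernel.ι ψ)).hom (St.map ψ).hom :=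
    (ShortComplex.ShortExact.moduleCat_exact_iff_function_exact _).mp (hS.map St)
  have hinj : Function.Injective (St.map (kernel.ι ψ)).hom :=
    (ModuleCat.mono_iff_injective _).mp inferInstance
  exact ⟨(LinearEquiv.ofInjective _ hinj).trans (LinearEquiv.ofEq _ _ (LinearMap.exact_iff.1 hex).symm)⟩

/-- The kernel of a nonzero map of rank-two bundles which is not a monomorphism is invertible. -/
theorem isInvertible_kernel (hE : FlatMod.IsFinLocFreeOfRank 2 E) (hF : FlatMod.IsFinLocFreeOfRank 2 F)
    (hufd : ∀ x : X, UniqueFactorizationMonoid (X.presheaf.stalk x)) (ψ : E ⟶ F) (h0 : ψ ≠ 0) (hm : ¬ Mono ψ) :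
    PicF.IsInvertible (kernel ψ) := by
  have hEc := SplitP1.isCoh_of_rank hE
  have hFc := SplitP1.isCoh_of_rank hF
  have hKc : Coh.IsCoh (kernel ψ) := Coherent.isCoh_kernel ψ hEc hFc.1
  have hK : FlatMod.IsFinLocFree (kernel ψ) := (RefHullLib.isFinLocFree_iff_free_stalks hKc).2 fun x => by
    obtain ⟨bE⟩ := SplitP1.nonempty_basis_stalk hE x
    obtain ⟨bF⟩ := SplitP1.nonempty_basis_stalk hF x
    obtain ⟨e⟩ := nonempty_stalk_kernel ψ x
    haveI := hufd x
    obtain ⟨I, b⟩ := (free_ker bE bF ((DerSch.stalkFunctor X x).map ψ).hom).exists_basis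
    exact Module.Free.of_basis (b.map e.symm)
  obtain ⟨r, hr⟩ := VB5.exists_rank hK
  let η := genericPoint X
  obtain ⟨bE⟩ := SplitP1.nonempty_basis_stalk hE η
  obtain ⟨bF⟩ := SplitP1.nonempty_basis_stalk hF η
  obtain ⟨e⟩ := nonempty_stalk_kernel ψ η
  let φ := ((DerSch.stalkFunctor X η).map ψ).hom
  have hφ : φ ≠ 0 := fun h => h0 (Scheme.Modules.hom_ext _ _ fun V => ConcreteCategory.hom_ext _ _ fun a => by
    show ψ.app V a = 0
    by_cases hV : η ∈ V
    · have hg : F.presheaf.germ V η hV (ψ.app V a) = F.presheaf.germ V η hV 0 := by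
        rw [← AssSch12.stalkFunctor_map_germ ψ hV a, map_zero]
        exact LinearMap.congr_fun h _
      obtain ⟨W, hηW, iU, iV, he⟩ := F.presheaf.germ_eq η hV hV _ _ hg
      refine SplitP1.eq_zero_of_vanish hFc
        (fun x => (SplitP1.nonempty_basis_stalk hF x).elim fun b => Module.Free.of_basis b)
        iU.le ⟨η, hηW⟩ _ (he.trans (map_zero _))
    · exact sec_ext F _ _ fun y hy => absurd (((genericPoint_spec X).mem_open_set_iff V.2).2 ⟨y, trivial, hy⟩) hV)
  have hinj : ¬ Function.Injective φ := fun hinj => hm (by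
    refine Preadditive.mono_of_isZero_kernel _ ?_
    have h0' : VB5.grk (kernel ψ) = 0 := by
      haveI : Subsingleton (LinearMap.ker φ) := by
        rw [LinearMap.ker_eq_bot.2 hinj]; infer_instance
      haveI : Subsingleton ((kernel ψ).presheaf.stalk η) := e.toEquiv.subsingleton
      exact Module.finrank_zero_of_subsingleton
    exact VB5.isZero_of_rank_zero (by rwa [VB5.grk_eq hr]) h0')
  haveI := hufd η
  obtain ⟨b⟩ := nonempty_basis_ker bE bF φ hφ hinj
  have h1 : VB5.grk (kernel ψ) = 1 :=
    (Module.finrank_eq_card_basis (b.map e.symm)).trans (Fintype.card_fin 1)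
  rw [VB5.grk_eq hr] at h1
  subst h1
  exact KRRPBLib.isInvertible_of_rankOne hr

end Groth.Agent.EulerPn5
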