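import Groth.Agent.EulerPn5.SimpleNull
import Groth.Agent.KoszPn17.TwistGen

/-!
# Epimorphisms `O(-1)^(⊕ M) → O` on projective space and their kernels
-/

set_option autoImplicit false
set_option linter.style.haveILetI false
set_option linter.unusedSectionVars false
set_option backward.isDefEq.respectTransparency.types false
set_option maxHeartbeats 1000000

universe u

open CategoryTheory CategoryTheory.Limits AlgebraicGeometry TopologicalSpace Opposite
open Groth.Agent.Coherent Groth.Agent.EulerLib Groth.Agent.CAlgH3 Groth.Agent.PicLib Groth.Agent.AmpleLib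
open scoped ZeroObject

namespace Groth.Agent.EulerPn5

theorem It.isZero {X : Scheme.{u}} {N : X.Modules} {j : ℕ} {M : X.Modules} (h : It N j M) : j = 0 → IsZero M := by
  induction h with
  | zero h => exact fun _ => h
  | base e => intro hj; omega
  | @ext a b S hS _ _ ih₁ ih₃ =>
    intro hj
    exact hS.exact.isZero_of_both_zeros ((ih₁ (by omega)).eq_of_src _ _) ((ih₃ (by omega)).eq_of_tgt _ _)

section cancel

variable {X : Scheme.{u}} {N : X.Modules}

/-- Exchange the last two summands. -/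
noncomputable def swapLast (Y N : X.Modules) : (Y ⊞ N) ⊞ N ≅ (Y ⊞ N) ⊞ N where
  hom := biprod.lift (biprod.lift (biprod.fst ≫ biprod.fst) biprod.snd) (biprod.fst ≫ biprod.snd)
  inv := biprod.lift (biprod.lift (biprod.fst ≫ biprod.fst) biprod.snd) (biprod.fst ≫ biprod.snd)
  hom_inv_id := by
    refine biprod.hom_ext _ _ (biprod.hom_ext _ _ ?_ ?_) ?_ <;> simp
  inv_hom_id := by
    refine biprod.hom_ext _ _ (biprod.hom_ext _ _ ?_ ?_) ?_ <;> simp

variable (hiso : ∀ a : N ⟶ N, a ≠ 0 → IsIso a)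
include hiso

theorem exists_iso_snd : ∀ (j : ℕ) (i : N ⟶ mpow N (j + 1)), i ≠ 0 →
    ∃ e : mpow N (j + 1) ≅ mpow N j ⊞ N, IsIso (i ≫ e.hom ≫ biprod.snd)
  | j, i, hi => by
    by_cases hc : i ≫ (biprod.snd : mpow N j ⊞ N ⟶ N) = 0
    · have ha : i ≫ (biprod.fst : mpow N j ⊞ N ⟶ mpow N j) ≠ 0 := fun ha => hi (by
        refine biprod.hom_ext _ _ (ha.trans zero_comp.symm) (hc.trans zero_comp.symm))
      cases j with
      | zero => exact absurd ((isZero_zero X.Modules).eq_of_tgt _ _) ha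
      | succ j =>
        obtain ⟨e, he⟩ := exists_iso_snd j _ ha
        let E : mpow N (j + 1) ⊞ N ≅ mpow N (j + 1) ⊞ N :=
          biprod.mapIso e (Iso.refl N) ≪≫ swapLast (mpow N j) N
        refine ⟨E, ?_⟩
        have hE : E.hom ≫ biprod.snd = biprod.fst ≫ e.hom ≫ biprod.snd := by
          show ((biprod.mapIso e (Iso.refl N)).hom ≫ (swapLast (mpow N j) N).hom) ≫ biprod.snd = _
          rw [Category.assoc, swapLast, biprod.lift_snd, biprod.mapIso_hom, biprod.map_fst_assoc]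
        have hi' : i ≫ E.hom ≫ biprod.snd = (i ≫ biprod.fst) ≫ e.hom ≫ biprod.snd :=
          (congrArg (i ≫ ·) hE).trans (Category.assoc _ _ _).symm
        exact hi' ▸ he
    · refine ⟨Iso.refl _, ?_⟩
      have hi' : i ≫ (Iso.refl (mpow N (j + 1))).hom ≫ (biprod.snd : mpow N j ⊞ N ⟶ N) = i ≫ biprod.snd :=
        congrArg (i ≫ ·) (Category.id_comp _)
      exact hi' ▸ hiso _ hc

theorem exists_cancel (hne : 𝟙 N ≠ 0) : ∀ (j M : ℕ) (Z : X.Modules) (_ : Z ⊞ mpow N j ≅ mpow N M),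
    ∃ r, M = j + r ∧ Nonempty (Z ≅ mpow N r)
  | 0, M, Z, e => ⟨M, (Nat.zero_add M).symm, ⟨(isoBiprodZero (isZero_zero X.Modules)) ≪≫ e⟩⟩
  | j + 1, M, Z, e => by
    let e₀ : (Z ⊞ mpow N j) ⊞ N ≅ mpow N M := biprod.associator Z (mpow N j) N ≪≫ e
    have hi : biprod.inr ≫ e₀.hom ≠ (0 : N ⟶ mpow N M) := fun h => hne (by
      have h2 := congrArg (· ≫ e₀.inv ≫ biprod.snd) h
      simpa using h2)
    cases M with
    | zero => exact absurd ((isZero_zero X.Modules).eq_of_tgt _ _) hi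
    | succ M =>
      obtain ⟨e', he'⟩ := exists_iso_snd hiso M _ hi
      let f : N ⊞ (Z ⊞ mpow N j) ≅ N ⊞ mpow N M :=
        biprod.braiding _ _ ≪≫ e₀ ≪≫ e' ≪≫ biprod.braiding _ _
      haveI : IsIso (biprod.inl ≫ f.hom ≫ biprod.fst) := by
        have hf : biprod.inl ≫ f.hom ≫ biprod.fst = (biprod.inr ≫ e₀.hom) ≫ e'.hom ≫ biprod.snd := by
          simp only [f, Iso.trans_hom, biprod.braiding_hom, Category.assoc, biprod.lift_fst]
          rw [← Category.assoc biprod.inl]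
          congr 1
          refine biprod.hom_ext _ _ ?_ ?_ <;> simp
        rw [hf]
        exact he'
      obtain ⟨r, hr, hZ⟩ := exists_cancel hne j M Z (Biprod.isoElim f)
      exact ⟨r, by omega, hZ⟩

end cancel

variable {k : Type u} [Field k] (m : ℕ)

local notation "O[" d "]" => Twist.twistProjSpace m k d
local notation "Ω₀" => Omega.sheaf (CohB1.ProjSpace.toSpec m k)
local notation "𝒪" => Coh.structureModule (CohB1.ProjSpace m k)

theorem hom_twist_omega_eq_zero' (f : O[(-1 : ℤ)] ⟶ Ω₀) : f = 0 := by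
  rcases Nat.eq_zero_or_pos m with rfl | hm
  · exact (isZero_of_isExtPow (rank_omega (n := 0) (A := k)) (KvbLam28.isExtPow_one _) one_pos).eq_of_tgt _ _
  · exact hom_twist_omega_eq_zero m hm f

theorem isIso_of_ne_zero (a : O[(-1 : ℤ)] ⟶ O[(-1 : ℤ)]) (ha : a ≠ 0) : IsIso a := by
  obtain ⟨d, rfl⟩ := endo_twist_one a
  have hd : d ≠ 0 := fun h => ha (by rw [h, zero_smul])
  exact ⟨d⁻¹ • 𝟙 _, by simp [smul_smul, inv_mul_cancel₀ hd], by simp [smul_smul, mul_inv_cancel₀ hd]⟩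

theorem id_twist_ne_zero : 𝟙 O[(-1 : ℤ)] ≠ 0 := fun h => not_isZero_twist ((IsZero.iff_id_eq_zero _).2 h)

theorem finrank_hom_twist :
    Module.Finite k (O[(-1 : ℤ)] ⟶ 𝒪) ∧ Module.finrank k (O[(-1 : ℤ)] ⟶ 𝒪) ≤ m + 1 := by
  obtain ⟨a⟩ := nonempty_tt (n := m) (A := k) (show (-1 : ℤ) + 1 = 0 by norm_num)
  obtain ⟨b⟩ := nonempty_twist0 (n := m) (A := k)
  obtain ⟨h⟩ := Coherent.nonempty_HH_zero_twist m k 1
  let c : CohB1.tensorMod 𝒪 O[(1 : ℤ)] ≅ O[((1 : ℕ) : ℤ)] := unitTensorIso _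
  let L := (Linear.homCongr k (a ≪≫ b) (Iso.refl (CohB1.tensorMod 𝒪 O[(1 : ℤ)]))).trans
    ((SerreDual.homUnitHH k _).trans (hhEquiv k c 0))
  let e : (O[(-1 : ℤ)] ⟶ 𝒪) →ₗ[k] Coh.HH (CohB1.ProjSpace m k) O[((1 : ℕ) : ℤ)] 0 :=
    L.toLinearMap ∘ₗ SerreDual.tensorRightHom k O[(-1 : ℤ)] 𝒪 O[(1 : ℤ)]
  have he : Function.Injective e :=
    L.injective.comp (SerreDual.tensorRightHom_injective k _ _ (Coherent.isInvertible_twistProjSpaceZ m 1 k))
  haveI : Module.Finite k (Coh.HH (CohB1.ProjSpace m k) O[((1 : ℕ) : ℤ)] 0) := by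
    haveI : IsProper ((CohB1.ProjSpace m k) ↘ Spec (CommRingCat.of k)) := Coherent.isProper_projSpace_toSpec m k
    haveI := finCoh_of_isProper ((CohB1.ProjSpace m k) ↘ Spec (CommRingCat.of k)) O[((1 : ℕ) : ℤ)]
      (CohBC.isCoh_of_isFinLocFree (isFinLocFree_twist _)) 0
    exact Module.Finite.equiv (HHBaseEquiv k O[((1 : ℕ) : ℤ)] 0).symm
  refine ⟨Module.Finite.of_injective e he, (LinearMap.finrank_le_finrank_of_injective he).trans ?_⟩
  rw [h.finrank_eq, CommAlg4.finrank_homogeneous_fin]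
  simp

theorem exists_injective_coords : ∀ j : ℕ,
    ∃ L : (Fin j → k) →ₗ[k] (O[(-1 : ℤ)] ⟶ mpow O[(-1 : ℤ)] j), Function.Injective L
  | 0 => ⟨0, Function.injective_of_subsingleton _⟩
  | j + 1 => by
    obtain ⟨L, hL⟩ := exists_injective_coords j
    refine ⟨{ toFun := fun c => L (c ∘ Fin.castSucc) ≫ biprod.inl + (c (Fin.last j) • 𝟙 O[(-1 : ℤ)]) ≫ biprod.inr
              map_add' := ?_
              map_smul' := ?_ }, ?_⟩
    · intro c c'
      rw [show (c + c') ∘ Fin.castSucc = c ∘ Fin.castSucc + c' ∘ Fin.castSucc from rfl, map_add]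
      simp only [Pi.add_apply, add_smul, Preadditive.add_comp]
      abel
    · intro d c
      rw [show (d • c) ∘ Fin.castSucc = d • (c ∘ Fin.castSucc) from rfl, map_smul]
      simp only [Pi.smul_apply, smul_eq_mul, Linear.smul_comp, RingHom.id_apply, mul_smul]
      exact (smul_add d _ _).symm
    · refine (injective_iff_map_eq_zero _).2 fun c hc => ?_
      have h1 : L (c ∘ Fin.castSucc) = 0 := by
        have h := congrArg (fun x : O[(-1 : ℤ)] ⟶ mpow O[(-1 : ℤ)] j ⊞ O[(-1 : ℤ)] => x ≫ biprod.fst) hc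
        refine (Eq.trans ?_ h).trans zero_comp
        show _ = (L (c ∘ Fin.castSucc) ≫ biprod.inl + (c (Fin.last j) • 𝟙 O[(-1 : ℤ)]) ≫ biprod.inr) ≫ biprod.fst
        simp
      have h2 : c (Fin.last j) = 0 := by
        have h := congrArg (fun x : O[(-1 : ℤ)] ⟶ mpow O[(-1 : ℤ)] j ⊞ O[(-1 : ℤ)] => x ≫ biprod.snd) hc
        by_contra h0
        refine id_twist_ne_zero (k := k) m ?_
        have h' : c (Fin.last j) • 𝟙 O[(-1 : ℤ)] = 0 := by
          refine (Eq.trans ?_ h).trans zero_comp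
          show _ = (L (c ∘ Fin.castSucc) ≫ biprod.inl + (c (Fin.last j) • 𝟙 O[(-1 : ℤ)]) ≫ biprod.inr) ≫ biprod.snd
          simp
        exact (smul_eq_zero.1 h').resolve_left h0
      have h3 := (injective_iff_map_eq_zero L).1 hL _ h1
      funext i
      exact Fin.lastCases h2 (fun i => congrFun h3 i) i

/-- Postcomposition with a map to `O`, on coordinate maps. -/
noncomputable def post {A B : (CohB1.ProjSpace m k).Modules} (N : (CohB1.ProjSpace m k).Modules) (g : A ⟶ B) :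
    (N ⟶ A) →ₗ[k] (N ⟶ B) :=
  Linear.rightComp k N g

theorem post_apply {A B N : (CohB1.ProjSpace m k).Modules} (g : A ⟶ B) (x : N ⟶ A) : post m N g x = x ≫ g := rfl

/-- A map out of `N^(⊕ j)` factors once each component does. -/
theorem exists_factor {A B N : (CohB1.ProjSpace m k).Modules} (g₀ : A ⟶ B) : ∀ (j : ℕ) (g : mpow N j ⟶ B),
    LinearMap.range (post m N g) ≤ LinearMap.range (post m N g₀) → ∃ φ : mpow N j ⟶ A, φ ≫ g₀ = g
  | 0, g, _ => ⟨0, (isZero_zero (CohB1.ProjSpace m k).Modules).eq_of_src _ _⟩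
  | j + 1, g, h => by
    obtain ⟨φ, hφ⟩ := exists_factor g₀ j (biprod.inl ≫ g) fun y ⟨x, hx⟩ =>
      h ⟨x ≫ (biprod.inl : mpow N j ⟶ mpow N j ⊞ N), by
        subst hx
        exact Category.assoc x _ _⟩
    obtain ⟨z, hz⟩ := h ⟨(biprod.inr : N ⟶ mpow N j ⊞ N), rfl⟩
    refine ⟨biprod.desc φ z, biprod.hom_ext' _ _ ?_ ?_⟩
    · exact (biprod.inl_desc_assoc φ z g₀).trans hφ
    · exact (biprod.inr_desc_assoc φ z g₀).trans hz

theorem exists_hom_of_family (N : (CohB1.ProjSpace m k).Modules) : ∀ (j : ℕ) (w : Fin j → (N ⟶ 𝒪)),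
    ∃ g : mpow N j ⟶ 𝒪, ∀ i, w i ∈ LinearMap.range (post m N g)
  | 0, _ => ⟨0, fun i => i.elim0⟩
  | j + 1, w => by
    obtain ⟨g, hg⟩ := exists_hom_of_family N j (w ∘ Fin.castSucc)
    refine ⟨biprod.desc g (w (Fin.last j)), fun i => Fin.lastCases ?_ (fun i => ?_) i⟩
    · exact ⟨(biprod.inr : N ⟶ mpow N j ⊞ N), biprod.inr_desc g (w (Fin.last j))⟩
    · obtain ⟨x, hx⟩ := hg i
      exact ⟨x ≫ (biprod.inl : mpow N j ⟶ mpow N j ⊞ N),
        ((Category.assoc x _ _).trans (congrArg (x ≫ ·) (biprod.inl_desc g (w (Fin.last j))))).trans hx⟩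

/-- `m` forms of degree one have a common zero. -/
theorem not_epi (g : mpow O[(-1 : ℤ)] m ⟶ 𝒪) [Epi g] : False := by
  let S : ShortComplex (CohB1.ProjSpace m k).Modules := ShortComplex.mk (kernel.ι g) g (kernel.condition g)
  have hS : S.ShortExact :=
    { exact := ShortComplex.exact_of_f_is_kernel _ (kernelIsKernel g)
      mono_f := inferInstanceAs (Mono (kernel.ι g))
      epi_g := inferInstanceAs (Epi g) }
  have hN := PicLib.isFinLocFreeOfRank_one (Coherent.isInvertible_twistProjSpaceZ m (-1) k)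
  have h1 : FlatMod.IsFinLocFreeOfRank 1 𝒪 := PicLib.isFinLocFreeOfRank_one AmpleLib.isInvertible_structureModule
  have hmid := isFinLocFree_mpow O[(-1 : ℤ)] (LocFreeLib.isFinLocFree_of_rank hN) m
  have hK : FlatMod.IsFinLocFree (kernel g) := KoszPn17.isFinLocFree_kernel g hmid (LocFreeLib.isFinLocFree_of_rank h1)
  choose C hCf hC using fun p => ExtPowEx28.exists_isExtPow hK p
  choose B hBf hB using fun p => ExtPowEx28.exists_isExtPow hmid p
  let D : ℕ → (CohB1.ProjSpace m k).Modules := fun p => CohB1.tensorMod (C p) 𝒪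
  have hD : ∀ p, Nonempty (D p ≅ C p) := fun p => ⟨AmpleLib.tensorComm _ _ ≪≫ unitTensorIso _⟩
  have hI : ∀ p, It O[-((p + 1 : ℕ) : ℤ)] (Nat.choose m (p + 1)) (B (p + 1)) := fun p =>
    it_extPow_mpow hN (fun p => O[-(p : ℤ)])
      (by obtain ⟨e⟩ := nonempty_twist0 (n := m) (A := k); exact ⟨e.symm⟩)
      (fun p => nonempty_tt (by push_cast; ring)) m (p + 1) (B (p + 1)) (hB (p + 1))
  have key : ∀ p, p ≤ m → Nonempty (Coh.HH (CohB1.ProjSpace m k) 𝒪 0 ≃ₗ[k] Coh.HH (CohB1.ProjSpace m k) (C p) p) := by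
    intro p
    induction p with
    | zero =>
      intro _
      obtain ⟨e⟩ := KvbLam28.exists_iso_of_isExtPow (hC 0) (KvbLam28.isExtPow_zero _)
      exact ⟨hhEquiv k e.symm 0⟩
    | succ p ih =>
      intro hp
      obtain ⟨f, g', w, hT⟩ := exists_wedge_seq hS hK h1 p (hC (p + 1)) (hB (p + 1)) (hC p)
      have hv : ∀ q, ModCohSeq.V (B (p + 1)) q := fun q => (hI p).vanish (V_twist (by omega) (by omega))
      obtain ⟨d⟩ := nonempty_delta_equiv k hT p (hv p) (hv (p + 1))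
      obtain ⟨e⟩ := ih (by omega)
      obtain ⟨c⟩ := hD p
      exact ⟨e.trans ((hhEquiv k c.symm p).trans d)⟩
  obtain ⟨f, g', w, hT⟩ := exists_wedge_seq hS hK h1 m (hC (m + 1)) (hB (m + 1)) (hC m)
  have hB0 : IsZero (B (m + 1)) := (hI m).isZero (Nat.choose_succ_self m)
  haveI := hT.epi_g
  have hD0 : IsZero (D m) := IsZero.of_epi_eq_zero g' (hB0.eq_of_src _ _)
  obtain ⟨c⟩ := hD m
  haveI : Subsingleton (Coh.HH (CohB1.ProjSpace m k) (C m) m) := V_of_isZero (hD0.of_iso c.symm) m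
  obtain ⟨e⟩ := key m le_rfl
  obtain ⟨b⟩ := nonempty_twist0 (n := m) (A := k)
  obtain ⟨h⟩ := Coherent.nonempty_HH_zero_twist m k 0
  haveI : Subsingleton (MvPolynomial.homogeneousSubmodule (Fin (m + 1)) k 0) :=
    ((hhEquiv k b.symm 0).symm.trans e |> fun t => h.symm.trans t).toEquiv.subsingleton
  have hf := Module.finrank_zero_of_subsingleton (R := k) (M := MvPolynomial.homogeneousSubmodule (Fin (m + 1)) k 0)
  rw [CommAlg4.finrank_homogeneous_fin] at hf
  simp at hf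

theorem range_post_eq_top {M : ℕ} (g : mpow O[(-1 : ℤ)] M ⟶ 𝒪) [Epi g] :
    LinearMap.range (post m O[(-1 : ℤ)] g) = ⊤ := by
  haveI := (finrank_hom_twist (k := k) m).1
  by_contra h
  have hlt := (Submodule.finrank_lt h).trans_le (finrank_hom_twist (k := k) m).2
  let R := LinearMap.range (post m O[(-1 : ℤ)] g)
  let b := Module.finBasis k R
  let w : Fin m → (O[(-1 : ℤ)] ⟶ 𝒪) := fun i =>
    if hi : (i : ℕ) < Module.finrank k R then (b ⟨i, hi⟩ : O[(-1 : ℤ)] ⟶ 𝒪) else 0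
  obtain ⟨g₁, hg₁⟩ := exists_hom_of_family m O[(-1 : ℤ)] m w
  have hle : R ≤ LinearMap.range (post m O[(-1 : ℤ)] g₁) := by
    intro x hx
    have hx' : (⟨x, hx⟩ : R) = ∑ i, b.repr ⟨x, hx⟩ i • b i := (b.sum_repr _).symm
    have hx'' : x = ∑ i, b.repr ⟨x, hx⟩ i • (b i : O[(-1 : ℤ)] ⟶ 𝒪) := by
      conv_lhs => rw [show x = ((⟨x, hx⟩ : R) : O[(-1 : ℤ)] ⟶ 𝒪) from rfl, hx']
      simp only [Submodule.coe_sum, Submodule.coe_smul]
    rw [hx'']
    refine Submodule.sum_mem _ fun i _ => Submodule.smul_mem _ _ ?_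
    have hi : (i : ℕ) < m := by
      have := i.2
      change (i : ℕ) < Module.finrank k R at this
      change Module.finrank k R < m + 1 at hlt
      omega
    have hw := hg₁ ⟨i, hi⟩
    simp only [w, dif_pos i.2] at hw
    exact hw
  obtain ⟨φ, hφ⟩ := exists_factor m g₁ M g hle
  haveI : Epi g₁ := epi_of_epi_fac hφ
  exact not_epi m g₁

/-- The kernel of an epimorphism `O(-1)^(⊕ M) → O`. -/
theorem exists_split {M : ℕ} {S : ShortComplex (CohB1.ProjSpace m k).Modules} (hS : S.ShortExact)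
    (e₂ : S.X₂ ≅ mpow O[(-1 : ℤ)] M) (e₃ : S.X₃ ≅ 𝒪) :
    ∃ r : ℕ, M = m + 1 + r ∧ Nonempty (S.X₁ ≅ Ω₀ ⊞ mpow O[(-1 : ℤ)] r) := by
  haveI := hS.mono_f
  haveI := hS.epi_g
  let g : mpow O[(-1 : ℤ)] M ⟶ 𝒪 := e₂.inv ≫ S.g ≫ e₃.hom
  obtain ⟨f, g₀, w, hE⟩ := exists_euler_seq m k
  haveI := hE.mono_f
  haveI : Mono f := hE.mono_f
  haveI : Epi g₀ := hE.epi_g
  have h0 := range_post_eq_top m g₀
  have hg := range_post_eq_top m g
  obtain ⟨φ, hφ⟩ := exists_factor m g₀ M g (by rw [h0]; exact le_top)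
  obtain ⟨ψ, hψ⟩ := exists_factor m g (m + 1) g₀ (by rw [hg]; exact le_top)
  have hψφ : ψ ≫ φ = 𝟙 _ := by
    rw [← sub_eq_zero]
    have h : (ψ ≫ φ - 𝟙 _) ≫ g₀ = 0 := by
      rw [Preadditive.sub_comp, Category.assoc, hφ, hψ, Category.id_comp, sub_self]
    rw [← hE.exact.lift_f _ h, mpow_hom_eq_zero (hom_twist_omega_eq_zero' m) (m + 1) (hE.exact.lift _ h), zero_comp]
  haveI : IsSplitEpi φ := IsSplitEpi.mk' ⟨ψ, hψφ⟩
  let Φ : ShortComplex (CohB1.ProjSpace m k).Modules := ShortComplex.mk (kernel.ι φ) φ (kernel.condition φ)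
  have sp : Φ.Splitting := ShortComplex.Splitting.ofExactOfSection Φ
    (ShortComplex.exact_of_f_is_kernel _ (kernelIsKernel φ)) ψ hψφ (inferInstanceAs (Mono (kernel.ι φ)))
  obtain ⟨r, hr, ⟨eC⟩⟩ := exists_cancel (isIso_of_ne_zero m) (id_twist_ne_zero m) (m + 1) M (kernel φ)
    sp.isoBinaryBiproduct.symm
  refine ⟨r, hr, ⟨?_ ≪≫ biprod.mapIso (Iso.refl Ω₀) eC⟩⟩
  let F : Ω₀ ⊞ kernel φ ⟶ mpow O[(-1 : ℤ)] M := biprod.desc (f ≫ ψ) (kernel.ι φ)
  have hFφ : F ≫ φ = biprod.fst ≫ f := by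
    refine biprod.hom_ext' _ _ ?_ ?_
    · rw [biprod.inl_desc_assoc, Category.assoc, hψφ, Category.comp_id, biprod.inl_fst_assoc]
    · rw [biprod.inr_desc_assoc, kernel.condition, biprod.inr_fst_assoc, zero_comp]
  have hFg : F ≫ g = 0 := by
    rw [← hφ, reassoc_of% hFφ, w, comp_zero]
  haveI : Mono F := Preadditive.mono_of_cancel_zero _ fun {G} y hy => by
    have h1 : y ≫ biprod.fst = 0 := by
      apply (cancel_mono f).1
      rw [Category.assoc, ← hFφ, reassoc_of% hy, zero_comp, zero_comp]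
    refine biprod.hom_ext _ _ (h1.trans zero_comp.symm) ?_
    apply (cancel_mono (kernel.ι φ)).1
    have h2 : F = biprod.fst ≫ f ≫ ψ + biprod.snd ≫ kernel.ι φ := biprod.desc_eq
    rw [h2, Preadditive.comp_add, reassoc_of% h1, zero_comp, zero_add] at hy
    rw [Category.assoc, hy, zero_comp, zero_comp]
  have hFS : (F ≫ e₂.inv) ≫ S.g = 0 := by
    rw [← cancel_mono e₃.hom, zero_comp, Category.assoc, Category.assoc]
    exact hFg
  let i : S.X₁ ⟶ mpow O[(-1 : ℤ)] M := S.f ≫ e₂.hom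
  have hi : (i ≫ φ) ≫ g₀ = 0 := by
    rw [Category.assoc, hφ, show g = e₂.inv ≫ S.g ≫ e₃.hom from rfl]
    simp [i, S.zero_assoc]
  let a : S.X₁ ⟶ Ω₀ := hE.exact.lift _ hi
  have ha : a ≫ f = i ≫ φ := hE.exact.lift_f _ hi
  have hb : (i - a ≫ f ≫ ψ) ≫ φ = 0 := by
    rw [Preadditive.sub_comp, sub_eq_zero, ← ha]
    simp only [Category.assoc, hψφ, Category.comp_id]
  let b : S.X₁ ⟶ kernel φ := kernel.lift φ _ hb
  let G : S.X₁ ⟶ Ω₀ ⊞ kernel φ := biprod.lift a b
  have hG : G ≫ F = i := by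
    rw [biprod.lift_desc, kernel.lift_ι]
    abel
  haveI : Mono i := mono_comp _ _
  refine ⟨G, hS.exact.lift _ hFS, ?_, ?_⟩
  · apply (cancel_mono S.f).1
    rw [Category.assoc, hS.exact.lift_f, reassoc_of% hG, Category.id_comp]
    simp [i]
  · apply (cancel_mono F).1
    rw [Category.assoc, hG, Category.id_comp]
    show hS.exact.lift _ hFS ≫ S.f ≫ e₂.hom = F
    rw [hS.exact.lift_f_assoc, Category.assoc, e₂.inv_hom_id, Category.comp_id]

end Groth.Agent.EulerPn5
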