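import Groth.Agent.EulerPn5.Tango
import Groth.Agent.EulerPn5.Split

/-!
# The null correlation bundle on projective spaces of odd dimension
-/

set_option autoImplicit false
set_option linter.style.haveILetI false
set_option linter.unusedSectionVars false
set_option backward.isDefEq.respectTransparency.types false
set_option maxHeartbeats 1000000

universe u

open CategoryTheory CategoryTheory.Limits CategoryTheory.Abelian AlgebraicGeometry TopologicalSpace Opposite
open Groth.Agent.Coherent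

namespace Groth.Agent.EulerPn5.NullCorr

/-- An equivalence carries a monomorphism to a monomorphism with the image cokernel. -/
theorem map_mono {C : Type (u + 1)} [Category.{u} C] [Abelian C] (F : C ⥤ C) [F.IsEquivalence] {A A' G : C}
    (a : A' ≅ F.obj A) (φ : A ⟶ G) [Mono φ] :
    ∃ χ : A' ⟶ F.obj G, Mono χ ∧ Nonempty (F.obj (cokernel φ) ≅ cokernel χ) := by
  haveI : F.Additive := Functor.additive_of_preserves_binary_products F
  haveI : Mono (F.map φ) := inferInstance
  exact ⟨a.hom ≫ F.map φ, mono_comp _ _, ⟨PreservesCokernel.iso F φ ≪≫ (cokernelEpiComp a.hom (F.map φ)).symm⟩⟩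

theorem nonempty_tensorR_obj {X : Scheme.{u}} {A L B : X.Modules} (t : CohB1.tensorMod A L ≅ B) :
    Nonempty (B ≅ (Quot8.tensorR L).obj A) :=
  ⟨t.symm⟩

variable {n : ℕ} {k : Type u} [Field k]

local notation "ℙ" => CohB1.ProjSpace n k
local notation "O[" d "]" => Twist.twistProjSpace n k d
local notation "Ω₀" => Omega.sheaf (CohB1.ProjSpace.toSpec n k)
local notation "T[" j "]" => EmbLib24.coordFun n k j
local notation "D[" j "]" => EmbLib24.chart n k j

/-- The partner of an index: `2i ↔ 2i + 1`. -/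
def pair (hn : Odd n) (a : Fin (n + 1)) : Fin (n + 1) :=
  ⟨if (a : ℕ) % 2 = 0 then (a : ℕ) + 1 else (a : ℕ) - 1, by
    obtain ⟨m, hm⟩ := hn
    have := a.isLt
    split_ifs <;> omega⟩

/-- The sign of an index. -/
def sgn (a : Fin (n + 1)) : ℤ := if (a : ℕ) % 2 = 0 then 1 else -1

theorem pair_pair (hn : Odd n) (a : Fin (n + 1)) : pair hn (pair hn a) = a := by
  refine Fin.ext ?_
  simp only [pair]
  split_ifs <;> omega

theorem sgn_pair (hn : Odd n) (a : Fin (n + 1)) : sgn (pair hn a) = -sgn a := by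
  simp only [sgn, pair]
  split_ifs <;> omega

theorem sgn_mul_self (a : Fin (n + 1)) : sgn a * sgn a = 1 := by
  simp only [sgn]
  split_ifs <;> norm_num

variable (n k)

/-- The row of coordinates `O(-1)^(n+1) → O`. -/
noncomputable def row : Tango.src n k ⟶ O[(0 : ℤ)] :=
  biproduct.desc fun a => Tango.chi (d := -1) (e := 0) (by norm_num) a

theorem epi_row : Epi (row n k) := by
  haveI : Coh.IsQCoh (Tango.src n k) := Coherent.isQCoh_biproduct _ fun _ =>
    LocFreeLib.isQCoh_of_isFinLocFreeOfRank (rank_twist (n := n) (k := k) (-1))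
  haveI := LocFreeLib.isQCoh_of_isFinLocFreeOfRank (rank_twist (n := n) (k := k) 0)
  haveI : Coh.IsQCoh (cokernel (row n k)) := isQCoh_cokernel _
  refine Preadditive.epi_of_isZero_cokernel _ (EulerLib.isZero_of_sections_cover inferInstance
    (fun j : Fin (n + 1) => D[j]) (fun j => EmbLib24.isAffineOpen_chart n k j)
    (EmbLib24.exists_chart_mem (n := n) (k := k)) fun j => subsingleton_of_forall_eq 0 fun z => ?_)
  obtain ⟨w, rfl⟩ := H8Lim.app_surjective_of_epi (cokernel.π (row n k)) (EmbLib24.isAffineOpen_chart n k j) z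
  obtain ⟨f, rfl⟩ := (Tango.exists_frame (k := k) 0 j).choose_spec.1.2 w
  have h : (row n k).app D[j] ((biproduct.ι (fun _ : Fin (n + 1) => O[(-1 : ℤ)]) j).app D[j]
      (f • Tango.frame (-1) j)) = f • Tango.frame 0 j := by
    rw [Scheme.Modules.Hom.app_smul, Scheme.Modules.Hom.app_smul]
    refine congrArg (f • ·) ?_
    refine (ConcreteCategory.congr_hom (congrArg (fun χ => Scheme.Modules.Hom.app χ D[j])
      (biproduct.ι_desc (fun a => Tango.chi (k := k) (d := -1) (e := 0) (by norm_num) a) j)) _).trans ?_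
    rw [Tango.chi_frame, EmbLib24.coordFun_self, one_smul]
  refine Eq.trans (congrArg ((cokernel.π (row n k)).app D[j]) h.symm) ?_
  exact ConcreteCategory.congr_hom (congrArg (fun χ => Scheme.Modules.Hom.app χ D[j])
    (cokernel.condition (row n k))) _

variable [CharZero k]

/-- The kernel of the row of coordinates is the sheaf of differentials. -/
theorem nonempty_kernel_iso : Nonempty (kernel (row n k) ≅ Ω₀) := by
  haveI := epi_row n k
  let S : ShortComplex (CohB1.ProjSpace n k).Modules := ShortComplex.mk (kernel.ι (row n k)) (row n k) (kernel.condition _)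
  have hS : S.ShortExact :=
    { exact := ShortComplex.exact_of_f_is_kernel _ (kernelIsKernel _)
      mono_f := inferInstanceAs (Mono (kernel.ι (row n k)))
      epi_g := inferInstanceAs (Epi (row n k)) }
  obtain ⟨e⟩ := nonempty_mpow_sigma O[(-1 : ℤ)] (n + 1)
  let e₂ : S.X₂ ≅ mpow O[(-1 : ℤ)] (n + 1) := biproduct.isoCoproduct _ ≪≫
    (Sigma.whiskerEquiv (f := fun _ : ULift.{u} (Fin (n + 1)) => O[(-1 : ℤ)])
      (g := fun _ : Fin (n + 1) => O[(-1 : ℤ)]) Equiv.ulift fun _ => Iso.refl _).symm ≪≫ e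
  obtain ⟨b⟩ := nonempty_twist0 (n := n) (A := k)
  obtain ⟨r, hr, ⟨i⟩⟩ := exists_split n hS e₂ b
  obtain rfl : r = 0 := by omega
  let π : Ω₀ ⊞ mpow O[(-1 : ℤ)] 0 ≅ Ω₀ :=
    Iso.mk biprod.fst biprod.inl (biprod.hom_ext _ _ (by simp) ((isZero_zero _).eq_of_tgt _ _)) biprod.inl_fst
  exact ⟨i ≪≫ π⟩

variable (hn : Odd n)

/-- The vector of the null correlation. -/
noncomputable def vec : O[(-2 : ℤ)] ⟶ Tango.src n k :=
  biproduct.lift fun a => (sgn a : k) • Tango.chi (d := -2) (e := -1) (by norm_num) (pair hn a)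

theorem vec_row : vec n k hn ≫ row n k = 0 := by
  rw [vec, row, biproduct.lift_desc]
  simp only [Linear.smul_comp]
  refine Finset.sum_involution (fun a _ => pair hn a) (fun a _ => ?_) (fun a _ _ h => ?_) (fun _ _ => Finset.mem_univ _)
    fun a _ => pair_pair hn a
  · rw [pair_pair, sgn_pair, Int.cast_neg, neg_smul,
      Tango.chi_comm (k := k) (d := -2) (e := -1) (f := 0) (by norm_num) (by norm_num) (pair hn a) a,
      add_neg_cancel]
  · have := congrArg Fin.val h
    simp only [pair] at this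
    split_ifs at this <;> omega

include hn in
/-- For odd `n` a nowhere vanishing map `O(-2) → Ω` with locally free cokernel of rank `n - 1`. -/
theorem exists_vec : ∃ v : O[(-2 : ℤ)] ⟶ Ω₀, Mono v ∧ FlatMod.IsFinLocFreeOfRank (n - 1) (cokernel v) := by
  classical
  haveI := epi_row n k
  haveI : IsLocallyNoetherian ℙ := isLocallyNoetherian_projSpace
  haveI : IsIntegral ℙ := CurveLib.isIntegral_projSpace (k := k) n
  haveI := LocFreeLib.isQCoh_of_isFinLocFreeOfRank (rank_twist (n := n) (k := k) (-2))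
  haveI := LocFreeLib.isQCoh_of_isFinLocFreeOfRank (rank_twist (n := n) (k := k) 0)
  haveI : Coh.IsQCoh (Tango.src n k) := Coherent.isQCoh_biproduct _ fun _ =>
    LocFreeLib.isQCoh_of_isFinLocFreeOfRank (rank_twist (n := n) (k := k) (-1))
  obtain ⟨e⟩ := nonempty_kernel_iso n k
  have hK : FlatMod.IsFinLocFreeOfRank n (kernel (row n k)) :=
    DQCoh.RpushDegree17.isFinLocFreeOfRank_of_iso e.symm rank_omega
  haveI := LocFreeLib.isQCoh_of_isFinLocFreeOfRank hK
  let es : ∀ j : Fin (n + 1), (Fin (n + 1) → Γ(ℙ, D[j])) ≃ₗ[Γ(ℙ, D[j])] Γ(Tango.src n k, D[j]) := fun j =>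
    LinearEquiv.ofBijective (Tango.secMap (Tango.frame (-1) j))
      (Tango.secMap_bijective (Tango.exists_frame (k := k) (-1) j).choose_spec.1)
  have happ : ∀ (j : Fin (n + 1)) (f : Γ(ℙ, D[j])), (vec n k hn).app D[j] (f • Tango.frame (-2) j) =
      Tango.secMap (Tango.frame (-1) j) (fun a => f * ((sgn a : Γ(ℙ, D[j])) * T[j] (pair hn a))) := fun j f => by
    refine Tango.sec_ext' fun b => ?_
    rw [Tango.π_secMap, Scheme.Modules.Hom.app_smul, Scheme.Modules.Hom.app_smul, mul_smul]
    refine congrArg (f • ·) ?_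
    refine (ConcreteCategory.congr_hom (congrArg (fun χ => Scheme.Modules.Hom.app χ D[j])
      (biproduct.lift_π (fun a => (sgn a : k) • Tango.chi (k := k) (d := -2) (e := -1) (by norm_num) (pair hn a)) b))
      (Tango.frame (-2) j)).trans ?_
    rw [Tango.smul_app, Tango.chi_frame, map_intCast, mul_smul]
  let v₀ : O[(-2 : ℤ)] ⟶ kernel (row n k) := kernel.lift _ (vec n k hn) (vec_row n k hn)
  have hv₀ : ∀ (j : Fin (n + 1)) (z : Γ(O[(-2 : ℤ)], D[j])),
      (kernel.ι (row n k)).app D[j] (v₀.app D[j] z) = (vec n k hn).app D[j] z := fun j z =>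
    ConcreteCategory.congr_hom (congrArg (fun χ => Scheme.Modules.Hom.app χ D[j])
      (kernel.lift_ι _ (vec n k hn) (vec_row n k hn))) z
  let ρ : ∀ j : Fin (n + 1), Γ(kernel (row n k), D[j]) →ₗ[Γ(ℙ, D[j])] Γ(O[(-2 : ℤ)], D[j]) := fun j =>
    (((sgn (pair hn j) : Γ(ℙ, D[j])) • (LinearMap.proj (pair hn j)).comp (es j).symm.toLinearMap).comp
      (appLin (kernel.ι (row n k)) D[j])).smulRight (Tango.frame (-2) j)
  have hρ : ∀ (j : Fin (n + 1)) (z : Γ(O[(-2 : ℤ)], D[j])), ρ j (v₀.app D[j] z) = z := fun j z => by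
    obtain ⟨f, rfl⟩ := (Tango.exists_frame (k := k) (-2) j).choose_spec.1.2 z
    show ((sgn (pair hn j) : Γ(ℙ, (EmbLib24.chart n k j))) • (es j).symm ((kernel.ι (row n k)).app D[j]
      (v₀.app D[j] (f • Tango.frame (k := k) (-2) j))) (pair hn j)) • Tango.frame (k := k) (-2) j = f • Tango.frame (k := k) (-2) j
    refine congrArg (· • Tango.frame (k := k) (-2) j) ?_
    rw [hv₀, happ]
    erw [(es j).symm_apply_apply]
    rw [pair_pair, EmbLib24.coordFun_self, mul_one, smul_eq_mul, mul_comm f, ← mul_assoc, ← Int.cast_mul, sgn_mul_self,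
      Int.cast_one, one_mul]
  have hcov : ∀ x : ℙ, ∃ j, x ∈ D[j] := EmbLib24.exists_chart_mem (n := n) (k := k)
  haveI : Mono v₀ := Tango.mono_of_sections _ fun x => (hcov x).elim fun j hj =>
    ⟨D[j], EmbLib24.isAffineOpen_chart n k j, hj, Function.LeftInverse.injective (hρ j)⟩
  haveI : Coh.IsQCoh (cokernel v₀) := isQCoh_cokernel _
  have hfree : FlatMod.IsFinLocFree (cokernel v₀) := Tango.isFinLocFree_of_sections _ fun x =>
    (hcov x).elim fun j hj => by
      obtain ⟨h1, h2⟩ := GenSection.module_data hK (EmbLib24.isAffineOpen_chart n k j)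
      exact ⟨D[j], EmbLib24.isAffineOpen_chart n k j, hj, Tango.projective_cokernel v₀
        (EmbLib24.isAffineOpen_chart n k j) (ρ j) fun z => congrArg (v₀.app D[j]) (hρ j z)⟩
  obtain ⟨r, hr⟩ := VB5.exists_rank hfree
  have hS : (ShortComplex.mk v₀ (cokernel.π v₀) (cokernel.condition _)).ShortExact :=
    { exact := ShortComplex.exact_cokernel _ }
  have hr' : n = 1 + r := VarietyLib.rank_add hS (rank_twist _) hK hr (genericPoint ℙ)
  obtain rfl : r = n - 1 := by omega
  exact ⟨v₀ ≫ e.hom, mono_comp _ _,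
    DQCoh.RpushDegree17.isFinLocFreeOfRank_of_iso (cokernelCompIsIso v₀ e.hom).symm hr⟩

include hn in
/-- For odd `n` a map `O(-1) → Ω(1)` with locally free cokernel of rank `n - 1`. -/
theorem exists_nullCorrelation :
    ∃ u : O[(-1 : ℤ)] ⟶ CohB1.tensorMod Ω₀ O[(1 : ℤ)], Mono u ∧ FlatMod.IsFinLocFreeOfRank (n - 1) (cokernel u) := by
  haveI : IsLocallyNoetherian ℙ := isLocallyNoetherian_projSpace
  obtain ⟨v, hv, hr⟩ := exists_vec n k hn
  haveI := hv
  obtain ⟨t⟩ := nonempty_tt (n := n) (A := k) (show (-2 : ℤ) + 1 = -1 by norm_num)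
  obtain ⟨t'⟩ := nonempty_tt (n := n) (A := k) (show (1 : ℤ) + -1 = 0 by norm_num)
  obtain ⟨b⟩ := nonempty_twist0 (n := n) (A := k)
  haveI := Quot8.isEquivalence_tensorR (t' ≪≫ b)
  obtain ⟨a⟩ := nonempty_tensorR_obj t
  obtain ⟨u, hu, ⟨i⟩⟩ := map_mono (Quot8.tensorR O[(1 : ℤ)]) a v
  exact ⟨u, hu, DQCoh.RpushDegree17.isFinLocFreeOfRank_of_iso i
    (GenSection.rank_tensorR (Coherent.isInvertible_twistProjSpaceZ n 1 k) hr)⟩

end Groth.Agent.EulerPn5.NullCorr
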