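import Groth.Agent.EulerPn5.IdealTwist
import Groth.Agent.EulerPn5.KerRankTwo
import Groth.Agent.WedgeDual5.Sheaf
import Groth.Agent.PicPn22.Main
import Groth.Agent.TF7.EndScalar
import Groth.Agent.CI14.Local
import Groth.Agent.DQCoh.RpushDegree17

/-!
# Bundles of rank two on projective space: stability and simplicity
-/

set_option autoImplicit false
set_option linter.style.haveILetI false
set_option linter.unusedSectionVars false
set_option backward.isDefEq.respectTransparency.types false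
set_option maxHeartbeats 1000000

universe u

open CategoryTheory CategoryTheory.Limits AlgebraicGeometry TopologicalSpace Opposite
open Groth.Agent.Coherent Groth.Agent.EulerLib Groth.Agent.CAlgH3 Groth.Agent.PicLib Groth.Agent.AmpleLib

namespace Groth.Agent.EulerPn5

section adj

variable {C D : Type*} [Category C] [Category D] [HasZeroMorphisms C] [HasZeroMorphisms D] {F : C ⥤ D} {G : D ⥤ C}

theorem homEquiv_eq_zero (adj : F ⊣ G) {A : C} {B : D} (f : F.obj A ⟶ B) (h : adj.homEquiv A B f = 0) : f = 0 := by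
  haveI : F.IsLeftAdjoint := adj.isLeftAdjoint
  have h2 := (adj.homEquiv A B).symm_apply_apply f
  rw [h, Adjunction.homEquiv_counit, Functor.map_zero, zero_comp] at h2
  exact h2.symm

theorem homEquiv_symm_eq_zero (adj : F ⊣ G) {A : C} {B : D} (f : A ⟶ G.obj B) (h : (adj.homEquiv A B).symm f = 0) :
    f = 0 := by
  haveI : G.IsRightAdjoint := adj.isRightAdjoint
  have h2 := (adj.homEquiv A B).apply_symm_apply f
  rw [h, Adjunction.homEquiv_unit, Functor.map_zero, comp_zero] at h2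
  exact h2.symm

end adj

/-- Nonzero maps `F ⊗ A → N` are the same as nonzero maps `A → Hom(F, N)`. -/
theorem exists_transpose {X : Scheme.{u}} (F A N : X.Modules) (φ : CohB1.tensorMod F A ⟶ N) (hφ : φ ≠ 0) :
    ∃ ψ : A ⟶ internalHom F N, ψ ≠ 0 :=
  ⟨(tensorHomAdj F).homEquiv A N φ, fun h => hφ (homEquiv_eq_zero (tensorHomAdj F) φ h)⟩

theorem exists_untranspose {X : Scheme.{u}} (F A N : X.Modules) (ψ : A ⟶ internalHom F N) (hψ : ψ ≠ 0) :
    ∃ φ : CohB1.tensorMod F A ⟶ N, φ ≠ 0 :=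
  ⟨((tensorHomAdj F).homEquiv A N).symm ψ, fun h => hψ (homEquiv_symm_eq_zero (tensorHomAdj F) ψ h)⟩

variable {n : ℕ} {k : Type u} [Field k]

local notation "O[" d "]" => Twist.twistProjSpace n k d

variable {E L : (CohB1.ProjSpace n k).Modules}

/-- `E ≅ Hom(E, det E)`. -/
theorem nonempty_selfDual (hE : FlatMod.IsFinLocFreeOfRank 2 E) {c : ℤ} (hL : ExtPow.IsExtPow 2 E L)
    (eL : L ≅ O[c]) : Nonempty (E ≅ internalHom E O[c]) := by
  obtain ⟨e⟩ := WedgeDual5.nonempty_iso_internalHom hE (show 1 + 1 = 2 from rfl) (KvbLam28.isExtPow_one E)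
    (KvbLam28.isExtPow_one E) hL
  exact ⟨e ≪≫ (internalHomFunctor E).mapIso eL⟩

/-- Maps `E → O(b)` give maps `O(c-b) → E`. -/
theorem exists_hom_of_hom (hE : FlatMod.IsFinLocFreeOfRank 2 E) {a b c : ℤ} (hL : ExtPow.IsExtPow 2 E L)
    (eL : L ≅ O[c]) (h : a + b = c) (g : E ⟶ O[b]) (hg : g ≠ 0) : ∃ x : O[a] ⟶ E, x ≠ 0 := by
  obtain ⟨eE⟩ := nonempty_selfDual hE hL eL
  obtain ⟨t⟩ := nonempty_tt (n := n) (A := k) (show b + a = c by omega)
  let y : CohB1.tensorMod E O[a] ⟶ O[c] := AmpleLib.tensorMap g (𝟙 _) ≫ t.hom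
  have hy : y ≠ 0 := fun hy => hg (SerreDual.tensorRightHom_injective k E O[b]
    (Coherent.isInvertible_twistProjSpaceZ n a k)
    (((cancel_mono t.hom).1 (hy.trans zero_comp.symm)).trans (map_zero (SerreDual.tensorRightHom k E O[b] O[a])).symm))
  obtain ⟨z, hz⟩ := exists_transpose E O[a] O[c] y hy
  exact ⟨z ≫ eE.inv, fun hx => hz ((cancel_mono eE.inv).1 (hx.trans zero_comp.symm))⟩

/-- Maps `O(a) → E` give maps `E → O(c-a)`. -/
theorem exists_hom_of_hom' (hE : FlatMod.IsFinLocFreeOfRank 2 E) {a b c : ℤ} (hL : ExtPow.IsExtPow 2 E L)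
    (eL : L ≅ O[c]) (h : a + b = c) (x : O[a] ⟶ E) (hx : x ≠ 0) : ∃ g : E ⟶ O[b], g ≠ 0 := by
  obtain ⟨eE⟩ := nonempty_selfDual hE hL eL
  obtain ⟨y, hy⟩ := exists_untranspose E O[a] O[c] (x ≫ eE.hom) fun h => hx ((cancel_mono eE.hom).1 (h.trans zero_comp.symm))
  obtain ⟨s⟩ := nonempty_tt (n := n) (A := k) (show a + -a = 0 by ring)
  obtain ⟨t⟩ := nonempty_tt (n := n) (A := k) (show c + -a = b by omega)
  obtain ⟨u⟩ := nonempty_tensor_twist0 E
  let i : E ≅ CohB1.tensorMod (CohB1.tensorMod E O[a]) O[-a] :=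
    u.symm ≪≫ AmpleLib.tensorIso (Iso.refl E) s.symm ≪≫ (DCat.TensorAssoc.assocIso E O[a] O[-a]).symm
  refine ⟨i.hom ≫ AmpleLib.tensorMap y (𝟙 _) ≫ t.hom, fun h0 => hy ?_⟩
  rw [← Category.assoc, ← zero_comp (f := t.hom), cancel_mono, ← comp_zero (f := i.hom), cancel_epi] at h0
  exact SerreDual.tensorRightHom_injective k _ _ (Coherent.isInvertible_twistProjSpaceZ n (-a) k)
    (h0.trans (map_zero (SerreDual.tensorRightHom k _ _ O[-a])).symm)

variable (hE : FlatMod.IsFinLocFreeOfRank 2 E)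
include hE

theorem mono_to_bundle (a : ℤ) (f : O[a] ⟶ E) (hf : f ≠ 0) : Mono f := by
  haveI : IsIntegral (CohB1.ProjSpace n k) := CurveLib.isIntegral_projSpace (k := k) n
  haveI : IsProper ((CohB1.ProjSpace n k) ↘ Spec (CommRingCat.of k)) := Coherent.isProper_projSpace_toSpec n k
  haveI := EulerLib.isNoetherian_of_proper k (X := CohB1.ProjSpace n k)
  exact SplitP1.mono_of_ne_zero' (SplitP1.isCoh_of_rank hE)
    (fun x => (SplitP1.nonempty_basis_stalk hE x).elim fun b => Module.Free.of_basis b)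
    (Coherent.isInvertible_twistProjSpaceZ n a k) f hf

/-- Consequence of `H^0(E(k₀)) = 0`. -/
theorem hom_eq_zero_of_stable {k₀ : ℤ} (h0 : ModCohSeq.V (CohB1.tensorMod E O[k₀]) 0) {a : ℤ} (ha : -k₀ ≤ a)
    (f : O[a] ⟶ E) : f = 0 :=
  (V_tensor_twist_iff E (add_neg_cancel a)).1
    (V_tensor_twist_of_le (fun a f hf => mono_to_bundle hE a f hf) (show -a ≤ k₀ by omega) h0) f

/-- Endomorphisms of a simple bundle kill `H^0(E(k₀))`. -/
theorem V_of_simple {c k₀ : ℤ} (hL : ExtPow.IsExtPow 2 E L) (eL : L ≅ O[c])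
    (hk₀ : c + 2 * k₀ = 0 ∨ c + 2 * k₀ = -1) (hs : ∀ φ : E ⟶ E, ∃ t : k, φ = t • 𝟙 E) :
    ModCohSeq.V (CohB1.tensorMod E O[k₀]) 0 := by
  refine (V_tensor_twist_iff E (neg_add_cancel k₀)).2 fun x => ?_
  by_contra hx
  haveI := mono_to_bundle hE _ x hx
  obtain ⟨g, hg⟩ := exists_hom_of_hom' hE hL eL (show -k₀ + (c + k₀) = c by ring) x hx
  obtain ⟨h, hh⟩ := exists_ne_zero_twist (n := n) (k := k) (show c + k₀ ≤ -k₀ by omega)
  haveI : Mono h := by
    haveI : IsIntegral (CohB1.ProjSpace n k) := CurveLib.isIntegral_projSpace (k := k) n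
    exact VarietyLib.mono_of_ne_zero_invertible (Coherent.isInvertible_twistProjSpaceZ n _ k)
      (Coherent.isInvertible_twistProjSpaceZ n _ k) h hh
  obtain ⟨t, ht⟩ := hs (g ≫ h ≫ x)
  have ht0 : t ≠ 0 := fun ht0 => hg (by
    rw [ht0, zero_smul] at ht
    have h1 : (g ≫ h) ≫ x = 0 := (Category.assoc _ _ _).trans ht
    exact (cancel_mono h).1 (((cancel_mono x).1 (h1.trans zero_comp.symm)).trans zero_comp.symm))
  haveI : IsSplitEpi x := IsSplitEpi.mk' ⟨t⁻¹ • (g ≫ h), by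
    rw [Linear.smul_comp, Category.assoc, ht, smul_smul, inv_mul_cancel₀ ht0, one_smul]⟩
  haveI : IsIso x := isIso_of_mono_of_epi x
  exact not_isZero_twist' c ((isZero_of_isExtPow
    (DQCoh.RpushDegree17.isFinLocFreeOfRank_of_iso (asIso x)
      (PicLib.isFinLocFreeOfRank_one (Coherent.isInvertible_twistProjSpaceZ n (-k₀) k))) hL Nat.one_lt_two).of_iso eL.symm)

/-- Nonzero endomorphisms of a stable bundle of rank two are monomorphisms. -/
theorem mono_endo_of_stable {c k₀ : ℤ} (hL : ExtPow.IsExtPow 2 E L) (eL : L ≅ O[c])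
    (hk₀ : c + 2 * k₀ = 0 ∨ c + 2 * k₀ = -1) (h0 : ModCohSeq.V (CohB1.tensorMod E O[k₀]) 0)
    (ψ : E ⟶ E) (hψ : ψ ≠ 0) : Mono ψ := by
  haveI : IsIntegral (CohB1.ProjSpace n k) := CurveLib.isIntegral_projSpace (k := k) n
  haveI : IsProper ((CohB1.ProjSpace n k) ↘ Spec (CommRingCat.of k)) := Coherent.isProper_projSpace_toSpec n k
  haveI := EulerLib.isNoetherian_of_proper k (X := CohB1.ProjSpace n k)
  have hufd : ∀ x : CohB1.ProjSpace n k, UniqueFactorizationMonoid ((CohB1.ProjSpace n k).presheaf.stalk x) :=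
    fun x => by
      haveI := CI14.regular_stalk (n := n) (k := k) x
      exact CAlgH3.ufm_of_regular _
  have hEc := SplitP1.isCoh_of_rank hE
  haveI : Module.Finite k (E ⟶ E) := TF7.finite_hom_coh k hEc hEc
  by_contra hm
  obtain ⟨χ, hχ, hψχ⟩ : ∃ χ : E ⟶ E, χ ≠ 0 ∧ ψ ≫ χ = 0 := by
    by_contra hne
    push_neg at hne
    have hinj : Function.Injective (Linear.leftComp k E ψ) := (injective_iff_map_eq_zero _).2 fun χ hχ => by
      by_contra h
      exact hne χ h hχ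
    obtain ⟨s, hs⟩ := LinearMap.surjective_of_injective hinj (𝟙 E)
    exact hm (SplitMono.mk s hs).mono
  have hχm : ¬ Mono χ := fun h => hψ ((cancel_mono χ).1 (hψχ.trans zero_comp.symm))
  obtain ⟨b, ⟨eK⟩⟩ := PicPn22.exists_iso_twist n k (kernel χ) (isInvertible_kernel hE hE hufd χ hχ hχm)
  let x : O[b] ⟶ E := eK.inv ≫ kernel.ι χ
  let g : E ⟶ O[b] := kernel.lift χ ψ hψχ ≫ eK.hom
  have hgx : g ≫ x = ψ := by simp [g, x]
  have hg : g ≠ 0 := fun h => hψ (by rw [← hgx, h, zero_comp])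
  have hx : x ≠ 0 := fun h => hψ (by rw [← hgx, h, comp_zero])
  obtain ⟨x', hx'⟩ := exists_hom_of_hom hE hL eL (show c - b + b = c by ring) g hg
  have h1 : b < -k₀ := lt_of_not_ge fun h => hx (hom_eq_zero_of_stable hE h0 h x)
  have h2 : c - b < -k₀ := lt_of_not_ge fun h => hx' (hom_eq_zero_of_stable hE h0 h x')
  omega

/-- Stable bundles of rank two are simple. -/
theorem exists_scalar_of_stable [IsAlgClosed k] {c k₀ : ℤ} (hL : ExtPow.IsExtPow 2 E L) (eL : L ≅ O[c])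
    (hk₀ : c + 2 * k₀ = 0 ∨ c + 2 * k₀ = -1) (h0 : ModCohSeq.V (CohB1.tensorMod E O[k₀]) 0) (φ : E ⟶ E) :
    ∃ t : k, φ = t • 𝟙 E := by
  haveI : IsProper ((CohB1.ProjSpace n k) ↘ Spec (CommRingCat.of k)) := Coherent.isProper_projSpace_toSpec n k
  haveI := EulerLib.isNoetherian_of_proper k (X := CohB1.ProjSpace n k)
  have hEc := SplitP1.isCoh_of_rank hE
  haveI : Module.Finite k (E ⟶ E) := TF7.finite_hom_coh k hEc hEc
  rcases subsingleton_or_nontrivial (E ⟶ E) with hs | hs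
  · exact ⟨0, Subsingleton.elim _ _⟩
  obtain ⟨t, ht⟩ := Module.End.exists_eigenvalue (Linear.rightComp k E φ : (E ⟶ E) →ₗ[k] (E ⟶ E))
  obtain ⟨v, hv⟩ := ht.exists_hasEigenvector
  refine ⟨t, ?_⟩
  by_contra hne
  haveI := mono_endo_of_stable hE hL eL hk₀ h0 (φ - t • 𝟙 E) (sub_ne_zero.2 hne)
  refine hv.2 ((cancel_mono (φ - t • 𝟙 E)).1 ?_)
  have h1 : v ≫ φ = t • v := hv.apply_eq_smul
  rw [zero_comp, Preadditive.comp_sub, Linear.comp_smul, Category.comp_id, h1, sub_self]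

omit hE in
theorem scalar_iff (φ : E ⟶ E) (t : k) :
    φ = t • 𝟙 E ↔ (SheafOfModules.toSheaf (CohB1.ProjSpace n k).ringCatSheaf).map φ =
      Coh.smulAb E (Coh.toGlobal (CohB1.ProjSpace.toSpec n k) t) := by
  have h : (SheafOfModules.toSheaf (CohB1.ProjSpace n k).ringCatSheaf).map (t • 𝟙 E) =
      Coh.smulAb E (Coh.toGlobal (CohB1.ProjSpace.toSpec n k) t) := by
    rw [KLin.smul_def, Category.comp_id]
    rfl
  exact ⟨fun e => e ▸ h,
    fun e => (SheafOfModules.toSheaf (CohB1.ProjSpace n k).ringCatSheaf).map_injective (e.trans h.symm)⟩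

end Groth.Agent.EulerPn5
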