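import Groth.Agent.EulerPn5.Rank2
import Groth.Agent.SplitP.Apps
import Groth.Agent.SerreDual.CMDual
import Groth.Agent.SerreDual.ExtShProj
import Groth.Agent.CycLib28.PB.Ops.TensorFree
import Groth.Agent.CurveRR24.RR

/-!
# A two term resolution of a bundle on the plane by sums of negative line bundles
-/

set_option autoImplicit false
set_option linter.style.haveILetI false
set_option linter.unusedSectionVars false
set_option backward.isDefEq.respectTransparency.types false
set_option maxHeartbeats 1000000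

universe u

open CategoryTheory CategoryTheory.Limits AlgebraicGeometry Opposite TopologicalSpace
open Groth.Agent Groth.Agent.Coherent Groth.Agent.PicLib Groth.Agent.AmpleLib Groth.Agent.CAlgH3
open Groth.Agent.EulerLib Groth.Agent.SerreDual

namespace Groth.Agent.EulerPn5.Resolution

section General

variable {X : Scheme.{u}}

/-- If every map `A → F` lifts through `p`, every section of `F ⊗ N` does, `N` inverse to `A`. -/
theorem surjective_of_factor {A N P F : X.Modules} (hA : PicF.IsInvertible A) (hN : PicF.IsInvertible N)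
    (t : CohB1.tensorMod A N ≅ Coh.structureModule X) (p : P ⟶ F)
    (hf : ∀ f : A ⟶ F, ∃ f', f' ≫ p = f) :
    Function.Surjective (((twistF N).map p).app (⊤ : X.Opens)) := fun s => by
  haveI := isEquivalence_twistF hA hN t
  obtain ⟨f, hf₀⟩ := (twistF N).map_surjective
    (show (twistF N).obj A ⟶ (twistF N).obj F from t.hom ≫ unitDesc _ s)
  obtain ⟨f', hf'⟩ := hf f
  refine ⟨((twistF N).map f').app ⊤ (t.inv.app ⊤ (1 : Γ(X, ⊤))), ?_⟩
  have h1 := congrArg (fun φ : (twistF N).obj A ⟶ (twistF N).obj F => φ.app ⊤ (t.inv.app ⊤ (1 : Γ(X, ⊤))))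
    ((((twistF N).map_comp f' p).symm.trans (congrArg _ hf')).trans hf₀)
  refine h1.trans ?_
  show (unitDesc _ s).app ⊤ (t.hom.app ⊤ (t.inv.app ⊤ (1 : Γ(X, ⊤)))) = s
  rw [show t.hom.app ⊤ (t.inv.app ⊤ (1 : Γ(X, ⊤))) = (1 : Γ(X, ⊤)) from
    ConcreteCategory.congr_hom (congrArg (fun φ => Scheme.Modules.Hom.app φ ⊤) t.inv_hom_id) _]
  exact unitDesc_one_app s

variable (k : Type u) [Field k] [X.Over (Spec (CommRingCat.of k))]

/-- Maps out of an invertible module form a finite module. -/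
theorem exists_span {A N F : X.Modules} (hN : PicF.IsInvertible N) (t : CohB1.tensorMod A N ≅ Coh.structureModule X)
    [Module.Finite k (Coh.HH X (CohB1.tensorMod F N) 0)] :
    ∃ (m : ℕ) (b : Fin m → (A ⟶ F)), ∀ f : A ⟶ F, ∃ c : Fin m → k, ∑ l, c l • b l = f := by
  let φ := ((Linear.homCongr k t (Iso.refl (CohB1.tensorMod F N))).trans (homUnitHH k _)).toLinearMap.comp
    (tensorRightHom k A F N)
  haveI : Module.Finite k (A ⟶ F) := FiniteDimensional.of_injective φ
    (((Linear.homCongr k t (Iso.refl (CohB1.tensorMod F N))).trans (homUnitHH k _)).injective.comp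
      (tensorRightHom_injective k A F hN))
  let b := Module.finBasis k (A ⟶ F)
  exact ⟨_, b, fun f => ⟨fun l => b.repr f l, b.sum_repr f⟩⟩

end General

variable {k : Type u} [Field k]

local notation "O[" d "]" => Twist.twistProjSpace 2 k d

theorem hom_twist_eq_zero {a b : ℤ} (h : b < a) (f : O[a] ⟶ O[b]) : f = 0 := by
  obtain ⟨t⟩ := nonempty_tt (n := 2) (A := k) (show b + -a = b - a by ring)
  exact (V_tensor_twist_iff O[b] (add_neg_cancel a)).1
    (ModCohSeq.V_of_iso t.symm (V_twist (by omega) (by omega))) f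

attribute [local instance] hasFiniteBiproducts in
/-- A resolution by sums of negative line bundles. -/
theorem exists_resolution {F : (CohB1.ProjSpace 2 k).Modules} (hF : FlatMod.IsFinLocFreeOfRank 2 F)
    (h0 : ModCohSeq.V (CohB1.tensorMod F O[0]) 0) :
    ∃ (r s : ℕ) (kk : Fin r → ℤ) (mm : Fin s → ℤ) (S : ShortComplex (CohB1.ProjSpace 2 k).Modules),
      S.ShortExact ∧ (∀ i, kk i < 0) ∧ (∀ j, mm j < 0) ∧
      Nonempty (S.X₁ ≅ ∐ fun i : Fin r => O[kk i]) ∧
      Nonempty (S.X₂ ≅ ∐ fun j : Fin s => O[mm j]) ∧ Nonempty (S.X₃ ≅ F) := by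
  classical
  haveI : IsProper ((CohB1.ProjSpace 2 k) ↘ Spec (CommRingCat.of k)) := isProper_projSpace_toSpec 2 k
  haveI := isNoetherian_of_proper (k := k) (X := CohB1.ProjSpace 2 k)
  have hFc : Coh.IsCoh F := CohBC.isCoh_of_isFinLocFree (VarietyLib.isFinLocFree_of_rank hF)
  haveI := hFc.1
  have hz : ∀ a : ℤ, 0 ≤ a → ∀ f : O[a] ⟶ F, f = 0 := fun a ha f =>
    hom_eq_zero_of_stable hF h0 (by omega) f
  obtain ⟨N₀, hN₀⟩ := (projPowCover 2 k).exists_epi hFc
  obtain ⟨r, p₁, hp₁⟩ := hN₀ (N₀ + 1) (Nat.le_succ _) _ (twistGens 2 k (N₀ + 1))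
  let a : ℤ := -((N₀ + 1 : ℕ) : ℤ)
  have hPc : ∀ (s : ℕ) (mm : Fin s → ℤ), Coh.IsCoh (∐ fun j : Fin s => O[mm j]) := fun s mm =>
    CohBC.isCoh_of_isFinLocFree (DCat.PerfTensor.isFinLocFree_sigma _ fun j => isFinLocFree_twist (mm j))
  let P₀ := ∐ fun _ : Fin r => O[a]
  let p₀ : P₀ ⟶ F := (biproduct.isoCoproduct _).inv ≫ p₁
  haveI : Epi p₀ := epi_comp _ _
  have hK₀ : Coh.IsCoh (kernel p₀) := isCoh_kernel p₀ (hPc _ _) hFc.1
  obtain ⟨N₁, hN₁⟩ := exists_vanishing_twist hK₀
  have hspan : ∀ d : Fin N₁, ∃ (m : ℕ) (b : Fin m → (O[-((d : ℤ) + 1)] ⟶ F)),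
      ∀ f, ∃ c : Fin m → k, ∑ l, c l • b l = f := fun d => by
    obtain ⟨t⟩ := SerreDual.nonempty_twist_inv (k := k) (n := 2) (-((d : ℤ) + 1))
    haveI := CurveRR24.finite_HH_of_isCoh (k := k)
      (EulerLib.isCoh_twist (Coherent.isInvertible_twistProjSpaceZ 2 (- -((d : ℤ) + 1)) k) hFc) 0
    exact exists_span k (Coherent.isInvertible_twistProjSpaceZ 2 _ k) t
  choose m b hb using hspan
  let I := Fin r ⊕ (Σ d : Fin N₁, Fin (m d))
  let s := Fintype.card I
  let e : Fin s ≃ I := (Fintype.equivFin I).symm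
  let deg : I → ℤ := Sum.elim (fun _ => a) fun x => -((x.1 : ℤ) + 1)
  let gen : ∀ i : I, O[deg i] ⟶ F := fun i => match i with
    | .inl l => Sigma.ι (fun _ : Fin r => O[a]) l ≫ p₀
    | .inr x => b x.1 x.2
  let mm : Fin s → ℤ := fun j => deg (e j)
  let P := ∐ fun j : Fin s => O[mm j]
  let p : P ⟶ F := Sigma.desc fun j => gen (e j)
  have hlift : ∀ i : I, ∃ w : O[deg i] ⟶ P, w ≫ p = gen i := fun i => by
    obtain ⟨j, rfl⟩ := e.surjective i
    exact ⟨Sigma.ι (fun j : Fin s => O[mm j]) j, Sigma.ι_desc _ _⟩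
  choose w hw using hlift
  let q : P₀ ⟶ P := Sigma.desc fun l => w (.inl l)
  have hq : q ≫ p = p₀ := Sigma.hom_ext _ _ fun l => by
    rw [← Category.assoc, Sigma.ι_desc]
    exact hw (.inl l)
  haveI : Epi p := epi_of_epi_fac hq
  have hmm : ∀ j, mm j < 0 := fun j => by
    show deg (e j) < 0
    rcases e j with l | x
    · show a < 0; omega
    · show -((x.1 : ℤ) + 1) < 0; omega
  have hsurj : ∀ d : ℤ, Function.Surjective (((twistF O[d]).map p).app ⊤) := fun d => by
    by_cases hd : d ≤ 0 ∨ d ≤ N₁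
    · obtain ⟨t⟩ := SerreDual.nonempty_twist_inv (k := k) (n := 2) (-d)
      rw [neg_neg] at t
      refine surjective_of_factor (Coherent.isInvertible_twistProjSpaceZ 2 _ k)
        (Coherent.isInvertible_twistProjSpaceZ 2 _ k) t p fun f => ?_
      by_cases hd0 : d ≤ 0
      · exact ⟨0, by rw [zero_comp, hz (-d) (by omega) f]⟩
      · obtain ⟨d', hd'⟩ : ∃ d' : Fin N₁, d = (d' : ℤ) + 1 := ⟨⟨(d - 1).toNat, by omega⟩, by simp; omega⟩
        subst hd'
        obtain ⟨c, rfl⟩ := hb d' f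
        refine ⟨∑ l, c l • (show O[-((d' : ℤ) + 1)] ⟶ P from w (.inr ⟨d', l⟩)), ?_⟩
        rw [Preadditive.sum_comp]
        exact Finset.sum_congr rfl fun l _ => by rw [Linear.smul_comp]; exact congrArg _ (hw (.inr ⟨d', l⟩))
    · obtain ⟨N, rfl⟩ : ∃ N : ℕ, d = N := ⟨d.toNat, by omega⟩
      have hS₀ : (ShortComplex.mk (kernel.ι p₀) p₀ (kernel.condition p₀)).ShortExact :=
        { exact := ShortComplex.exact_of_f_is_kernel _ (kernelIsKernel p₀), mono_f := inferInstance, epi_g := ‹_› }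
      have h := ModCohSeq.surjective_top
        (twistSeq_shortExact (Coherent.isInvertible_twistProjSpaceZ 2 (N : ℤ) k) hS₀)
        (hN₁ N (by omega) 1 one_pos)
      intro z
      obtain ⟨z₀, hz₀⟩ := h z
      refine ⟨((twistF O[(N : ℤ)]).map q).app ⊤ z₀, ?_⟩
      refine Eq.trans ?_ hz₀
      exact (ConcreteCategory.congr_hom (congrArg (fun φ => Scheme.Modules.Hom.app φ ⊤)
        (((twistF O[(N : ℤ)]).map_comp q p).symm.trans (congrArg _ hq))) z₀)
  have hS : (ShortComplex.mk (kernel.ι p) p (kernel.condition p)).ShortExact :=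
    { exact := ShortComplex.exact_of_f_is_kernel _ (kernelIsKernel p), mono_f := inferInstance, epi_g := ‹_› }
  have hz' : ∀ c : ℤ, 0 ≤ c → ∀ f : O[c] ⟶ kernel p, f = 0 := fun c hc f => by
    refine (cancel_mono (kernel.ι p)).1 ((cancel_mono (biproduct.isoCoproduct _).inv).1 ?_)
    rw [zero_comp, zero_comp]
    refine biproduct.hom_ext _ _ fun j => ?_
    rw [zero_comp]
    exact hom_twist_eq_zero (lt_of_lt_of_le (hmm j) hc) _
  obtain ⟨r', kk, ⟨eK⟩⟩ := SplitP.exists_split (K := k) (d := 2) one_le_two 0 _ (kernel p)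
    (isCoh_kernel p (hPc _ _) hFc.1)
    (fun n hn => (V_tensor_twist_iff (kernel p) (neg_add_cancel n)).2 fun f => hz' (-n) (by omega) f)
    (fun n i hi1 hi2 => by
      obtain rfl : i = 1 := by omega
      refine ModCohSeq.V_one_of_surjective
        (twistSeq_shortExact (Coherent.isInvertible_twistProjSpaceZ 2 n k) hS) (hsurj n) ?_
      exact SplitP.subsingleton_HH_tw_sum mm (biproduct.isoCoproduct _).symm n 1 fun j =>
        V_twist (by omega) (by omega))
    le_rfl
  refine ⟨r', s, kk, mm, ShortComplex.mk (kernel.ι p) p (kernel.condition p), hS, fun i => ?_, hmm,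
    ⟨eK ≪≫ biproduct.isoCoproduct _⟩, ⟨Iso.refl _⟩, ⟨Iso.refl _⟩⟩
  by_contra hi
  have h1 := hz' (kk i) (by omega) (biproduct.ι (fun j => O[kk j]) i ≫ eK.inv)
  refine not_isZero_twist' (n := 2) (k := k) (kk i) ((IsZero.iff_id_eq_zero _).2 ?_)
  rw [← biproduct.ι_π_self (fun j => O[kk j]) i, ← Category.comp_id (biproduct.ι (fun j => O[kk j]) i),
    ← eK.inv_hom_id, ← Category.assoc (biproduct.ι (fun j => O[kk j]) i), h1, zero_comp, zero_comp]

end Groth.Agent.EulerPn5.Resolution
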