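import Mathlib

/-!
# Algebra for the Serre correspondence
-/

set_option autoImplicit false
universe u v

namespace Groth.Agent.EulerPn5.SerreAlg

open RingTheory.Sequence

variable {R : Type u} [CommRing R] {f g : R}

theorem left_regular (h : IsWeaklyRegular R [f, g]) {t : R} (ht : f * t = 0) : t = 0 := by
  rw [isWeaklyRegular_cons_iff] at h
  exact h.1 (show f • t = f • (0 : R) by rw [smul_zero]; exact ht)

/-- The relations of a regular pair are the Koszul relations. -/
theorem relation (h : IsWeaklyRegular R [f, g]) {a b : R} (hab : a * f + b * g = 0) :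
    ∃ t, a = g * t ∧ b = -(f * t) := by
  have h' := h
  rw [isWeaklyRegular_cons_iff, isWeaklyRegular_cons_iff] at h'
  have h2 : g • (Submodule.Quotient.mk b : QuotSMulTop f R) = g • (0 : QuotSMulTop f R) := by
    rw [smul_zero, ← Submodule.Quotient.mk_smul, Submodule.Quotient.mk_eq_zero,
      Submodule.mem_smul_pointwise_iff_exists]
    exact ⟨-a, trivial, by simp only [smul_eq_mul]; linear_combination -hab⟩
  have h3 := h'.2.1 h2
  rw [Submodule.Quotient.mk_eq_zero, Submodule.mem_smul_pointwise_iff_exists] at h3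
  obtain ⟨s, -, hs⟩ := h3
  rw [smul_eq_mul] at hs
  refine ⟨-s, ?_, by linear_combination -hs⟩
  have h0 : f * (a + g * s) = 0 := by linear_combination hab + g * hs
  linear_combination left_regular h h0

variable {M : Type v} [AddCommGroup M] [Module R M] {r : ℕ}

theorem eq_zero_of_smul (h : IsWeaklyRegular R [f, g]) (bM : Module.Basis (Fin r) R M) {m : M}
    (hf : f • m = 0) : m = 0 := by
  refine bM.repr.injective (Finsupp.ext fun i => ?_)
  rw [map_zero, Finsupp.zero_apply]
  refine left_regular h ?_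
  simpa using congrArg (fun z => bM.repr z i) hf

/-- A linear map on the ideal of a regular pair into a free module is a multiplication. -/
theorem exists_mul {N : Type v} [AddCommGroup N] [Module R N] (h : IsWeaklyRegular R [f, g])
    (bM : Module.Basis (Fin r) R M) (j : N →ₗ[R] R) (hj : Function.Injective j)
    (hr : LinearMap.range j = Ideal.span {f, g}) (φ : N →ₗ[R] M) : ∃ m : M, ∀ x, φ x = j x • m := by
  classical
  obtain ⟨xf, hxf⟩ : f ∈ LinearMap.range j := hr ▸ Ideal.subset_span (Set.mem_insert _ _)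
  obtain ⟨xg, hxg⟩ : g ∈ LinearMap.range j := hr ▸ Ideal.subset_span (Set.mem_insert_of_mem _ rfl)
  have hrel : g • φ xf = f • φ xg := by
    rw [← map_smul, ← map_smul]
    exact congrArg φ (hj (by rw [map_smul, map_smul, hxf, hxg, smul_eq_mul, smul_eq_mul, mul_comm]))
  have hc : ∀ i, ∃ t, bM.repr (φ xf) i = f * t ∧ bM.repr (φ xg) i = g * t := fun i => by
    have h1 : g * bM.repr (φ xf) i = f * bM.repr (φ xg) i := by
      simpa using congrArg (fun z => bM.repr z i) hrel
    obtain ⟨t, h2, h3⟩ := relation h (a := bM.repr (φ xg) i) (b := -bM.repr (φ xf) i)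
      (by linear_combination -h1)
    exact ⟨t, neg_injective h3, h2⟩
  choose t ht₁ ht₂ using hc
  refine ⟨∑ i, t i • bM i, fun x => ?_⟩
  have hm : ∀ i, bM.repr (∑ i, t i • bM i) i = t i := fun i => by rw [Module.Basis.repr_sum_self]
  have e₁ : φ xf = f • ∑ i, t i • bM i := bM.repr.injective (Finsupp.ext fun i => by
    rw [map_smul, Finsupp.smul_apply, hm, smul_eq_mul, ht₁])
  have e₂ : φ xg = g • ∑ i, t i • bM i := bM.repr.injective (Finsupp.ext fun i => by
    rw [map_smul, Finsupp.smul_apply, hm, smul_eq_mul, ht₂])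
  have hx : j x ∈ Ideal.span {f, g} := hr ▸ LinearMap.mem_range_self j x
  obtain ⟨a, b, hab⟩ := Ideal.mem_span_pair.1 hx
  obtain rfl : x = a • xf + b • xg := hj (by simp [hxf, hxg, hab])
  rw [map_add, map_smul, map_smul, e₁, e₂, smul_smul, smul_smul, ← add_smul]
  simp [hxf, hxg]

variable {P K : Type v} [AddCommGroup P] [Module R P] [AddCommGroup K] [Module R K]
  (π : P →ₗ[R] R) (u : K →ₗ[R] P) (h : K →ₗ[R] R)

/-- A generator of `Ext^1` of the ideal of a regular pair takes a unit value on the Koszul relation. -/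
theorem one_mem [Module.Projective R P] (hreg : IsWeaklyRegular R [f, g]) (hπ : LinearMap.range π = Ideal.span {f, g})
    (hk : ∀ x, π (u x) = 0) (hgen : ∀ d : K →ₗ[R] R, ∃ (a : R) (ρ : P →ₗ[R] R), d = a • h + ρ.comp u)
    {p₁ p₂ : P} (h₁ : π p₁ = f) (h₂ : π p₂ = g) {κ : K} (hκ : u κ = g • p₁ - f • p₂) :
    ∃ a, a * h κ - 1 ∈ Ideal.span {f, g} := by
  let μ : (R × R) →ₗ[R] R := (LinearMap.toSpanSingleton R R f).coprod (LinearMap.toSpanSingleton R R g)
  have hμ : LinearMap.range π ≤ LinearMap.range μ := fun x hx => by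
    rw [hπ] at hx
    obtain ⟨a, b, hab⟩ := Ideal.mem_span_pair.1 hx
    exact ⟨(a, b), by simp [μ, hab]⟩
  obtain ⟨c, hc⟩ := Module.projective_lifting_property μ.rangeRestrict
    (π.codRestrict _ fun p => hμ ⟨p, rfl⟩) μ.surjective_rangeRestrict
  have hc' : ∀ p, (c p).1 * f + (c p).2 * g = π p := fun p => by
    simpa [μ] using congrArg Subtype.val (LinearMap.congr_fun hc p)
  have hex : ∀ x, ∃ t, c (u x) = (g * t, -(f * t)) := fun x => by
    obtain ⟨t, ht₁, ht₂⟩ := relation hreg ((hc' (u x)).trans (hk x))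
    exact ⟨t, Prod.ext ht₁ ht₂⟩
  choose d hd using hex
  have huniq : ∀ s t : R, (g * s, -(f * s)) = (g * t, -(f * t)) → s = t := fun s t e => by
    have := neg_injective (congrArg Prod.snd e)
    exact sub_eq_zero.1 (left_regular hreg (by rw [mul_sub, this, sub_self]))
  let D : K →ₗ[R] R :=
    { toFun := d
      map_add' := fun x y => huniq _ _ (by
        rw [← hd, map_add, map_add, hd, hd, Prod.mk_add_mk, mul_add, mul_add, neg_add])
      map_smul' := fun a x => huniq _ _ (by
        rw [← hd, map_smul, map_smul, hd, RingHom.id_apply, smul_eq_mul, Prod.smul_mk, smul_eq_mul, smul_eq_mul]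
        ext <;> ring) }
  obtain ⟨a, ρ, hD⟩ := hgen D
  obtain ⟨t₁, h11, h12⟩ := relation hreg (a := (c p₁).1 - 1) (b := (c p₁).2) (by linear_combination (hc' p₁).trans h₁)
  obtain ⟨t₂, h21, h22⟩ := relation hreg (a := (c p₂).1) (b := (c p₂).2 - 1) (by linear_combination (hc' p₂).trans h₂)
  have hv : d κ = 1 + g * t₁ - f * t₂ := huniq _ _ (by
    rw [← hd, hκ, map_sub, map_smul, map_smul]
    refine Prod.ext ?_ ?_ <;>
      simp only [Prod.fst_sub, Prod.snd_sub, Prod.smul_fst, Prod.smul_snd, smul_eq_mul]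
    · linear_combination g * h11 - f * h21
    · linear_combination g * h12 - f * h22)
  have hv' : d κ = a * h κ + (g * ρ p₁ - f * ρ p₂) := by
    have := LinearMap.congr_fun hD κ
    simpa [hκ, D] using this
  refine ⟨a, Ideal.mem_span_pair.2 ⟨ρ p₂ - t₂, t₁ - ρ p₁, ?_⟩⟩
  linear_combination hv' - hv

variable {Ev : Type v} [AddCommGroup Ev] [Module R Ev] (iM : R →ₗ[R] Ev) (q : P →ₗ[R] Ev) (πE : Ev →ₗ[R] R)

/-- The extension cut out by a unit value on the Koszul relation is free of rank two. -/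
theorem exists_basis (hreg : IsWeaklyRegular R [f, g]) (hi : Function.Injective iM)
    (hker : ∀ e, πE e = 0 → ∃ t, iM t = e) (hzero : ∀ t, πE (iM t) = 0)
    (hq : ∀ p, πE (q p) = π p) (hrange : ∀ e, πE e ∈ Ideal.span {f, g}) (hqu : ∀ x, q (u x) = iM (h x))
    {p₁ p₂ : P} (h₁ : π p₁ = f) (h₂ : π p₂ = g) {κ : K} (hκ : u κ = g • p₁ - f • p₂) (hv : IsUnit (h κ)) :
    Nonempty (Module.Basis (Fin 2) R Ev) := by
  let ψ : (Fin 2 → R) →ₗ[R] Ev := Fintype.linearCombination R ![q p₁, q p₂]
  have hψ : ∀ w, ψ w = w 0 • q p₁ + w 1 • q p₂ := fun w => by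
    simp [ψ, Fintype.linearCombination_apply, Fin.sum_univ_two]
  have hK : iM (h κ) = g • q p₁ - f • q p₂ := by rw [← hqu, hκ, map_sub, map_smul, map_smul]
  have hbij : Function.Bijective ψ := by
    refine ⟨(injective_iff_map_eq_zero _).2 fun w hw => ?_, fun e => ?_⟩
    · rw [hψ] at hw
      have h0 : w 0 * f + w 1 * g = 0 := by
        have := congrArg πE hw
        simpa [hq, h₁, h₂] using this
      obtain ⟨t, ht₀, ht₁⟩ := relation hreg h0
      have ht : t = 0 := by
        have h3 : iM (t * h κ) = 0 := by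
          rw [← smul_eq_mul, map_smul, hK, smul_sub, smul_smul, smul_smul, ← hw, ht₀, ht₁, neg_smul, ← sub_eq_add_neg,
            mul_comm t g, mul_comm t f]
        exact hv.mul_left_eq_zero.1 (hi (h3.trans (map_zero iM).symm))
      funext i
      fin_cases i <;> simp [ht₀, ht₁, ht]
    · obtain ⟨a, b, hab⟩ := Ideal.mem_span_pair.1 (hrange e)
      obtain ⟨t, ht⟩ := hker (e - (a • q p₁ + b • q p₂)) (by simp [hq, h₁, h₂, hab])
      obtain ⟨w, hw⟩ := hv
      have hs : iM t = (t * ↑w⁻¹) • (g • q p₁ - f • q p₂) := by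
        rw [← hK, ← map_smul, smul_eq_mul, mul_assoc, ← hw, Units.inv_mul, mul_one]
      refine ⟨![a + t * ↑w⁻¹ * g, b - t * ↑w⁻¹ * f], ?_⟩
      rw [hψ, eq_add_of_sub_eq' ht.symm, hs, smul_sub, smul_smul, smul_smul]
      simp only [Matrix.cons_val_zero, Matrix.cons_val_one, add_smul, sub_smul]
      abel
  exact ⟨(Pi.basisFun R (Fin 2)).map (LinearEquiv.ofBijective ψ hbij)⟩

/-- The pairing with a saturated line recovers a generator. -/
theorem isUnit_pairing (b : Module.Basis (Fin 2) R Ev) {m : Ev} (hm : ∀ t : R, t • m = 0 → t = 0)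
    (c : Ev →ₗ[R] R) (hc : ∀ e, c e = 0 → ∃ t : R, t • m = e) {τ : R}
    (hB : ∀ e, b.repr m 0 * b.repr e 1 - b.repr m 1 * b.repr e 0 = τ * c e) : IsUnit τ := by
  have h0 : -b.repr m 1 = τ * c (b 0) := by simpa using hB (b 0)
  have h1 : b.repr m 0 = τ * c (b 1) := by simpa using hB (b 1)
  let w := c (b 1) • b 0 - c (b 0) • b 1
  obtain ⟨d, hd⟩ := hc w (by simp [w]; ring)
  have hmw : τ • w = m := b.repr.injective (Finsupp.ext fun i => by
    fin_cases i
    · simp [w, h1]
    · simp [w]; linear_combination h0)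
  refine IsUnit.of_mul_eq_one d (sub_eq_zero.1 (hm _ ?_))
  rw [sub_smul, one_smul, mul_smul, hd, hmw, sub_self]

end Groth.Agent.EulerPn5.SerreAlg
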