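import Groth.Agent.EulerPn5.DetExt
import Groth.Agent.EulerPn5.IdealTwist
import Groth.Agent.FundLocal.Main
import Groth.Agent.SerreDual.ExtShProj
import Groth.Agent.Lef23.NegPn
import Groth.Agent.CurveRR24.Sky
import Groth.Agent.MorProj.OmegaAffine
import Groth.Agent.OmegaLib.LocFree
import Groth.Agent.CycLib28.PB.Ops.TensorFree
import Groth.Agent.ExtPowEx28.Basic
import Groth.Agent.Coherent.CohBC.HomUnit

/-!
# The Serre correspondence in codimension two
-/

set_option autoImplicit false
set_option linter.style.haveILetI false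
set_option linter.unusedSectionVars false
set_option backward.isDefEq.respectTransparency.types false
set_option maxHeartbeats 4000000

universe u

open CategoryTheory CategoryTheory.Limits AlgebraicGeometry Opposite TopologicalSpace
open Groth.Agent Groth.Agent.Coherent Groth.Agent.Coherent.Existence Groth.Agent.PicLib Groth.Agent.AmpleLib
open Groth.Agent.EulerLib Groth.Agent.SerreDual Groth.Agent.CAlgH3

namespace Groth.Agent.EulerPn5.SerreCorr

variable {P Y : Scheme.{u}} (i : Y ⟶ P) [IsClosedImmersion i]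

/-- The inclusion of the ideal sheaf. -/
noncomputable abbrev jI : ClSub.idealMod i.ker ⟶ Coh.structureModule P := ClSub.idealModι i.ker

theorem mem_range_jI (W : P.Opens) (f : Γ(P, W)) : (∃ a, (jI i).app W a = f) ↔ i.app W f = 0 := by
  refine (AmpleLib.mem_range_idealModι i.ker W f).trans ?_
  have h2 : ∀ φ : Y ⟶ P, φ = i → (φ.app W f = 0 ↔ i.app W f = 0) := by rintro φ rfl; rfl
  refine Iff.trans ?_ (h2 _ i.toImage_imageι)
  haveI : IsIso i.toImage := inferInstance
  have h1 : Function.Injective (i.toImage.app (i.ker.subschemeι ⁻¹ᵁ W)) :=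
    ((ConcreteCategory.isIso_iff_bijective _).1 inferInstance).1
  rw [Scheme.Hom.comp_app]
  show _ ↔ i.toImage.app (i.ker.subschemeι ⁻¹ᵁ W) (i.ker.subschemeι.app W f) = 0
  exact ⟨fun hf => (congrArg _ hf).trans (map_zero _), fun hf => h1 (hf.trans (map_zero _).symm)⟩

theorem jI_unitToPush : jI i ≫ ClSub.unitToPush i = 0 :=
  Scheme.Modules.hom_ext _ _ fun W => ConcreteCategory.hom_ext _ _ fun a =>
    (mem_range_jI i W _).1 ⟨a, rfl⟩

theorem shortExact_idealSeq :
    (ShortComplex.mk (jI i) (ClSub.unitToPush i) (jI_unitToPush i)).ShortExact := by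
  haveI := AmpleLib.mono_idealModι i.ker
  haveI : Epi (ClSub.unitToPush i) := epi_of_locally_surjective _ fun W a y hy => by
    obtain ⟨U, hU, hyU, hUW⟩ := exists_isAffineOpen_mem_and_subset (x := y) (U := W) hy
    obtain ⟨b, hb⟩ := i.app_surjective U hU
      (resM ((Scheme.Modules.pushforward i).obj (Coh.structureModule Y)) (show U ≤ W from hUW) a)
    exact ⟨U, hUW, hyU, b, hb⟩
  let φ := kernel.lift (ClSub.unitToPush i) (jI i) (jI_unitToPush i)
  have hφ : φ ≫ kernel.ι _ = jI i := kernel.lift_ι _ _ _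
  haveI : IsIso φ := by
    rw [Scheme.Modules.Hom.isIso_iff_isIso_app]
    refine fun U => (ConcreteCategory.isIso_iff_bijective _).2 ⟨fun a b h => ?_, fun z => ?_⟩
    · refine app_injective_of_mono (jI i) U ?_
      rw [← hφ]
      exact congrArg ((kernel.ι (ClSub.unitToPush i)).app U) h
    · obtain ⟨a, ha⟩ := (mem_range_jI i U ((kernel.ι (ClSub.unitToPush i)).app U z)).2
        (kernel_ι_app_zero _ U z)
      refine ⟨a, app_injective_of_mono (kernel.ι (ClSub.unitToPush i)) U ?_⟩
      refine Eq.trans ?_ ha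
      rw [← hφ]
      rfl
  exact
    { exact := ShortComplex.exact_of_f_is_kernel _
        (IsLimit.ofIsoLimit (kernelIsKernel (ClSub.unitToPush i)) (Fork.ext (asIso φ) hφ).symm)
      mono_f := ‹_›
      epi_g := ‹_› }

/-- A regular pair generating the ideal over `V`. -/
def IsPair (V : P.Opens) (f g : Γ(P, V)) : Prop :=
  RingTheory.Sequence.IsWeaklyRegular Γ(P, V) [f, g] ∧ RingHom.ker (i.app V).hom = Ideal.span {f, g}

variable {i}

theorem IsPair.range {V : P.Opens} {f g : Γ(P, V)} (h : IsPair i V f g) :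
    (LinearMap.range (appLin (jI i) V) : Ideal Γ(P, V)) = Ideal.span {f, g} := by
  rw [← h.2]
  ext x
  rw [RingHom.mem_ker]
  exact mem_range_jI i V x

theorem IsPair.basicOpen {V : P.Opens} {f g : Γ(P, V)} (h : IsPair i V f g) (hV : IsAffineOpen V) (r : Γ(P, V)) :
    IsPair i (P.basicOpen r) (res (P.basicOpen_le r) f) (res (P.basicOpen_le r) g) := by
  haveI := hV.isLocalization_basicOpen r
  haveI : Module.Flat Γ(P, V) Γ(P, P.basicOpen r) := IsLocalization.flat _ (Submonoid.powers r)
  refine ⟨h.1.of_flat, ?_⟩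
  have h1 := i.ker.map_ideal_basicOpen ⟨V, hV⟩ r
  rw [Scheme.Hom.ker_apply, Scheme.Hom.ker_apply] at h1
  refine (h1.symm.trans ?_)
  show Ideal.map _ (RingHom.ker (i.app V).hom) = _
  rw [h.2, Ideal.map_span, Set.image_pair]

variable (i) in
theorem exists_pair (hi : RegImm.IsRegularImmersionOfCodim RegImm.Kind.regular 2 i) (x : P) (W : P.Opens)
    (hx : x ∈ W) : ∃ V : P.Opens, IsAffineOpen V ∧ x ∈ V ∧ V ≤ W ∧ ∃ f g, IsPair i V f g := by
  by_cases hxY : x ∈ Set.range i
  · obtain ⟨z, rfl⟩ := hxY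
    obtain ⟨U, hzU, -, rs, hlen, hseq, hker⟩ := hi.2 z
    obtain ⟨f, g, rfl⟩ := List.length_eq_two.1 hlen
    have hp : IsPair i U.1 f g := ⟨hseq.toIsWeaklyRegular, hker.trans (congrArg Ideal.span (by ext a; simp))⟩
    obtain ⟨r, hrW, hzr⟩ := U.2.exists_basicOpen_le (V := W ⊓ U.1) ⟨i z, ⟨hx, hzU⟩⟩ hzU
    exact ⟨_, U.2.basicOpen r, hzr, hrW.trans inf_le_left, _, _, hp.basicOpen U.2 r⟩
  · obtain ⟨V, hV, hxV, hVW⟩ := exists_isAffineOpen_mem_and_subset (x := x)
      (U := W ⊓ ⟨(Set.range i)ᶜ, i.isClosedEmbedding.isClosed_range.isOpen_compl⟩) ⟨hx, hxY⟩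
    refine ⟨V, hV, hxV, fun y hy => (hVW hy).1, 1, 0, ?_, ?_⟩
    · rw [RingTheory.Sequence.isWeaklyRegular_cons_iff, RingTheory.Sequence.isWeaklyRegular_cons_iff]
      refine ⟨IsSMulRegular.one _, ?_, RingTheory.Sequence.IsWeaklyRegular.nil _ _⟩
      haveI : Subsingleton (QuotSMulTop (1 : Γ(P, V)) Γ(P, V)) := by
        refine subsingleton_of_forall_eq 0 fun a => ?_
        obtain ⟨a, rfl⟩ := Submodule.Quotient.mk_surjective _ a
        rw [Submodule.Quotient.mk_eq_zero, Submodule.mem_smul_pointwise_iff_exists]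
        exact ⟨a, trivial, one_smul _ _⟩
      exact fun a b _ => Subsingleton.elim _ _
    · have hbot : i ⁻¹ᵁ V = ⊥ := Opens.ext (Set.eq_empty_of_forall_notMem fun w hw =>
        (hVW hw).2 ⟨w, rfl⟩)
      have : Subsingleton Γ(Y, i ⁻¹ᵁ V) := by
        rw [hbot]
        exact CommRingCat.subsingleton_of_isTerminal Y.sheaf.isTerminalOfEmpty
      rw [Ideal.eq_top_of_isUnit_mem _ (Ideal.subset_span (Set.mem_insert _ _)) isUnit_one]
      exact eq_top_iff.2 fun a _ => RingHom.mem_ker.2 (this.elim _ _)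

variable (i) in
theorem isIso_precomp (hi : RegImm.IsRegularImmersionOfCodim RegImm.Kind.regular 2 i) {W : P.Modules}
    (hW : FlatMod.IsFinLocFree W) : IsIso (precompApp (jI i) W) := by
  haveI : Coh.IsQCoh (ClSub.idealMod i.ker) := MorProj.isQCoh_idealMod i.ker
  haveI : Coh.IsQCoh (Coh.structureModule P) := isQCoh_structureModule
  refine InjMod14.Kosz.isIso_of_affine_nbhds _ fun W₀ x hx => ?_
  obtain ⟨U, r, hxU, ⟨eW⟩⟩ := hW x
  obtain ⟨V, hV, hxV, hle, f, g, hp⟩ := exists_pair i hi x (W₀ ⊓ U) ⟨hx, hxU⟩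
  obtain ⟨b⟩ := Props12.exists_basis_sections eW (hle.trans inf_le_right)
  refine ⟨⟨V, hV⟩, hxV, hle.trans inf_le_left, ?_⟩
  haveI := AmpleLib.mono_idealModι i.ker
  have hj : Function.Injective (appLin (jI i) V) := app_injective_of_mono (jI i) V
  let O := Coh.structureModule P
  have hcomm : ∀ φ : Γ(internalHom O W, V),
      secLinEquiv hV ((precompApp (jI i) W).app V φ) = (secLinEquiv hV φ).comp (appLin (jI i) V) :=
    fun φ => LinearMap.ext fun a => rfl
  constructor
  · intro φ ψ h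
    refine (secLinEquiv hV).injective (LinearMap.ext fun t => ?_)
    have h1 : (secLinEquiv hV φ).comp (appLin (jI i) V) = (secLinEquiv hV ψ).comp (appLin (jI i) V) :=
      (hcomm φ).symm.trans ((congrArg (secLinEquiv hV) h).trans (hcomm ψ))
    obtain ⟨xf, hxf⟩ : f ∈ (LinearMap.range (appLin (jI i) V) : Ideal Γ(P, V)) :=
      hp.range ▸ Ideal.subset_span (Set.mem_insert _ _)
    have h2 : secLinEquiv hV φ (1 : Γ(P, V)) = secLinEquiv hV ψ (1 : Γ(P, V)) := by
      refine sub_eq_zero.1 (SerreAlg.eq_zero_of_smul hp.1 b ?_)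
      have hf : (show Γ(O, V) from f) = f • (show Γ(O, V) from (1 : Γ(P, V))) := (mul_one f).symm
      have hx : secLinEquiv hV φ (show Γ(O, V) from f) = secLinEquiv hV ψ (show Γ(O, V) from f) :=
        (congrArg (secLinEquiv hV φ) hxf).symm.trans
          ((LinearMap.congr_fun h1 xf).trans (congrArg (secLinEquiv hV ψ) hxf))
      rw [smul_sub]
      refine sub_eq_zero.2 ?_
      exact (map_smul (secLinEquiv hV φ) f _).symm.trans ((congrArg (secLinEquiv hV φ) hf.symm).trans
        (hx.trans ((congrArg (secLinEquiv hV ψ) hf).trans (map_smul (secLinEquiv hV ψ) f _))))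
    have ht : t = (show Γ(P, V) from t) • (show Γ(O, V) from (1 : Γ(P, V))) :=
      (mul_one (show Γ(P, V) from t)).symm
    rw [ht, map_smul, map_smul, h2]
  · intro ψ
    obtain ⟨m, hm⟩ := SerreAlg.exists_mul hp.1 b (appLin (jI i) V) hj hp.range (secLinEquiv hV ψ)
    refine ⟨(secLinEquiv hV).symm (LinearMap.toSpanSingleton Γ(P, V) Γ(W, V) m),
      (secLinEquiv hV).injective (LinearMap.ext fun a => ?_)⟩
    rw [hcomm, LinearEquiv.apply_symm_apply]
    exact (hm a).symm

variable (i) in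
theorem exists_extend (hi : RegImm.IsRegularImmersionOfCodim RegImm.Kind.regular 2 i) {W : P.Modules}
    (hW : FlatMod.IsFinLocFree W) (β : ClSub.idealMod i.ker ⟶ W) :
    ∃ γ : Coh.structureModule P ⟶ W, jI i ≫ γ = β := by
  haveI := isIso_precomp i hi hW
  let ξ := ((internalHomFunctor (ClSub.idealMod i.ker)).map β).app ⊤ (idSec _)
  obtain ⟨η, hη⟩ := (ConcreteCategory.bijective_of_isIso ((precompApp (jI i) W).app ⊤)).2 ξ
  refine ⟨homOfSec η, Scheme.Modules.hom_ext _ _ fun U => ConcreteCategory.hom_ext _ _ fun a => ?_⟩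
  refine Eq.trans ?_ (ev_map_idSec β U a)
  exact congrArg (fun z => ev (secHom z) U le_top a) hη

section General

variable {C : Type*} [Category C] [Abelian C]

/-- The extension classified by a map out of the kernel. -/
theorem exists_extension {K Q J M : C} (u : K ⟶ Q) (p : Q ⟶ J) (w : u ≫ p = 0)
    (hS : (ShortComplex.mk u p w).ShortExact) (h : K ⟶ M) :
    ∃ (w' : biprod.lift h (-u) ≫ biprod.desc 0 p = 0),
      let E := cokernel (biprod.lift h (-u))
      let iM : M ⟶ E := biprod.inl ≫ cokernel.π _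
      let πE : E ⟶ J := cokernel.desc _ _ w'
      let q : Q ⟶ E := biprod.inr ≫ cokernel.π _
      ∃ (w'' : iM ≫ πE = 0), (ShortComplex.mk iM πE w'').ShortExact ∧ q ≫ πE = p ∧ u ≫ q = h ≫ iM := by
  have w' : biprod.lift h (-u) ≫ biprod.desc 0 p = 0 := by simp [w]
  refine ⟨w', ?_⟩
  intro E iM πE q
  haveI := hS.mono_f
  haveI := hS.epi_g
  have hq : q ≫ πE = p := by simp [q, πE]
  have w'' : iM ≫ πE = 0 := by simp [iM, πE]
  refine ⟨w'', ?_, hq, ?_⟩
  · haveI : Epi πE := epi_of_epi_fac hq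
    haveI : Mono (biprod.lift h (-u)) := by
      haveI : Mono (biprod.lift h (-u) ≫ biprod.snd) := by
        rw [biprod.lift_snd]; exact Preadditive.mono_of_cancel_zero _ fun g hg => by
          rw [Preadditive.comp_neg, neg_eq_zero] at hg
          exact zero_of_comp_mono u hg
      exact mono_of_mono _ biprod.snd
    haveI : Mono iM := Preadditive.mono_of_cancel_zero _ fun {A} x hx => by
      have hker := Abelian.monoIsKernelOfCokernel (CokernelCofork.ofπ (cokernel.π (biprod.lift h (-u)))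
        (cokernel.condition _)) (cokernelIsCokernel _)
      obtain ⟨y, hy⟩ := KernelFork.IsLimit.lift' hker (x ≫ biprod.inl)
        (by simpa [iM, Category.assoc] using hx)
      have h2 := congrArg (· ≫ biprod.snd) hy
      simp at h2
      have hy0 : y = 0 := zero_of_comp_mono u h2
      have h1 := congrArg (· ≫ biprod.fst) hy
      simp [hy0] at h1
      exact h1.symm
    refine { exact := ?_, mono_f := ‹_›, epi_g := ‹_› }
    refine ShortComplex.exact_of_g_is_cokernel _ (CokernelCofork.IsColimit.ofπ' _ _ fun {Z} z hz => ?_)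
    have hu : u ≫ q ≫ z = 0 := by
      have hc₀ : biprod.lift h (-u) ≫ cokernel.π (biprod.lift h (-u)) ≫ z = 0 := by
        rw [cokernel.condition_assoc, zero_comp]
      have e : biprod.lift h (-u) = h ≫ biprod.inl - u ≫ biprod.inr := by
        apply biprod.hom_ext <;> simp
      have hc := (congrArg (· ≫ cokernel.π (biprod.lift h (-u)) ≫ z) e).symm.trans hc₀
      simp only [Preadditive.sub_comp, Category.assoc] at hc
      have hz' : biprod.inl ≫ cokernel.π (biprod.lift h (-u)) ≫ z = 0 := by simpa [iM] using hz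
      rw [hz', comp_zero, zero_sub, neg_eq_zero] at hc
      simpa [q] using hc
    obtain ⟨t, ht⟩ := CokernelCofork.IsColimit.desc' hS.gIsCokernel (q ≫ z) hu
    refine ⟨t, coequalizer.hom_ext ?_⟩
    refine biprod.hom_ext' _ _ ?_ ?_
    · simpa [iM, πE] using hz.symm
    · simpa [q, πE] using ht
  · have e : biprod.lift h (-u) = h ≫ biprod.inl - u ≫ biprod.inr := by
      apply biprod.hom_ext <;> simp
    have hc := (congrArg (· ≫ cokernel.π (biprod.lift h (-u))) e).symm.trans (cokernel.condition _)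
    simp only [Preadditive.sub_comp, sub_eq_zero, Category.assoc] at hc
    exact hc.symm

end General

/-- A generator of the sheaf `Ext` lifts to a map out of the kernel. -/
theorem exists_global {K Q J M : P.Modules} [Coh.IsQCoh K] [Coh.IsQCoh Q] (u : K ⟶ Q) (p : Q ⟶ J) (w : u ≫ p = 0)
    (hS : (ShortComplex.mk u p w).ShortExact)
    [Coh.IsQCoh (internalHom Q M)] [Coh.IsQCoh (internalHom J M)]
    (e : cokernel (precompApp u M) ≅ (Scheme.Modules.pushforward i).obj (Coh.structureModule Y))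
    (h1 : ModCohSeq.V (internalHom Q M) 1) (h2 : ModCohSeq.V (internalHom J M) 2) :
    ∃ h : K ⟶ M, ∀ (U : P.Opens), IsAffineOpen U → ∀ d : Γ(K, U) →ₗ[Γ(P, U)] Γ(M, U),
      ∃ (r : Γ(P, U)) (ρ : Γ(Q, U) →ₗ[Γ(P, U)] Γ(M, U)), d = r • appLin h U + ρ.comp (appLin u U) := by
  haveI := hS.epi_g
  haveI : Mono (precompApp p M) := mono_precompApp p M
  have hab : precompApp p M ≫ precompApp u M = 0 := by rw [← precompApp_comp, w, precompApp_zero]
  let m := cokernel.desc (precompApp p M) (precompApp u M) hab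
  let θ := cokernel.π (precompApp u M) ≫ e.hom
  haveI : Mono m := (ShortComplex.exact_iff_mono_cokernel_desc _).1 (exact_precomp hS M)
  have hm : cokernel.π (precompApp p M) ≫ m = precompApp u M := cokernel.π_desc _ _ _
  have hθ : m ≫ θ = 0 := (cancel_epi (cokernel.π (precompApp p M))).1 (by
    rw [← Category.assoc, hm, ← Category.assoc, cokernel.condition, zero_comp, comp_zero])
  have h₂ : (ShortComplex.mk m θ hθ).ShortExact := by
    haveI : Epi θ := inferInstance
    refine { exact := ShortComplex.exact_of_g_is_cokernel _ (CokernelCofork.IsColimit.ofπ' _ _ fun {Z} z hz => ?_),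
             mono_f := ‹_›, epi_g := ‹_› }
    exact ⟨e.inv ≫ cokernel.desc (precompApp u M) z (by rw [← hm, Category.assoc, hz, comp_zero]), by
      show θ ≫ _ = z
      simp [θ]⟩
  have h₁ : (ShortComplex.mk (precompApp p M) (cokernel.π (precompApp p M)) (cokernel.condition _)).ShortExact :=
    { exact := ShortComplex.exact_of_g_is_cokernel _ (cokernelIsCokernel _)
      mono_f := ‹_›
      epi_g := inferInstance }
  have hv : ModCohSeq.V (cokernel (precompApp p M)) 1 := ModCohSeq.V_right h₁ h1 h2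
  haveI : Coh.IsQCoh (cokernel (precompApp p M)) := isQCoh_cokernel _
  obtain ⟨s, hs⟩ := ModCohSeq.surjective_top h₂ hv
    (show Γ((Scheme.Modules.pushforward i).obj (Coh.structureModule Y), ⊤) from (1 : Γ(Y, i ⁻¹ᵁ ⊤)))
  refine ⟨homOfSec s, fun U hU d => ?_⟩
  let φ := (secLinEquiv hU).symm d
  obtain ⟨r, hr⟩ := i.app_surjective U hU (show Γ(Y, i ⁻¹ᵁ U) from θ.app U φ)
  let sU := resM (internalHom K M) (le_top : U ≤ ⊤) s
  have hsU : θ.app U sU = (show Γ((Scheme.Modules.pushforward i).obj (Coh.structureModule Y), U) from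
      (1 : Γ(Y, i ⁻¹ᵁ U))) := by
    rw [app_resM, show θ.app ⊤ s = _ from hs]
    exact map_one (Y.presheaf.map _).hom
  have hz : θ.app U (φ - r • sU) = 0 := by
    rw [map_sub, Scheme.Modules.Hom.app_smul, hsU]
    refine sub_eq_zero.2 (hr.symm.trans ?_)
    exact (mul_one _).symm
  obtain ⟨t, ht⟩ := sections_exact h₂ (φ - r • sU) hz
  obtain ⟨ρ, hρ⟩ := app_surjective_of_epi (cokernel.π (precompApp p M)) hU t
  refine ⟨r, secLinEquiv hU ρ, ?_⟩
  have h3 : φ = r • sU + (precompApp u M).app U ρ := by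
    rw [← hm]
    show φ = r • sU + m.app U ((cokernel.π (precompApp p M)).app U ρ)
    rw [hρ]
    exact eq_add_of_sub_eq' ht.symm
  have h4 := congrArg (secLinEquiv hU) h3
  rw [LinearEquiv.apply_symm_apply, map_add, map_smul] at h4
  refine h4.trans (congrArg₂ (· + ·) (congrArg (r • ·) (LinearMap.ext fun a => ?_)) (LinearMap.ext fun a => rfl))
  show ev (secHom (resM (internalHom K M) (le_top : U ≤ ⊤) s)) U le_rfl a = ev (secHom s) U le_top a
  exact resM_internalHom le_top s U le_rfl a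

/-- The coordinate in a generator. -/
noncomputable def coefEquiv {L : P.Modules} {V D : P.Opens} {m : Γ(L, V)} (hm : IsGen L V m) (h : D ≤ V) :
    Γ(L, D) ≃ₗ[Γ(P, D)] Γ(P, D) where
  toFun := hm.coef h
  map_add' := hm.coef_add h
  map_smul' := hm.coef_smul h
  invFun r := r • resM L h m
  left_inv x := hm.coef_spec h x
  right_inv r := hm.coef_eq h rfl

theorem nonempty_hom_invertible {A B A' C : P.Modules} (hA : PicF.IsInvertible A)
    (t : CohB1.tensorMod A' A ≅ Coh.structureModule P) (t' : CohB1.tensorMod A' B ≅ C) :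
    Nonempty (internalHom A B ≅ C) := by
  haveI := isIso_eval hA B
  exact ⟨(unitTensorIso (internalHom A B)).symm ≪≫ AmpleLib.tensorIso t.symm (Iso.refl (internalHom A B)) ≪≫
    DCat.TensorAssoc.assocIso A' A (internalHom A B) ≪≫
    AmpleLib.tensorIso (Iso.refl A') (@asIso _ _ _ _ _ (isIso_eval hA B)) ≪≫ t'⟩

variable (i) in
/-- Maps out of `L ⊗ (J ⊗ T)` extend to `L ⊗ (O ⊗ T)`. -/
theorem exists_extend_tensor (hi : RegImm.IsRegularImmersionOfCodim RegImm.Kind.regular 2 i) {L T D : P.Modules}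
    (hL : PicF.IsInvertible L) (hT : PicF.IsInvertible T) (hD : PicF.IsInvertible D)
    (α : CohB1.tensorMod L (CohB1.tensorMod (ClSub.idealMod i.ker) T) ⟶ D) :
    ∃ σ : CohB1.tensorMod L (CohB1.tensorMod (Coh.structureModule P) T) ⟶ D,
      (tensE L).map (tensorMap (jI i) (𝟙 T)) ≫ σ = α := by
  let adj := ((tensorHomAdj T).ofNatIsoLeft (twistTensIso T).symm).comp (tensorHomAdj L)
  obtain ⟨γ, hγ⟩ := exists_extend i hi
    (CohBC.isFinLocFree_internalHom (SerreDual.isFinLocFree_of_invertible hT)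
      (CohBC.isFinLocFree_internalHom (SerreDual.isFinLocFree_of_invertible hL)
        (SerreDual.isFinLocFree_of_invertible hD)))
    (adj.homEquiv (ClSub.idealMod i.ker) D α)
  refine ⟨(adj.homEquiv (Coh.structureModule P) D).symm γ, ?_⟩
  exact (adj.homEquiv_naturality_left_symm (jI i) γ).symm.trans
    ((congrArg _ hγ).trans (Equiv.symm_apply_apply _ _))

variable (i) in
/-- The extension by a generator of the sheaf `Ext` is a bundle of rank two. -/
theorem isFinLocFreeOfRank_extension (hi : RegImm.IsRegularImmersionOfCodim RegImm.Kind.regular 2 i)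
    {K Q M E : P.Modules} [Coh.IsQCoh K] [Coh.IsQCoh Q] [Coh.IsQCoh E] (hQ : FlatMod.IsFinLocFree Q)
    (hM : PicF.IsInvertible M) (u : K ⟶ Q) (p : Q ⟶ ClSub.idealMod i.ker) (w : u ≫ p = 0)
    (hS : (ShortComplex.mk u p w).ShortExact) (h : K ⟶ M)
    (hgen : ∀ (U : P.Opens), IsAffineOpen U → ∀ d : Γ(K, U) →ₗ[Γ(P, U)] Γ(M, U),
      ∃ (r : Γ(P, U)) (ρ : Γ(Q, U) →ₗ[Γ(P, U)] Γ(M, U)), d = r • appLin h U + ρ.comp (appLin u U))
    (iM : M ⟶ E) (πE : E ⟶ ClSub.idealMod i.ker) (w' : iM ≫ πE = 0)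
    (hE : (ShortComplex.mk iM πE w').ShortExact) (q : Q ⟶ E) (hq : q ≫ πE = p) (hqu : u ≫ q = h ≫ iM) :
    FlatMod.IsFinLocFreeOfRank 2 E := by
  haveI := hS.epi_g
  haveI := hE.epi_g
  haveI : Coh.IsQCoh (ClSub.idealMod i.ker) := MorProj.isQCoh_idealMod i.ker
  haveI := AmpleLib.mono_idealModι i.ker
  haveI := AmpleLib.isQCoh_of_isInvertible hM
  intro y
  obtain ⟨U₁, hyU₁, m₀, hm₀⟩ := exists_isGen hM y
  obtain ⟨U₂, N, hyU₂, ⟨eQ⟩⟩ := hQ y
  by_cases hyY : y ∈ Set.range i
  · obtain ⟨V, hV, hyV, hle, f, g, hp⟩ := exists_pair i hi y (U₁ ⊓ U₂) ⟨hyU₁, hyU₂⟩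
    have hm := hm₀.restrict (hle.trans inf_le_left)
    obtain ⟨bQ⟩ := Props12.exists_basis_sections eQ (hle.trans inf_le_right)
    haveI : Module.Projective Γ(P, V) Γ(Q, V) := Module.Projective.of_basis bQ
    let π : Γ(Q, V) →ₗ[Γ(P, V)] Γ(P, V) := (appLin (jI i) V).comp (appLin p V)
    have hsurj : Function.Surjective (appLin p V) := app_surjective_of_epi p hV
    have hπ : LinearMap.range π = Ideal.span {f, g} := by
      show LinearMap.range ((appLin (jI i) V).comp (appLin p V)) = _
      rw [LinearMap.range_comp, LinearMap.range_eq_top.2 hsurj, Submodule.map_top]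
      exact hp.range
    obtain ⟨p₁, hp₁⟩ : f ∈ LinearMap.range π := hπ.symm ▸ Ideal.subset_span (Set.mem_insert _ _)
    obtain ⟨p₂, hp₂⟩ : g ∈ LinearMap.range π := hπ.symm ▸ Ideal.subset_span (Set.mem_insert_of_mem _ rfl)
    obtain ⟨κ, hκ⟩ := sections_exact hS (U := V) (g • p₁ - f • p₂) (by
      refine app_injective_of_mono (jI i) V ?_
      show π (g • p₁ - f • p₂) = (jI i).app V 0
      rw [map_sub, map_smul, map_smul, hp₁, hp₂, map_zero, smul_eq_mul, smul_eq_mul, mul_comm, sub_self]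
      rfl)
    let eM := coefEquiv hm le_rfl
    obtain ⟨a, ha⟩ := SerreAlg.one_mem π (appLin u V) (eM.toLinearMap.comp (appLin h V)) hp.1 hπ
      (fun x => by
        have := congrArg (fun z => (jI i).app V (z.app V x)) w
        exact this.trans (map_zero _))
      (fun d => by
        obtain ⟨r, ρ, hd⟩ := hgen V hV (eM.symm.toLinearMap.comp d)
        refine ⟨r, eM.toLinearMap.comp ρ, ?_⟩
        have := congrArg (fun t => eM.toLinearMap.comp t) hd
        simpa [LinearMap.comp_add, LinearMap.comp_smul, ← LinearMap.comp_assoc] using this)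
      hp₁ hp₂ hκ
    let c : Γ(P, V) := hm.coef le_rfl (h.app V κ)
    have hyc : y ∈ P.basicOpen c := by
      obtain ⟨b₁, b₂, hb⟩ := Ideal.mem_span_pair.1 ha
      have hnot : ∀ {r : Γ(P, V)}, r ∈ Ideal.span {f, g} → P.presheaf.germ V y hyV r ∈
          IsLocalRing.maximalIdeal (P.presheaf.stalk y) := fun {r} hr => by
        obtain ⟨z, rfl⟩ := hyY
        rw [← hp.2, RingHom.mem_ker] at hr
        rw [IsLocalRing.mem_maximalIdeal, mem_nonunits_iff, ← Scheme.mem_basicOpen P r (i z) hyV]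
        intro hmem
        have h' : z ∈ i ⁻¹ᵁ P.basicOpen r := hmem
        rw [Scheme.preimage_basicOpen, hr, Scheme.basicOpen_zero] at h'
        exact h'
      rw [Scheme.mem_basicOpen P c y hyV]
      by_contra hc
      refine (IsLocalRing.maximalIdeal.isMaximal (P.presheaf.stalk y)).ne_top ((Ideal.eq_top_iff_one _).2 ?_)
      have h1 := Ideal.sub_mem _ (Ideal.mul_mem_left _ (P.presheaf.germ V y hyV a)
        ((IsLocalRing.mem_maximalIdeal _).2 hc)) (hnot ha)
      rw [← map_mul, ← map_sub] at h1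
      change P.presheaf.germ V y hyV (a * c - (a * c - 1)) ∈ _ at h1
      rw [sub_sub_cancel, map_one] at h1
      exact h1
    let hD := P.basicOpen_le c
    have hpD := hp.basicOpen hV c
    let D := P.basicOpen c
    let πD : Γ(Q, D) →ₗ[Γ(P, D)] Γ(P, D) := (appLin (jI i) D).comp (appLin p D)
    let hh : Γ(K, D) →ₗ[Γ(P, D)] Γ(P, D) := (coefEquiv hm hD).toLinearMap.comp (appLin h D)
    let iD : Γ(P, D) →ₗ[Γ(P, D)] Γ(E, D) := (appLin iM D).comp (coefEquiv hm hD).symm.toLinearMap
    have hres : ∀ z : Γ(Q, V), πD (resM Q hD z) = res hD (π z) := fun z => by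
      show (jI i).app D (p.app D (resM Q hD z)) = _
      rw [app_resM, app_resM]
      rfl
    obtain ⟨b⟩ := SerreAlg.exists_basis πD (appLin u D) hh iD (appLin q D) ((appLin (jI i) D).comp (appLin πE D))
      hpD.1
      ((sections_injective hE D).comp (coefEquiv hm hD).symm.injective)
      (fun e he => by
        obtain ⟨t, ht⟩ := sections_exact hE (U := D) e
          (app_injective_of_mono (jI i) D ((show (jI i).app D (πE.app D e) = 0 from he).trans (map_zero _).symm))
        exact ⟨coefEquiv hm hD t, (congrArg (iM.app D) ((coefEquiv hm hD).symm_apply_apply t)).trans ht⟩)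
      (fun t => by
        show (jI i).app D (πE.app D (iM.app D ((coefEquiv hm hD).symm t))) = 0
        rw [show πE.app D (iM.app D ((coefEquiv hm hD).symm t)) = (iM ≫ πE).app D ((coefEquiv hm hD).symm t) from rfl,
          w']
        exact map_zero _)
      (fun x => by
        show (jI i).app D (πE.app D (q.app D x)) = (jI i).app D (p.app D x)
        rw [← hq]
        rfl)
      (fun e => hpD.range ▸ LinearMap.mem_range_self (appLin (jI i) D) (πE.app D e))
      (fun x => by
        show q.app D (u.app D x) = iM.app D ((coefEquiv hm hD).symm (coefEquiv hm hD (h.app D x)))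
        rw [LinearEquiv.symm_apply_apply]
        exact congrArg (fun z => z.app D x) hqu)
      (p₁ := resM Q hD p₁) (p₂ := resM Q hD p₂) ((hres p₁).trans (congrArg _ hp₁))
      ((hres p₂).trans (congrArg _ hp₂)) (κ := resM K hD κ)
      (by
        show u.app D (resM K hD κ) = _
        rw [app_resM, hκ, map_sub, resM_smul, resM_smul])
      (by
        show IsUnit (hm.coef hD (h.app D (resM K hD κ)))
        rw [app_resM, hm.coef_res le_rfl hD]
        exact RingedSpace.isUnit_res_basicOpen _ c)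
    exact ⟨D, hyc, OmegaLib.exists_iso_freeMod_affine E (hV.basicOpen c) b⟩
  · obtain ⟨V, hV, hyV, hle⟩ := exists_isAffineOpen_mem_and_subset (x := y)
      (U := U₁ ⊓ ⟨(Set.range i)ᶜ, i.isClosedEmbedding.isClosed_range.isOpen_compl⟩) ⟨hyU₁, hyY⟩
    have hm := hm₀.restrict (fun z hz => (hle hz).1 : V ≤ U₁)
    have hbot : i ⁻¹ᵁ V = ⊥ := Opens.ext (Set.eq_empty_of_forall_notMem fun z hz => (hle hz).2 ⟨z, rfl⟩)
    obtain ⟨a₁, ha₁⟩ := (mem_range_jI i V 1).2 (by
      have : Subsingleton Γ(Y, i ⁻¹ᵁ V) := by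
        rw [hbot]
        exact CommRingCat.subsingleton_of_isTerminal Y.sheaf.isTerminalOfEmpty
      exact this.elim _ _)
    obtain ⟨e₁, he₁⟩ := app_surjective_of_epi πE hV a₁
    let πV : Γ(E, V) →ₗ[Γ(P, V)] Γ(P, V) := (appLin (jI i) V).comp (appLin πE V)
    have hπ₁ : πV e₁ = 1 := (congrArg ((jI i).app V) he₁).trans ha₁
    let iV : Γ(P, V) →ₗ[Γ(P, V)] Γ(E, V) := (appLin iM V).comp (coefEquiv hm le_rfl).symm.toLinearMap
    have hiV : ∀ t, πV (iV t) = 0 := fun t => by
      show (jI i).app V ((iM ≫ πE).app V _) = 0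
      rw [w']
      exact map_zero _
    let ψ : (Fin 2 → Γ(P, V)) →ₗ[Γ(P, V)] Γ(E, V) := Fintype.linearCombination Γ(P, V) ![iV 1, e₁]
    have hψ : ∀ v, ψ v = iV (v 0) + v 1 • e₁ := fun v => by
      simp [ψ, Fintype.linearCombination_apply, Fin.sum_univ_two, ← map_smul]
    have hbij : Function.Bijective ψ := by
      refine ⟨(injective_iff_map_eq_zero _).2 fun v hv => ?_, fun e => ?_⟩
      · rw [hψ] at hv
        have h1 : v 1 = 0 := by
          have := congrArg πV hv
          simpa [hiV, hπ₁] using this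
        rw [h1, zero_smul, add_zero] at hv
        have h0 : v 0 = 0 := ((sections_injective hE V).comp (coefEquiv hm le_rfl).symm.injective)
          (hv.trans (map_zero iV).symm)
        funext a
        fin_cases a <;> simp [h0, h1]
      · obtain ⟨t, ht⟩ := sections_exact hE (U := V) (e - πV e • e₁) (app_injective_of_mono (jI i) V (by
          show πV (e - πV e • e₁) = (jI i).app V 0
          rw [map_sub, map_smul, hπ₁, map_zero, smul_eq_mul, mul_one, sub_self]
          rfl))
        refine ⟨![coefEquiv hm le_rfl t, πV e], ?_⟩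
        rw [hψ]
        show iM.app V ((coefEquiv hm le_rfl).symm (coefEquiv hm le_rfl t)) + πV e • e₁ = e
        rw [LinearEquiv.symm_apply_apply, show iM.app V t = _ from ht]
        exact sub_add_cancel _ _
    exact ⟨V, hyV, OmegaLib.exists_iso_freeMod_affine E hV
      ((Pi.basisFun Γ(P, V) (Fin 2)).map (LinearEquiv.ofBijective ψ hbij))⟩

section Proj

variable {k : Type u} [Field k] {n : ℕ}

local notation "O[" d "]" => Twist.twistProjSpace n k d

theorem exists_twist_cover {F : (CohB1.ProjSpace n k).Modules} (hF : Coh.IsCoh F) :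
    ∃ (r : ℕ) (a : ℤ) (p : (∐ fun _ : Fin r => O[a]) ⟶ F), Epi p := by
  haveI : IsProper ((CohB1.ProjSpace n k) ↘ Spec (CommRingCat.of k)) := isProper_projSpace_toSpec n k
  haveI := isNoetherian_of_proper (k := k) (X := CohB1.ProjSpace n k)
  haveI := hasFiniteBiproducts (CohB1.ProjSpace n k)
  haveI := hF.1
  obtain ⟨N₀, hN₀⟩ := (projPowCover n k).exists_epi hF
  obtain ⟨r, p, hp⟩ := hN₀ N₀ le_rfl _ (twistGens n k N₀)
  exact ⟨r, _, (biproduct.isoCoproduct _).inv ≫ p, epi_comp _ _⟩

theorem nonempty_hom_twist (a b : ℤ) : Nonempty (internalHom O[a] O[b] ≅ O[b - a]) := by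
  obtain ⟨t⟩ := nonempty_tt (n := n) (A := k) (show -a + a = 0 by ring)
  obtain ⟨z⟩ := nonempty_twist0 (n := n) (A := k)
  obtain ⟨t'⟩ := nonempty_tt (n := n) (A := k) (show -a + b = b - a by ring)
  exact nonempty_hom_invertible (Coherent.isInvertible_twistProjSpaceZ n a k) (t ≪≫ z) t'

theorem serre_correspondence (hn : 3 ≤ n) {Y : Scheme.{u}} (i : Y ⟶ CohB1.ProjSpace n k) [IsClosedImmersion i]
    (hlci : RegImm.IsRegularImmersionOfCodim RegImm.Kind.regular 2 i) (c : ℤ) {L : Y.Modules}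
    (hL : ExtPow.IsExtPow 2 (Omega.conormal i) L)
    (eL : L ≅ (Scheme.Modules.pullback i).obj O[-c]) :
    ∃ S : ShortComplex (CohB1.ProjSpace n k).Modules, S.ShortExact ∧ FlatMod.IsFinLocFreeOfRank 2 S.X₂ ∧
      Nonempty (S.X₁ ≅ Coh.structureModule (CohB1.ProjSpace n k)) ∧
      Nonempty (S.X₃ ≅ CohB1.tensorMod (ClSub.idealMod i.ker) O[c]) ∧
      ∃ D : (CohB1.ProjSpace n k).Modules, ExtPow.IsExtPow 2 S.X₂ D ∧ Nonempty (D ≅ O[c]) := by
  classical
  haveI : IsLocallyNoetherian (CohB1.ProjSpace n k) :=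
    LocallyOfFiniteType.isLocallyNoetherian (CohB1.ProjSpace.toSpec n k)
  let J := ClSub.idealMod i.ker
  let O := Coh.structureModule (CohB1.ProjSpace n k)
  let M := O[-c]
  have hMi := Coherent.isInvertible_twistProjSpaceZ n (-c) k
  have hTi := Coherent.isInvertible_twistProjSpaceZ n c k
  have hMf := SerreDual.isFinLocFree_of_invertible hMi
  haveI : Coh.IsQCoh M := AmpleLib.isQCoh_of_isInvertible hMi
  obtain ⟨r, a, p, hp⟩ := exists_twist_cover (CurveRR24.isCoh_idealMod' i.ker)
  let Q := ∐ fun _ : Fin r => O[a]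
  have hQ : FlatMod.IsFinLocFree Q :=
    DCat.PerfTensor.isFinLocFree_sigma _ fun _ => SerreDual.isFinLocFree_of_invertible
      (Coherent.isInvertible_twistProjSpaceZ n a k)
  haveI : Coh.IsQCoh Q := (CohBC.isCoh_of_isFinLocFree hQ).1
  haveI : Coh.IsQCoh J := MorProj.isQCoh_idealMod i.ker
  haveI : Coh.IsQCoh (kernel p) := isQCoh_kernel p
  have hS : (ShortComplex.mk (kernel.ι p) p (kernel.condition p)).ShortExact :=
    { exact := ShortComplex.exact_of_f_is_kernel _ (kernelIsKernel p), mono_f := inferInstance, epi_g := hp }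
  haveI hjM := isIso_precomp i hlci hMf
  haveI := isIso_eval (isInvertible_structureModule (X := CohB1.ProjSpace n k)) M
  let eJ : internalHom J M ≅ M :=
    (@asIso _ _ _ _ _ hjM).symm ≪≫ (unitTensorIso _).symm ≪≫ asIso (evalBilin O M).desc
  haveI : Coh.IsQCoh (internalHom J M) := isQCoh_of_iso eJ.symm
  haveI : Coh.IsQCoh (internalHom Q M) := CohBC.isQCoh_internalHom hQ hMf
  have h2 : ModCohSeq.V (internalHom J M) 2 :=
    ModCohSeq.V_of_iso eJ.symm (V_twist (by omega) (by omega))
  have h1 : ModCohSeq.V (internalHom Q M) 1 := by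
    refine Lef23.subsingleton_HH_of_total (fun _ : Fin r => internalHom O[a] M)
      (fun l => precompApp (Sigma.ι (fun _ : Fin r => O[a]) l) M)
      (fun l => precompApp (Sigma.π (fun _ : Fin r => O[a]) l) M) ?_ 1 fun l => ?_
    · simp only [← precompApp_comp]
      rw [← precompApp_sum, ← precompApp_id Q M]
      refine congrArg (precompApp · M) (Sigma.hom_ext _ _ fun l => ?_)
      rw [Preadditive.comp_sum, Category.comp_id, Finset.sum_eq_single l
        (fun j _ hj => by rw [Sigma.ι_π_of_ne_assoc _ hj.symm, zero_comp])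
        (fun h => absurd (Finset.mem_univ l) h), Sigma.ι_π_eq_id_assoc]
    · obtain ⟨eH⟩ := nonempty_hom_twist (n := n) (k := k) a (-c)
      exact ModCohSeq.V_of_iso eH.symm (V_twist (by omega) (by omega))
  haveI := SerreDual.hasInjectiveResolutions_modules (CohB1.ProjSpace n k)
  let I := injectiveResolution M
  obtain ⟨f1⟩ := nonempty_homology_one_iso hS hQ I
  have hA := shortExact_homCxShort (shortExact_idealSeq i) I
  have hO := CohBC.isFinLocFree_structureModule (CohB1.ProjSpace n k)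
  let f2 := hA.δIso 1 2 rfl (isZero_homology_homCx_of_locFree hO I 0) (isZero_homology_homCx_of_locFree hO I 1)
  obtain ⟨f3⟩ := FundLocal.nonempty_homology_iso i I hlci hL
  haveI := CohBC.isIso_scalar (PicLoc.isInvertible_pullback i hMi)
  let L' := (Scheme.Modules.pullback i).obj M
  haveI : IsIso (precompApp eL.hom L') :=
    ⟨⟨precompApp eL.inv L', by rw [← precompApp_comp, Iso.inv_hom_id, precompApp_id],
      by rw [← precompApp_comp, Iso.hom_inv_id, precompApp_id]⟩⟩
  let f4 : internalHom L L' ≅ Coh.structureModule Y :=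
    (asIso (precompApp eL.hom L')).symm ≪≫ (asIso (curry (CohBC.scalarBilin L'))).symm
  let e := f1.symm ≪≫ f2 ≪≫ f3 ≪≫ (Scheme.Modules.pushforward i).mapIso f4
  obtain ⟨h, hh⟩ := exists_global (i := i) (kernel.ι p) p (kernel.condition p) hS e h1 h2
  obtain ⟨w', w'', hE, hq, hqu⟩ := exists_extension (kernel.ι p) p (kernel.condition p) hS h
  haveI := isQCoh_biprod M Q
  haveI : Coh.IsQCoh (cokernel (biprod.lift h (-kernel.ι p))) := isQCoh_cokernel _
  have hrk := isFinLocFreeOfRank_extension i hlci hQ hMi (kernel.ι p) p (kernel.condition p) hS h hh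
    _ _ w'' hE _ hq hqu
  let T := O[c]
  let S' := twistSeq (ShortComplex.mk _ _ w'') T
  have hS' : S'.ShortExact := twistSeq_shortExact hTi hE
  have hrk' : FlatMod.IsFinLocFreeOfRank 2 S'.X₂ :=
    CycLib28.PB.Ops.isFinLocFreeOfRank_tensor hrk (PicLib.isFinLocFreeOfRank_one hTi)
  obtain ⟨t⟩ := nonempty_tt (n := n) (A := k) (show -c + c = 0 by ring)
  obtain ⟨z⟩ := nonempty_twist0 (n := n) (A := k)
  let e₁ : S'.X₁ ≅ O := t ≪≫ z
  obtain ⟨D, -, hD⟩ := ExtPowEx28.exists_isExtPow (VarietyLib.isFinLocFree_of_rank hrk') 2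
  refine ⟨S', hS', hrk', ⟨e₁⟩, ⟨Iso.refl _⟩, D, hD, ?_⟩
  have h₁ : PicF.IsInvertible S'.X₁ := isInvertible_tensorMod hMi hTi
  have hDi := Canon15.isInvertible_of_isExtPow hrk' hD
  haveI := AmpleLib.mono_idealModι i.ker
  let N := CohB1.tensorMod O T
  let j' : S'.X₃ ⟶ N := tensorMap (jI i) (𝟙 T)
  haveI : Mono j' := EulerLib.mono_tensorMap hTi (jI i)
  obtain ⟨ed⟩ := nonempty_det_extension hS' h₁ hrk' (isInvertible_tensorMod isInvertible_structureModule hTi) j' hD
    (exists_extend_tensor i hlci h₁ hTi hDi)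
  exact ⟨ed.symm ≪≫ AmpleLib.tensorIso e₁ (unitTensorIso T) ≪≫ unitTensorIso T⟩

end Proj

end Groth.Agent.EulerPn5.SerreCorr
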