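import Groth.Agent.EulerPn5.Dim
import Groth.Agent.SerreDual.ExtLocFree
import Groth.Agent.DQCoh.Local
import Groth.Agent.DCat.ModulesGrothendieck

/-!
# The sheaf of differentials of projective space is simple
-/

set_option autoImplicit false
set_option linter.style.haveILetI false
set_option linter.unusedSectionVars false
set_option backward.isDefEq.respectTransparency.types false
set_option maxHeartbeats 1000000

universe u

open CategoryTheory CategoryTheory.Limits CategoryTheory.Abelian AlgebraicGeometry TopologicalSpace Opposite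
open Groth.Agent.Coherent Groth.Agent.EulerLib Groth.Agent.CAlgH3 Groth.Agent.PicLib Groth.Agent.AmpleLib

namespace Groth.Agent.EulerPn5

theorem mpow_hom_eq_zero {X : Scheme.{u}} {N M : X.Modules} (h : ∀ f : N ⟶ M, f = 0) :
    ∀ (m : ℕ) (f : mpow N m ⟶ M), f = 0
  | 0, f => (isZero_zero X.Modules).eq_of_src _ _
  | m + 1, f => biprod.hom_ext' _ _ ((mpow_hom_eq_zero h m _).trans comp_zero.symm) ((h _).trans comp_zero.symm)

variable {k : Type u} [Field k] (n : ℕ)

local notation "O[" d "]" => Twist.twistProjSpace n k d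
local notation "Ω₀" => Omega.sheaf (CohB1.ProjSpace.toSpec n k)

theorem hom_twist_omega_eq_zero (hn : 0 < n) (f : O[(-1 : ℤ)] ⟶ Ω₀) : f = 0 := by
  haveI : IsProper ((CohB1.ProjSpace n k) ↘ Spec (CommRingCat.of k)) := Coherent.isProper_projSpace_toSpec n k
  let M := CohB1.tensorMod Ω₀ O[(1 : ℤ)]
  have hMf : FlatMod.IsFinLocFree M := ExtFilt28.isFinLocFree_tensor isFinLocFree_omega (isFinLocFree_twist 1)
  haveI : Subsingleton (Coh.HH (CohB1.ProjSpace n k) M 0) := by
    haveI := finCoh_of_isProper ((CohB1.ProjSpace n k) ↘ Spec (CommRingCat.of k)) M (CohBC.isCoh_of_isFinLocFree hMf) 0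
    haveI := Module.Finite.equiv (HHBaseEquiv k M 0).symm
    exact Module.finrank_zero_iff (R := k).1 (finrank_zero (n := n) 1 1 hn one_pos (KvbLam28.isExtPow_one _))
  obtain ⟨a⟩ := nonempty_tt (n := n) (A := k) (show (-1 : ℤ) + 1 = 0 by norm_num)
  obtain ⟨b⟩ := nonempty_twist0 (n := n) (A := k)
  apply SerreDual.tensorRightHom_injective k _ _ (Coherent.isInvertible_twistProjSpaceZ n 1 k)
  apply ((Linear.homCongr k (a ≪≫ b) (Iso.refl M)).trans (SerreDual.homUnitHH k M)).injective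
  exact Subsingleton.elim _ _

theorem exists_eq_smul (φ : Ω₀ ⟶ Ω₀) : ∃ c : k,
    (SheafOfModules.toSheaf (CohB1.ProjSpace n k).ringCatSheaf).map φ =
      Coh.smulAb Ω₀ (Coh.toGlobal (CohB1.ProjSpace.toSpec n k) c) := by
  haveI : IsProper ((CohB1.ProjSpace n k) ↘ Spec (CommRingCat.of k)) := Coherent.isProper_projSpace_toSpec n k
  haveI : IsGrothendieckAbelian.{u} (CohB1.ProjSpace n k).Modules := DCat.schemeModules_isGrothendieckAbelian _
  haveI : HasExt.{u} (CohB1.ProjSpace n k).Modules := IsGrothendieckAbelian.hasExt _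
  suffices h : ∃ c : k, φ = c • 𝟙 Ω₀ by
    obtain ⟨c, rfl⟩ := h
    refine ⟨c, ?_⟩
    rw [KLin.smul_def, Category.comp_id]
    rfl
  rcases Nat.eq_zero_or_pos n with rfl | hn
  · have hz := isZero_of_isExtPow (rank_omega (n := 0) (A := k)) (KvbLam28.isExtPow_one _) one_pos
    exact ⟨0, hz.eq_of_src _ _⟩
  obtain ⟨f, g, w, hE⟩ := exists_euler_seq n k
  let j := DQCoh.topStructIso (CohB1.ProjSpace n k)
  have hS : (ShortComplex.mk f (g ≫ j.inv) (by rw [reassoc_of% w, zero_comp])).ShortExact :=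
    ShortComplex.shortExact_of_iso (ShortComplex.isoMk (S₁ := ShortComplex.mk f g w)
      (S₂ := ShortComplex.mk f (g ≫ j.inv) (by rw [reassoc_of% w, zero_comp])) (Iso.refl _) (Iso.refl _) j.symm
      (by simp) (by simp)) hE
  let T : (Ω₀ ⟶ Ω₀) →ₗ[k] Ext ((freeModOn (CohB1.ProjSpace n k)).obj ⊤) Ω₀ 1 :=
    { toFun := fun ψ => hS.extClass.comp (Ext.mk₀ ψ) rfl
      map_add' := fun a b => by rw [Ext.mk₀_add, Ext.comp_add]
      map_smul' := fun c a => by rw [Ext.mk₀_smul, Ext.comp_smul]; rfl }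
  have hT : Function.Injective T := (injective_iff_map_eq_zero _).2 fun ψ hψ => by
    obtain ⟨x, hx⟩ := Ext.contravariant_sequence_exact₁ hS Ω₀ (Ext.mk₀ ψ) rfl hψ
    obtain ⟨x, rfl⟩ := (Ext.mk₀_bijective _ _).2 x
    rw [Ext.mk₀_comp_mk₀] at hx
    have hψ2 : f ≫ x = ψ := (Ext.mk₀_bijective _ _).1 hx
    exact hψ2.symm.trans ((congrArg (f ≫ ·) (mpow_hom_eq_zero (fun y => hom_twist_omega_eq_zero n hn y) (n + 1) x)).trans comp_zero)
  obtain ⟨t⟩ := nonempty_tensor_twist0 Ω₀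
  obtain ⟨h1⟩ := nonempty_HH_diag 1 hn (KvbLam28.isExtPow_one Ω₀)
  let E : Ext ((freeModOn (CohB1.ProjSpace n k)).obj ⊤) Ω₀ 1 ≃ₗ[k] k :=
    (SerreDual.extHHLin k Ω₀ 1).trans ((hhEquiv k t 1).symm.trans h1)
  have key : ∀ T' : (Ω₀ ⟶ Ω₀) →ₗ[k] k, Function.Injective T' → ∃ c : k, φ = c • 𝟙 Ω₀ := by
    intro T' hT'
    by_cases h0 : T' (𝟙 _) = 0
    · refine ⟨0, ?_⟩
      have hid : 𝟙 Ω₀ = 0 := hT' (h0.trans (map_zero T').symm)
      exact ((Category.comp_id φ).symm.trans ((congrArg (φ ≫ ·) hid).trans comp_zero)).trans (zero_smul k _).symm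
    · exact ⟨T' φ / T' (𝟙 _), hT' (by rw [map_smul, smul_eq_mul, div_mul_cancel₀ _ h0])⟩
  exact key (E.toLinearMap ∘ₗ T) (E.injective.comp hT)

end Groth.Agent.EulerPn5
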