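import Groth.Agent.EulerPn5.Simple
import Groth.Agent.SerreDual.ProjDualAll
import Groth.Agent.SerreDual.TwistEquiv

/-!
# Null-correlation bundles are simple
-/

set_option autoImplicit false
set_option linter.style.haveILetI false
set_option linter.unusedSectionVars false
set_option backward.isDefEq.respectTransparency.types false
set_option maxHeartbeats 1000000

universe u

open CategoryTheory CategoryTheory.Limits CategoryTheory.Abelian AlgebraicGeometry TopologicalSpace Opposite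
open Groth.Agent.Coherent Groth.Agent.EulerLib Groth.Agent.CAlgH3 Groth.Agent.PicLib Groth.Agent.AmpleLib

namespace Groth.Agent.EulerPn5

variable {k : Type u} [Field k] (n : ℕ)

local notation "O[" d "]" => Twist.twistProjSpace n k d
local notation "Ω₀" => Omega.sheaf (CohB1.ProjSpace.toSpec n k)

theorem endo_twist_scalar {F : (CohB1.ProjSpace n k).Modules} {N : (CohB1.ProjSpace n k).Modules}
    (hN : PicF.IsInvertible N) (e : CohB1.tensorMod F N ≅ Ω₀) (ψ : F ⟶ F) : ∃ c : k, ψ = c • 𝟙 F := by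
  let Λ := (Linear.homCongr k e e).toLinearMap ∘ₗ SerreDual.tensorRightHom k F F N
  have hΛ : Function.Injective Λ :=
    (Linear.homCongr k e e).injective.comp (SerreDual.tensorRightHom_injective k F F hN)
  obtain ⟨c, hc⟩ : ∃ c : k, Λ ψ = c • 𝟙 Ω₀ := by
    obtain ⟨c, hc⟩ := exists_eq_smul n (Λ ψ)
    refine ⟨c, (SheafOfModules.toSheaf (CohB1.ProjSpace n k).ringCatSheaf).map_injective (hc.trans ?_)⟩
    rw [KLin.smul_def, Category.comp_id]
    rfl
  have hid : Λ (𝟙 F) = 𝟙 Ω₀ := by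
    show e.inv ≫ AmpleLib.tensorMap (𝟙 F) (𝟙 N) ≫ e.hom = 𝟙 _
    have h : AmpleLib.tensorMap (𝟙 F) (𝟙 N) = 𝟙 _ := AmpleLib.hom_ext fun U a b => by
      rw [AmpleLib.tensorMap_tmul]; rfl
    rw [h]
    simp
  exact ⟨c, hΛ (by rw [map_smul, hid, hc])⟩

theorem not_isZero_twist {n : ℕ} {d : ℤ} : ¬ IsZero (Twist.twistProjSpace n k d) := fun hz => by
  obtain ⟨a⟩ := nonempty_tt (n := n) (A := k) (show d + -d = 0 by ring)
  haveI : Subsingleton (Coh.HH (CohB1.ProjSpace n k) (Twist.twistProjSpace n k ((0 : ℕ) : ℤ)) 0) := V_of_isZero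
    ((((((DCoh.tensorBi (X := CohB1.ProjSpace n k)).obj (Twist.twistProjSpace n k (-d))).map_isZero hz)).of_iso (AmpleLib.tensorComm _ _)).of_iso a.symm) 0
  obtain ⟨h⟩ := Coherent.nonempty_HH_zero_twist n k 0
  have : Subsingleton (MvPolynomial.homogeneousSubmodule (Fin (n + 1)) k 0) := h.symm.injective.subsingleton
  have h1 : (⟨1, MvPolynomial.isHomogeneous_one _ _⟩ : MvPolynomial.homogeneousSubmodule (Fin (n + 1)) k 0) = 0 :=
    Subsingleton.elim _ _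
  exact one_ne_zero (congrArg Subtype.val h1)

/-- Endomorphisms of `O(-1)` are scalars. -/
theorem end_twist_scalar : ∀ g : O[(-1 : ℤ)] ⟶ O[(-1 : ℤ)], ∃ d : k, g = d • 𝟙 _ := by
  obtain ⟨a⟩ := nonempty_tt (n := n) (A := k) (show (-1 : ℤ) + 1 = 0 by norm_num)
  obtain ⟨b⟩ := nonempty_twist0 (n := n) (A := k)
  obtain ⟨h⟩ := Coherent.nonempty_HH_zero_twist n k 0
  let e : (O[(-1 : ℤ)] ⟶ O[(-1 : ℤ)]) →ₗ[k] Coh.HH (CohB1.ProjSpace n k) O[((0 : ℕ) : ℤ)] 0 :=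
    ((Linear.homCongr k (a ≪≫ b) (Iso.refl _)).trans ((SerreDual.homUnitHH k _).trans (hhEquiv k a 0))).toLinearMap ∘ₗ
      SerreDual.tensorRightHom k O[(-1 : ℤ)] O[(-1 : ℤ)] O[(1 : ℤ)]
  have he : Function.Injective e :=
    ((Linear.homCongr k (a ≪≫ b) (Iso.refl _)).trans ((SerreDual.homUnitHH k _).trans (hhEquiv k a 0))).injective.comp
      (SerreDual.tensorRightHom_injective k _ _ (Coherent.isInvertible_twistProjSpaceZ n 1 k))
  haveI : Module.Finite k (Coh.HH (CohB1.ProjSpace n k) O[((0 : ℕ) : ℤ)] 0) := by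
    haveI : IsProper ((CohB1.ProjSpace n k) ↘ Spec (CommRingCat.of k)) := Coherent.isProper_projSpace_toSpec n k
    haveI := finCoh_of_isProper ((CohB1.ProjSpace n k) ↘ Spec (CommRingCat.of k)) O[((0 : ℕ) : ℤ)]
      (CohBC.isCoh_of_isFinLocFree (isFinLocFree_twist _)) 0
    exact Module.Finite.equiv (HHBaseEquiv k O[((0 : ℕ) : ℤ)] 0).symm
  haveI : Module.Finite k (O[(-1 : ℤ)] ⟶ O[(-1 : ℤ)]) := Module.Finite.of_injective e he
  have h1 : Module.finrank k (O[(-1 : ℤ)] ⟶ O[(-1 : ℤ)]) ≤ 1 := by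
    refine (LinearMap.finrank_le_finrank_of_injective he).trans ?_
    rw [h.finrank_eq, CommAlg4.finrank_homogeneous_fin]
    simp
  have hne : (𝟙 O[(-1 : ℤ)]) ≠ 0 := fun h => not_isZero_twist ((IsZero.iff_id_eq_zero _).2 h)
  intro g
  obtain ⟨v, hv⟩ := finrank_le_one_iff.1 h1
  obtain ⟨x, hx⟩ := hv (𝟙 _)
  obtain ⟨y, hy⟩ := hv g
  have hx0 : x ≠ 0 := fun h => hne (by rw [← hx, h, zero_smul])
  exact ⟨y / x, by rw [← hx, smul_smul, div_mul_cancel₀ _ hx0, hy]⟩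

theorem endo_twist_one {n : ℕ} (g : Twist.twistProjSpace n k (-1) ⟶ Twist.twistProjSpace n k (-1)) :
    ∃ d : k, g = d • 𝟙 _ := end_twist_scalar n g

theorem subsingleton_ext_one (hn : 2 ≤ n) {F : (CohB1.ProjSpace n k).Modules} {d : ℤ} (hd : d < 0)
    (e : F ≅ CohB1.tensorMod Ω₀ O[d]) [HasExt.{u} (CohB1.ProjSpace n k).Modules] :
    Subsingleton (Ext F O[-((n : ℤ) + 1)] 1) := by
  haveI : IsProper ((CohB1.ProjSpace n k) ↘ Spec (CommRingCat.of k)) := Coherent.isProper_projSpace_toSpec n k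
  have hFf : FlatMod.IsFinLocFree F :=
    ExtFilt28.isFinLocFree_congr e.symm (ExtFilt28.isFinLocFree_tensor isFinLocFree_omega (isFinLocFree_twist d))
  obtain ⟨f⟩ := (SerreDual.projSpace_duality n k F (CohBC.isCoh_of_isFinLocFree hFf) 1).1 (n - 1) (by omega)
  haveI : Subsingleton (Coh.HH (CohB1.ProjSpace n k) F (n - 1)) :=
    ModCohSeq.V_of_iso e.symm (V_neg hd 1 (KvbLam28.isExtPow_one _) (n - 1) (by omega))
  haveI : Subsingleton (Module.Dual k (Coh.HH (CohB1.ProjSpace n k) F (n - 1))) :=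
    ⟨fun a b => LinearMap.ext fun x => by rw [Subsingleton.elim x 0, map_zero, map_zero]⟩
  exact f.toEquiv.subsingleton

/-- Maps to the cokernel are scalar multiples of the projection. -/
theorem hom_to_cokernel (hn : 2 ≤ n) (u : O[(-1 : ℤ)] ⟶ CohB1.tensorMod Ω₀ O[(1 : ℤ)]) [Mono u]
    (z : CohB1.tensorMod Ω₀ O[(1 : ℤ)] ⟶ cokernel u) : ∃ c : k, z = c • cokernel.π u := by
  haveI : IsGrothendieckAbelian.{u} (CohB1.ProjSpace n k).Modules := DCat.schemeModules_isGrothendieckAbelian _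
  haveI : HasExt.{u} (CohB1.ProjSpace n k).Modules := IsGrothendieckAbelian.hasExt _
  let S : ShortComplex (CohB1.ProjSpace n k).Modules := ShortComplex.mk u (cokernel.π u) (cokernel.condition u)
  have hS : S.ShortExact :=
    { exact := ShortComplex.exact_of_g_is_cokernel _ (cokernelIsCokernel u)
      mono_f := inferInstanceAs (Mono u)
      epi_g := inferInstanceAs (Epi (cokernel.π u)) }
  have hTf := isFinLocFree_twist (n := n) (A := k) (-(n : ℤ))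
  haveI := CAlgH3.LocFreeFactor.isQCoh_of_finLocFree hTf
  obtain ⟨U, hU, e₁, e₂, e₃⟩ := VarietyLib.exists_tensorSeq hS O[-(n : ℤ)] fun x => by
    haveI := Props12.free_stalk_of_isFinLocFree O[-(n : ℤ)] hTf x
    infer_instance
  obtain ⟨a₁⟩ := nonempty_tt (n := n) (A := k) (show (-1 : ℤ) + -(n : ℤ) = -((n : ℤ) + 1) by ring)
  obtain ⟨a₂⟩ := nonempty_tt (n := n) (A := k) (show (1 : ℤ) + -(n : ℤ) = 1 - (n : ℤ) by ring)
  obtain ⟨a₃⟩ := nonempty_tt (n := n) (A := k) (show 1 - (n : ℤ) + ((n : ℤ) - 1) = 0 by ring)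
  obtain ⟨t⟩ := nonempty_tensor_twist0 Ω₀
  let E := CohB1.tensorMod Ω₀ O[(1 : ℤ)]
  let eE : CohB1.tensorMod E O[-(n : ℤ)] ≅ CohB1.tensorMod Ω₀ O[1 - (n : ℤ)] :=
    DCat.TensorAssoc.assocIso Ω₀ O[(1 : ℤ)] O[-(n : ℤ)] ≪≫ AmpleLib.tensorIso (Iso.refl _) a₂
  let eEnd : CohB1.tensorMod (CohB1.tensorMod E O[-(n : ℤ)]) O[(n : ℤ) - 1] ≅ Ω₀ :=
    AmpleLib.tensorIso eE (Iso.refl _) ≪≫ DCat.TensorAssoc.assocIso Ω₀ O[1 - (n : ℤ)] O[(n : ℤ) - 1] ≪≫
      AmpleLib.tensorIso (Iso.refl _) a₃ ≪≫ t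
  haveI hE1 : Subsingleton (Ext (CohB1.tensorMod E O[-(n : ℤ)]) U.X₁ 1) := by
    haveI := subsingleton_ext_one n hn (show 1 - (n : ℤ) < 0 by omega) eE
    let i : U.X₁ ≅ O[-((n : ℤ) + 1)] := eqToIso e₁ ≪≫ a₁
    refine subsingleton_of_forall_eq 0 fun x => ?_
    have h : x.comp (Ext.mk₀ i.hom) (add_zero 1) = 0 := Subsingleton.elim _ _
    have h2 := congrArg (fun y => Ext.comp y (Ext.mk₀ i.inv) (add_zero 1)) h
    simpa [Ext.comp_assoc_of_second_deg_zero] using h2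
  let j₂ : U.X₂ ≅ CohB1.tensorMod E O[-(n : ℤ)] := eqToIso e₂
  let j₃ : U.X₃ ≅ CohB1.tensorMod (cokernel u) O[-(n : ℤ)] := eqToIso e₃
  let T := SerreDual.tensorRightHom k E (cokernel u) O[-(n : ℤ)]
  have lift : ∀ z : CohB1.tensorMod E O[-(n : ℤ)] ⟶ CohB1.tensorMod (cokernel u) O[-(n : ℤ)],
      ∃ c : k, z = c • (j₂.inv ≫ U.g ≫ j₃.hom) := fun z => by
    obtain ⟨y, hy⟩ := Ext.covariant_sequence_exact₃ _ hU (Ext.mk₀ (z ≫ j₃.inv)) rfl (Subsingleton.elim _ _)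
    obtain ⟨y, rfl⟩ := (Ext.mk₀_bijective _ _).2 y
    rw [Ext.mk₀_comp_mk₀] at hy
    have hy' : y ≫ U.g = z ≫ j₃.inv := (Ext.mk₀_bijective _ _).1 hy
    obtain ⟨c, hc⟩ := endo_twist_scalar n (Coherent.isInvertible_twistProjSpaceZ n ((n : ℤ) - 1) k) eEnd (y ≫ j₂.hom)
    refine ⟨c, ?_⟩
    calc z = (y ≫ U.g) ≫ j₃.hom := by rw [hy', Category.assoc, Iso.inv_hom_id, Category.comp_id]
      _ = (y ≫ j₂.hom) ≫ (j₂.inv ≫ U.g ≫ j₃.hom) := by simp
      _ = c • (j₂.inv ≫ U.g ≫ j₃.hom) := by rw [hc, Linear.smul_comp, Category.id_comp]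
  obtain ⟨c₁, hc₁⟩ := lift (T z)
  obtain ⟨c₀, hc₀⟩ := lift (T (cokernel.π u))
  have hTi : Function.Injective T := SerreDual.tensorRightHom_injective k E (cokernel u) (Coherent.isInvertible_twistProjSpaceZ n (-(n : ℤ)) k)
  by_cases h0 : c₀ = 0
  · have hπ : cokernel.π u = 0 := hTi (by rw [hc₀, h0, zero_smul, map_zero])
    have hid : 𝟙 (cokernel u) = 0 := by rw [← cancel_epi (cokernel.π u), hπ, zero_comp, zero_comp]
    exact ⟨0, by rw [zero_smul, ← Category.comp_id z, hid, comp_zero]⟩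
  · exact ⟨c₁ / c₀, hTi (by rw [hc₁, map_smul, hc₀, smul_smul, div_mul_cancel₀ _ h0])⟩

theorem cokernel_simple (u : O[(-1 : ℤ)] ⟶ CohB1.tensorMod Ω₀ O[(1 : ℤ)])
    [Mono u] (hM : FlatMod.IsFinLocFreeOfRank (n - 1) (cokernel u)) (φ : cokernel u ⟶ cokernel u) :
    ∃ c : k, φ = c • 𝟙 _ := by
  rcases lt_or_ge n 2 with hn | hn
  · have hz : IsZero (cokernel u) := isZero_of_isExtPow hM (KvbLam28.isExtPow_one _) (by omega)
    exact ⟨0, hz.eq_of_src _ _⟩
  obtain ⟨c, hc⟩ := hom_to_cokernel n hn u (cokernel.π u ≫ φ)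
  refine ⟨c, ?_⟩
  rw [← cancel_epi (cokernel.π u), hc, Linear.comp_smul, Category.comp_id]

theorem nonempty_iso_cokernel_iff (hn : 2 ≤ n) (a a' : O[(-1 : ℤ)] ⟶ CohB1.tensorMod Ω₀ O[(1 : ℤ)]) [Mono a] [Mono a']
    (hne : ¬ IsZero (cokernel a)) :
    Nonempty (cokernel a ≅ cokernel a') ↔ ∃ c : k, c ≠ 0 ∧ a' = c • a := by
  constructor
  · rintro ⟨θ⟩
    obtain ⟨c, hc⟩ := hom_to_cokernel n hn a' (cokernel.π a ≫ θ.hom)
    have hc0 : c ≠ 0 := fun h => hne ((IsZero.iff_id_eq_zero _).2 (by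
      rw [← cancel_epi (cokernel.π a), comp_zero, Category.comp_id]
      rw [h, zero_smul] at hc
      rw [← cancel_mono θ.hom, hc, zero_comp]))
    have h2 : a ≫ cokernel.π a' = 0 := by
      have h3 : a ≫ (c • cokernel.π a') = 0 := by rw [← hc, cokernel.condition_assoc, zero_comp]
      rw [Linear.comp_smul] at h3
      exact (smul_eq_zero.1 h3).resolve_left hc0
    haveI : Mono a' := inferInstance
    let g := Abelian.monoLift a' a h2
    have hg : g ≫ a' = a := Abelian.monoLift_comp a' a h2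
    obtain ⟨d, hd⟩ := endo_twist_one g
    have hd0 : d ≠ 0 := fun h => hne (by
      have ha : a = 0 := by rw [← hg, hd, h, zero_smul, zero_comp]
      have hz : IsZero O[(-1 : ℤ)] := (IsZero.iff_id_eq_zero _).2 (by rw [← cancel_mono a, zero_comp, ha, comp_zero])
      exact absurd hz not_isZero_twist)
    refine ⟨d⁻¹, inv_ne_zero hd0, ?_⟩
    rw [← hg, hd, Linear.smul_comp, Category.id_comp, smul_smul, inv_mul_cancel₀ hd0, one_smul]
  · rintro ⟨c, hc, rfl⟩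
    refine ⟨cokernel.mapIso a (c • a) ⟨c⁻¹ • 𝟙 _, c • 𝟙 _, ?_, ?_⟩ (Iso.refl _) ?_⟩ <;>
      simp [smul_smul, inv_mul_cancel₀ hc, mul_inv_cancel₀ hc]

end Groth.Agent.EulerPn5
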