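import Groth.Agent.EulerPn5.ThreeForms
import Groth.Agent.CycLib28.PB.Ops.DualSeq
import Groth.Agent.SerreDual.ExtShStalk
import Groth.Agent.SerreDual.ExtShDivisor
import Groth.Agent.SerreDual.ExtLocFree
import Groth.Agent.PicPn22.Main
import Groth.Agent.DCat.ModulesGrothendieck

/-!
# A bundle of rank two attached to a complete intersection splits
-/

set_option autoImplicit false
set_option linter.style.haveILetI false
set_option linter.unusedSectionVars false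
set_option backward.isDefEq.respectTransparency.types false
set_option maxHeartbeats 1000000

universe u

open CategoryTheory CategoryTheory.Limits CategoryTheory.Abelian AlgebraicGeometry TopologicalSpace Opposite
open Groth.Agent.Coherent Groth.Agent.EulerLib Groth.Agent.CAlgH3 Groth.Agent.PicLib Groth.Agent.AmpleLib

namespace Groth.Agent.EulerPn5

/-- If the first component of a kernel is an isomorphism, the second summand maps onto the cokernel. -/
theorem nonempty_iso_of_component {C : Type*} [Category C] [Abelian C] {S : ShortComplex C} (hS : S.ShortExact)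
    {X Y : C} (e : S.X₂ ≅ X ⊞ Y) [IsIso (S.f ≫ e.hom ≫ biprod.fst)] : Nonempty (Y ≅ S.X₃) := by
  let h := S.f ≫ e.hom ≫ biprod.fst
  let F : Y ⟶ S.X₃ := biprod.inr ≫ e.inv ≫ S.g
  haveI := hS.epi_g
  haveI : Mono F := Preadditive.mono_of_cancel_zero _ fun {T} y hy => by
    haveI := hS.mono_f
    have hy' : (y ≫ biprod.inr ≫ e.inv) ≫ S.g = 0 := by simpa [F] using hy
    have hl : hS.exact.lift _ hy' = 0 := by
      rw [← cancel_mono h, zero_comp]
      show hS.exact.lift _ hy' ≫ S.f ≫ e.hom ≫ biprod.fst = 0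
      rw [hS.exact.lift_f_assoc]
      simp
    have h2 : y ≫ biprod.inr ≫ e.inv = 0 := by rw [← hS.exact.lift_f _ hy', hl, zero_comp]
    have h3 := h2 =≫ (e.hom ≫ biprod.snd)
    simpa using h3
  haveI : Epi F := Preadditive.epi_of_cancel_zero _ fun {T} y hy => by
    have hr : biprod.inr ≫ e.inv ≫ S.g ≫ y = 0 := by simpa [F] using hy
    have hl : biprod.inl ≫ e.inv ≫ S.g ≫ y = 0 := by
      rw [← cancel_epi h, comp_zero]
      have h4 : S.f ≫ e.hom ≫ (biprod.fst ≫ biprod.inl + biprod.snd ≫ biprod.inr) ≫ e.inv ≫ S.g ≫ y = 0 := by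
        rw [biprod.total, Category.id_comp, e.hom_inv_id_assoc, S.zero_assoc, zero_comp]
      rw [Preadditive.add_comp, Preadditive.comp_add, Preadditive.comp_add] at h4
      simp only [Category.assoc, hr, comp_zero, add_zero] at h4
      simpa [h] using h4
    rw [← cancel_epi S.g, comp_zero, ← cancel_epi e.inv, comp_zero]
    exact biprod.hom_ext' _ _ (by rw [comp_zero]; exact hl) (by rw [comp_zero]; exact hr)
  haveI := isIso_of_mono_of_epi F
  exact ⟨asIso F⟩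

/-- Postcomposing a sum with a map killed by each summand. -/
theorem tensorMap_biprod_eq_zero {k : Type u} [Field k] {X : Scheme.{u}} [X.Over (Spec (CommRingCat.of k))]
    {A B R T : X.Modules} (N : X.Modules) (G : A ⊞ B ⟶ R) (y : CohB1.tensorMod R N ⟶ T)
    (hl : tensorMap (biprod.inl ≫ G) (𝟙 N) ≫ y = 0) (hr : tensorMap (biprod.inr ≫ G) (𝟙 N) ≫ y = 0) :
    tensorMap G (𝟙 N) ≫ y = 0 := by
  have h : G = biprod.fst ≫ biprod.inl ≫ G + biprod.snd ≫ biprod.inr ≫ G := by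
    rw [← Category.assoc, ← Category.assoc, ← Preadditive.add_comp, biprod.total, Category.id_comp]
  have hadd : tensorMap G (𝟙 N) =
      tensorMap (biprod.fst ≫ biprod.inl ≫ G) (𝟙 N) + tensorMap (biprod.snd ≫ biprod.inr ≫ G) (𝟙 N) :=
    (congrArg (fun z => tensorMap z (𝟙 N)) h).trans (map_add (SerreDual.tensorRightHom k _ R N) _ _)
  rw [hadd, Preadditive.add_comp, CohBC.tensorMap_comp_id, CohBC.tensorMap_comp_id (biprod.snd : A ⊞ B ⟶ B),
    Category.assoc, Category.assoc, hl, hr, comp_zero, comp_zero, add_zero]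

/-- The dual of the sum of two summands. -/
theorem precompApp_biprod_eq {X : Scheme.{u}} {K A B : X.Modules} (f : K ⟶ A ⊞ B) (N : X.Modules) :
    SerreDual.precompApp f N = SerreDual.precompApp (biprod.inl : A ⟶ A ⊞ B) N ≫ SerreDual.precompApp (f ≫ biprod.fst) N +
      SerreDual.precompApp (biprod.inr : B ⟶ A ⊞ B) N ≫ SerreDual.precompApp (f ≫ biprod.snd) N := by
  rw [← SerreDual.precompApp_comp, ← SerreDual.precompApp_comp, ← SerreDual.precompApp_add,
    Category.assoc, Category.assoc, ← Preadditive.comp_add, biprod.total, Category.comp_id]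

/-- A composite with the twisted dual of a map into a sum vanishes when both components do. -/
theorem tensor_dual_eq_zero {k : Type u} [Field k] {X : Scheme.{u}} [X.Over (Spec (CommRingCat.of k))]
    {K A B W I T N : X.Modules} (f : K ⟶ A ⊞ B) (i : internalHom K I ⟶ W) (y : CohB1.tensorMod W N ⟶ T)
    (ha : tensorMap (SerreDual.precompApp (f ≫ biprod.fst) I ≫ i) (𝟙 N) ≫ y = 0)
    (hb : tensorMap (SerreDual.precompApp (f ≫ biprod.snd) I ≫ i) (𝟙 N) ≫ y = 0) :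
    tensorMap (SerreDual.precompApp f I ≫ i) (𝟙 N) ≫ y = 0 := by
  let u := SerreDual.precompApp (biprod.inl : A ⟶ A ⊞ B) I
  let v := SerreDual.precompApp (biprod.inr : B ⟶ A ⊞ B) I
  let p := SerreDual.precompApp (f ≫ biprod.fst) I ≫ i
  let q := SerreDual.precompApp (f ≫ biprod.snd) I ≫ i
  have h : SerreDual.precompApp f I ≫ i = u ≫ p + v ≫ q := by
    rw [precompApp_biprod_eq f, Preadditive.add_comp, Category.assoc, Category.assoc]
  have hadd : tensorMap (SerreDual.precompApp f I ≫ i) (𝟙 N) = tensorMap (u ≫ p) (𝟙 N) + tensorMap (v ≫ q) (𝟙 N) :=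
    (congrArg (fun z => tensorMap z (𝟙 N)) h).trans (map_add (SerreDual.tensorRightHom k _ W N) _ _)
  rw [hadd, Preadditive.add_comp, CohBC.tensorMap_comp_id, CohBC.tensorMap_comp_id v,
    Category.assoc, Category.assoc, ha, hb, comp_zero, comp_zero, add_zero]

variable {n : ℕ} {k : Type u} [Field k]

local notation "O[" d "]" => Twist.twistProjSpace n k d
local notation "𝒪" => Coh.structureModule (CohB1.ProjSpace n k)

theorem nonempty_dual_twist (d : ℤ) : Nonempty (internalHom O[d] 𝒪 ≅ O[-d]) := by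
  obtain ⟨t⟩ := nonempty_tt (n := n) (A := k) (show -d + d = 0 by ring)
  obtain ⟨b⟩ := nonempty_twist0 (n := n) (A := k)
  exact SerreDual.nonempty_dual_iso_inverse (Coherent.isInvertible_twistProjSpaceZ n d k) (t ≪≫ b)

/-- Lifting maps from twists to an extension by `O`. -/
theorem exists_lift_twist (hn : 2 ≤ n) {S : ShortComplex (CohB1.ProjSpace n k).Modules} (hS : S.ShortExact)
    (e₁ : S.X₁ ≅ 𝒪) {x : ℤ} (f : O[x] ⟶ S.X₃) : ∃ φ : O[x] ⟶ S.X₂, φ ≫ S.g = f := by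
  haveI : IsGrothendieckAbelian.{u} (CohB1.ProjSpace n k).Modules := DCat.schemeModules_isGrothendieckAbelian _
  haveI : HasExt.{u} (CohB1.ProjSpace n k).Modules := IsGrothendieckAbelian.hasExt _
  haveI : IsProper ((CohB1.ProjSpace n k) ↘ Spec (CommRingCat.of k)) := Coherent.isProper_projSpace_toSpec n k
  haveI := EulerLib.isNoetherian_of_proper k (X := CohB1.ProjSpace n k)
  obtain ⟨d⟩ := nonempty_dual_twist (n := n) (k := k) x
  haveI : Subsingleton (Coh.HH (CohB1.ProjSpace n k) (internalHom O[x] S.X₁) 1) :=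
    ModCohSeq.V_of_iso ((internalHomFunctor O[x]).mapIso e₁ ≪≫ d).symm (V_twist (by omega) (by omega))
  haveI : Subsingleton (Ext O[x] S.X₁ 1) :=
    (SerreDual.extLocFreeEquiv k (isFinLocFree_twist x) S.X₁ 1).toEquiv.subsingleton
  obtain ⟨z, hz⟩ := Ext.covariant_sequence_exact₃ O[x] hS (Ext.mk₀ f) (zero_add 1) (Subsingleton.elim _ _)
  obtain ⟨φ, rfl⟩ := (Ext.mk₀_bijective _ _).2 z
  rw [Ext.mk₀_comp_mk₀] at hz
  exact ⟨φ, (Ext.mk₀_bijective _ _).1 hz⟩

/-- A component between twists, as a form of positive degree. -/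
theorem exists_form (hn : 0 < n) {l m : ℤ} (h : O[l] ⟶ O[m]) (hh : ¬ IsIso h)
    (i : internalHom O[l] 𝒪 ≅ O[-l]) (t : CohB1.tensorMod O[-l] O[l] ≅ 𝒪) :
    ∃ (x : ℤ) (_ : x < 0) (w : CohB1.tensorMod (internalHom O[m] 𝒪) O[l] ⟶ O[x]) (g : O[x] ⟶ 𝒪),
      tensorMap (SerreDual.precompApp h 𝒪 ≫ i.hom) (𝟙 O[l]) ≫ t.hom = w ≫ g := by
  by_cases h0 : h = 0
  · refine ⟨-1, by omega, 0, 0, ?_⟩
    subst h0
    rw [SerreDual.precompApp_zero, zero_comp, zero_comp]
    exact (congrArg (· ≫ t.hom) (map_zero (SerreDual.tensorRightHom k (internalHom O[m] 𝒪) O[-l] O[l]))).trans zero_comp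
  · have hlt : l < m := by
      rcases lt_trichotomy l m with h1 | rfl | h1
      · exact h1
      · exact absurd (isIso_endo_twist h h0) hh
      · exact absurd (hom_twist_eq_zero hn h1 h) h0
    obtain ⟨d⟩ := nonempty_dual_twist (n := n) (k := k) m
    obtain ⟨s⟩ := nonempty_tt (n := n) (A := k) (show -m + l = l - m by ring)
    let W : CohB1.tensorMod (internalHom O[m] 𝒪) O[l] ≅ O[l - m] := AmpleLib.tensorIso d (Iso.refl _) ≪≫ s
    exact ⟨l - m, by omega, W.hom, W.inv ≫ tensorMap (SerreDual.precompApp h 𝒪 ≫ i.hom) (𝟙 O[l]) ≫ t.hom,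
      (W.hom_inv_id_assoc _).symm⟩

/-- One component of a rank one kernel in three twists is an isomorphism. -/
theorem exists_isIso_component (hn : 3 ≤ n) {m₁ m₂ m₃ l : ℤ} {E : (CohB1.ProjSpace n k).Modules}
    (f : O[l] ⟶ (O[m₁] ⊞ O[m₂]) ⊞ O[m₃]) (g : (O[m₁] ⊞ O[m₂]) ⊞ O[m₃] ⟶ E) (w : f ≫ g = 0)
    (hS : (ShortComplex.mk f g w).ShortExact) (hE : FlatMod.IsFinLocFreeOfRank 2 E) :
    IsIso ((f ≫ biprod.fst) ≫ biprod.fst) ∨ IsIso ((f ≫ biprod.fst) ≫ biprod.snd) ∨ IsIso (f ≫ biprod.snd) := by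
  by_contra hc
  push_neg at hc
  obtain ⟨hc₁, hc₂, hc₃⟩ := hc
  obtain ⟨i⟩ := nonempty_dual_twist (n := n) (k := k) l
  obtain ⟨t₀⟩ := nonempty_tt (n := n) (A := k) (show -l + l = 0 by ring)
  obtain ⟨b⟩ := nonempty_twist0 (n := n) (A := k)
  let t := t₀ ≪≫ b
  obtain ⟨x₁, hx₁, w₁, g₁, e₁⟩ := exists_form (by omega) ((f ≫ biprod.fst) ≫ biprod.fst) hc₁ i t
  obtain ⟨x₂, hx₂, w₂, g₂, e₂⟩ := exists_form (by omega) ((f ≫ biprod.fst) ≫ biprod.snd) hc₂ i t
  obtain ⟨x₃, hx₃, w₃, g₃, e₃⟩ := exists_form (by omega) (f ≫ biprod.snd) hc₃ i t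
  haveI : Epi (SerreDual.precompApp f 𝒪) := (CycLib28.PB.Ops.shortExact_dual hS (rank_twist l) hE).epi_g
  haveI := EulerLib.epi_tensorMap (Coherent.isInvertible_twistProjSpaceZ n l k) (SerreDual.precompApp f 𝒪 ≫ i.hom)
  haveI : Epi (biprod.desc (biprod.desc g₁ g₂) g₃) := Preadditive.epi_of_cancel_zero _ fun {T} y hy => by
    have hy₁ : g₁ ≫ y = 0 := by simpa using biprod.inl ≫= (biprod.inl ≫= hy)
    have hy₂ : g₂ ≫ y = 0 := by simpa using biprod.inr ≫= (biprod.inl ≫= hy)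
    have hy₃ : g₃ ≫ y = 0 := by simpa using biprod.inr ≫= hy
    rw [← cancel_epi t.hom, comp_zero, ← cancel_epi (tensorMap (SerreDual.precompApp f 𝒪 ≫ i.hom) (𝟙 O[l])), comp_zero]
    refine tensor_dual_eq_zero (k := k) f i.hom (t.hom ≫ y)
      (tensor_dual_eq_zero (k := k) (f ≫ biprod.fst) i.hom (t.hom ≫ y) ?_ ?_) ?_
    · exact (Category.assoc _ _ _).symm.trans ((congrArg (· ≫ y) e₁).trans ((Category.assoc _ _ _).trans ((congrArg (w₁ ≫ ·) hy₁).trans comp_zero)))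
    · exact (Category.assoc _ _ _).symm.trans ((congrArg (· ≫ y) e₂).trans ((Category.assoc _ _ _).trans ((congrArg (w₂ ≫ ·) hy₂).trans comp_zero)))
    · exact (Category.assoc _ _ _).symm.trans ((congrArg (· ≫ y) e₃).trans ((Category.assoc _ _ _).trans ((congrArg (w₃ ≫ ·) hy₃).trans comp_zero)))
  exact not_epi_three hn hx₁ hx₂ hx₃ (biprod.desc (biprod.desc g₁ g₂) g₃)

/-- An extension of an epimorphic image of two twists by `O` splits. -/
theorem exists_split_of_epi (hn : 3 ≤ n) {S : ShortComplex (CohB1.ProjSpace n k).Modules} (hS : S.ShortExact)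
    (hE : FlatMod.IsFinLocFreeOfRank 2 S.X₂) (a₁ : S.X₁ ≅ 𝒪) {A B : ℤ} (Φ : O[A] ⊞ O[B] ⟶ S.X₃) [Epi Φ] :
    ∃ a' b' : ℤ, Nonempty (S.X₂ ≅ O[a'] ⊞ O[b']) := by
  haveI : IsIntegral (CohB1.ProjSpace n k) := CurveLib.isIntegral_projSpace (k := k) n
  haveI := isLocallyNoetherian_projSpace (n := n) (k := k)
  obtain ⟨φA, hA⟩ := exists_lift_twist (by omega) hS a₁ (biprod.inl ≫ Φ)
  obtain ⟨φB, hB⟩ := exists_lift_twist (by omega) hS a₁ (biprod.inr ≫ Φ)
  obtain ⟨b0⟩ := nonempty_twist0 (n := n) (A := k)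
  let Ψ : (O[A] ⊞ O[B]) ⊞ O[(0 : ℤ)] ⟶ S.X₂ := biprod.desc (biprod.desc φA φB) ((b0 ≪≫ a₁.symm).hom ≫ S.f)
  haveI : Epi Ψ := Preadditive.epi_of_cancel_zero _ fun {T} y hy => by
    haveI := hS.epi_g
    have h1 : S.f ≫ y = 0 := by
      rw [← cancel_epi (b0 ≪≫ a₁.symm).hom, comp_zero, ← Category.assoc]
      simpa [Ψ] using biprod.inr ≫= hy
    rw [← hS.exact.g_desc y h1]
    have h2 : Φ ≫ hS.exact.desc y h1 = 0 := by
      refine biprod.hom_ext' _ _ ?_ ?_
      · rw [comp_zero, ← Category.assoc, ← hA, Category.assoc, hS.exact.g_desc]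
        simpa [Ψ] using biprod.inl ≫= (biprod.inl ≫= hy)
      · rw [comp_zero, ← Category.assoc, ← hB, Category.assoc, hS.exact.g_desc]
        simpa [Ψ] using biprod.inr ≫= (biprod.inl ≫= hy)
    rw [(cancel_epi Φ).1 (h2.trans comp_zero.symm), comp_zero]
  let T : ShortComplex (CohB1.ProjSpace n k).Modules := ShortComplex.mk (kernel.ι Ψ) Ψ (kernel.condition Ψ)
  have hT : T.ShortExact :=
    { exact := ShortComplex.exact_of_f_is_kernel _ (kernelIsKernel Ψ)
      mono_f := inferInstanceAs (Mono (kernel.ι Ψ))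
      epi_g := inferInstanceAs (Epi Ψ) }
  have hM := rank_biprod (rank_biprod (rank_twist (n := n) (k := k) A) (rank_twist (n := n) (k := k) B))
    (rank_twist (n := n) (k := k) (0 : ℤ))
  have hK : FlatMod.IsFinLocFree (kernel Ψ) :=
    KoszPn17.isFinLocFree_kernel Ψ (LocFreeLib.isFinLocFree_of_rank hM) (LocFreeLib.isFinLocFree_of_rank hE)
  obtain ⟨r, hr⟩ := VB5.exists_rank hK
  obtain rfl : r = 1 := by
    have := VarietyLib.rank_add hT hr hM hE (genericPoint (CohB1.ProjSpace n k))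
    omega
  obtain ⟨l, ⟨eK⟩⟩ := PicPn22.exists_iso_twist n k (kernel Ψ) (KRRPBLib.isInvertible_of_rankOne hr)
  let f : O[l] ⟶ (O[A] ⊞ O[B]) ⊞ O[(0 : ℤ)] := eK.inv ≫ kernel.ι Ψ
  have w : f ≫ Ψ = 0 := by rw [Category.assoc, kernel.condition, comp_zero]
  have hU : (ShortComplex.mk f Ψ w).ShortExact := ShortComplex.shortExact_of_iso
    (ShortComplex.isoMk (S₁ := T) (S₂ := ShortComplex.mk f Ψ w) eK (Iso.refl _) (Iso.refl _) (by simp [T, f])
      (by simp [T])) hT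
  rcases exists_isIso_component hn f Ψ w hU hE with h | h | h
  · let e : (O[A] ⊞ O[B]) ⊞ O[(0 : ℤ)] ≅ O[A] ⊞ (O[B] ⊞ O[(0 : ℤ)]) := biprod.associator _ _ _
    haveI : IsIso (f ≫ e.hom ≫ biprod.fst) := by
      have : f ≫ e.hom ≫ biprod.fst = (f ≫ biprod.fst) ≫ biprod.fst := by simp [e]
      rwa [this]
    obtain ⟨u⟩ := nonempty_iso_of_component hU e
    exact ⟨B, 0, ⟨u.symm⟩⟩
  · let e : (O[A] ⊞ O[B]) ⊞ O[(0 : ℤ)] ≅ O[B] ⊞ (O[A] ⊞ O[(0 : ℤ)]) :=
      biprod.mapIso (biprod.braiding _ _) (Iso.refl _) ≪≫ biprod.associator _ _ _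
    haveI : IsIso (f ≫ e.hom ≫ biprod.fst) := by
      have : f ≫ e.hom ≫ biprod.fst = (f ≫ biprod.fst) ≫ biprod.snd := by simp [e]
      rwa [this]
    obtain ⟨u⟩ := nonempty_iso_of_component hU e
    exact ⟨A, 0, ⟨u.symm⟩⟩
  · let e : (O[A] ⊞ O[B]) ⊞ O[(0 : ℤ)] ≅ O[(0 : ℤ)] ⊞ (O[A] ⊞ O[B]) := biprod.braiding _ _
    haveI : IsIso (f ≫ e.hom ≫ biprod.fst) := by
      have : f ≫ e.hom ≫ biprod.fst = f ≫ biprod.snd := by simp [e]
      rwa [this]
    obtain ⟨u⟩ := nonempty_iso_of_component hU e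
    exact ⟨A, B, ⟨u.symm⟩⟩

/-- Twisting a surjection `O(a') ⊕ O(b') → M(c)` back to `M`. -/
theorem exists_epi_untwist {J : (CohB1.ProjSpace n k).Modules} {a' b' c : ℤ}
    (Q : O[a'] ⊞ O[b'] ⟶ CohB1.tensorMod J O[c]) [Epi Q] :
    ∃ (a b : ℤ) (ψ : O[-a] ⊞ O[-b] ⟶ J), Epi ψ := by
  obtain ⟨tc⟩ := nonempty_tt (n := n) (A := k) (show c + -c = 0 by ring)
  obtain ⟨u⟩ := nonempty_tensor_twist0 J
  let tJ : CohB1.tensorMod (CohB1.tensorMod J O[c]) O[-c] ≅ J :=
    DCat.TensorAssoc.assocIso J O[c] O[-c] ≪≫ AmpleLib.tensorIso (Iso.refl J) tc ≪≫ u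
  obtain ⟨ta⟩ := nonempty_tt (n := n) (A := k) (show a' + -c = -(c - a') by ring)
  obtain ⟨tb⟩ := nonempty_tt (n := n) (A := k) (show b' + -c = -(c - b') by ring)
  let pa := ta.inv ≫ tensorMap (biprod.inl ≫ Q) (𝟙 O[-c]) ≫ tJ.hom
  let pb := tb.inv ≫ tensorMap (biprod.inr ≫ Q) (𝟙 O[-c]) ≫ tJ.hom
  refine ⟨c - a', c - b', biprod.desc pa pb, Preadditive.epi_of_cancel_zero _ fun {T} y hy => ?_⟩
  haveI := EulerLib.epi_tensorMap (Coherent.isInvertible_twistProjSpaceZ n (-c) k) Q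
  rw [← cancel_epi tJ.hom, comp_zero, ← cancel_epi (tensorMap Q (𝟙 O[-c])), comp_zero]
  refine tensorMap_biprod_eq_zero (k := k) O[-c] Q (tJ.hom ≫ y) ?_ ?_
  · rw [← cancel_epi ta.inv, comp_zero]
    simpa [pa] using biprod.inl ≫= hy
  · rw [← cancel_epi tb.inv, comp_zero]
    simpa [pb] using biprod.inr ≫= hy

/-- Twisting a surjection onto `M` up. -/
theorem exists_epi_twist {J : (CohB1.ProjSpace n k).Modules} {a b : ℤ} (c : ℤ) (ψ : O[-a] ⊞ O[-b] ⟶ J) [Epi ψ] :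
    ∃ (A B : ℤ) (Φ : O[A] ⊞ O[B] ⟶ CohB1.tensorMod J O[c]), Epi Φ := by
  obtain ⟨ta⟩ := nonempty_tt (n := n) (A := k) (show -a + c = c - a by ring)
  obtain ⟨tb⟩ := nonempty_tt (n := n) (A := k) (show -b + c = c - b by ring)
  let pa := ta.inv ≫ tensorMap (biprod.inl ≫ ψ) (𝟙 O[c])
  let pb := tb.inv ≫ tensorMap (biprod.inr ≫ ψ) (𝟙 O[c])
  refine ⟨c - a, c - b, biprod.desc pa pb, Preadditive.epi_of_cancel_zero _ fun {T} y hy => ?_⟩
  haveI := EulerLib.epi_tensorMap (Coherent.isInvertible_twistProjSpaceZ n c k) ψ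
  rw [← cancel_epi (tensorMap ψ (𝟙 O[c])), comp_zero]
  refine tensorMap_biprod_eq_zero (k := k) O[c] ψ y ?_ ?_
  · rw [← cancel_epi ta.inv, comp_zero]
    simpa [pa] using biprod.inl ≫= hy
  · rw [← cancel_epi tb.inv, comp_zero]
    simpa [pb] using biprod.inr ≫= hy

end Groth.Agent.EulerPn5
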