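import Groth.Agent.KvbLam28.Basic
import Groth.Agent.ExtPowEx28.Pull
import Groth.Agent.WedgeDual5.Sheaf

/-!
# Exterior powers of an extension by a line bundle
-/

set_option autoImplicit false
set_option linter.style.haveILetI false
set_option linter.unusedSectionVars false
set_option backward.isDefEq.respectTransparency.types false
set_option maxHeartbeats 1000000

universe u

open CategoryTheory CategoryTheory.Limits AlgebraicGeometry Opposite TopologicalSpace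
open Groth.Agent.Coherent Groth.Agent.PicLib Groth.Agent.AmpleLib Groth.Agent.GrassLib.PBundle

namespace Groth.Agent.EulerPn5

variable {X : Scheme.{u}}

/-- Exterior powers above the rank vanish. -/
theorem isZero_of_isExtPow {m i : ℕ} {E L : X.Modules} (hE : FlatMod.IsFinLocFreeOfRank m E)
    (hL : ExtPow.IsExtPow i E L) (hi : m < i) : IsZero L := by
  obtain ⟨φ, -⟩ := hL
  rw [IsZero.iff_id_eq_zero]
  refine InjMod14.Kosz.hom_ext_affine _ _ fun U s => InjMod14.Kosz.sec_ext fun x hx => ?_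
  obtain ⟨A, hxA, ⟨eA⟩⟩ := hE x
  obtain ⟨(V : X.Opens), hV, hxV, hle⟩ := Opens.isBasis_iff_nbhd.mp X.isBasis_affineOpens
    (show x ∈ A ⊓ U.1 from ⟨hxA, hx⟩)
  refine ⟨V, hle.trans inf_le_right, hxV, ?_⟩
  obtain ⟨b⟩ := Props12.exists_basis_sections eA (hle.trans inf_le_left)
  let b' : Module.Basis (Fin m) Γ(X, V) (E.val.obj (op V)) := b
  haveI : Subsingleton ↥(⋀[Γ(X, V)]^i (E.val.obj (op V))) := by
    have h := b'.exteriorPower i
    haveI : IsEmpty (Set.powersetCard (Fin m) i) := ⟨fun ⟨s, hs⟩ => by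
      have h2 := s.card_le_univ
      rw [Fintype.card_fin] at h2
      have : s.card = i := hs
      omega⟩
    exact h.repr.injective.subsingleton
  haveI : Subsingleton Γ(L, V) := (φ ⟨V, hV⟩).injective.subsingleton
  exact Subsingleton.elim _ _

variable {S : ShortComplex X.Modules} (hS : S.ShortExact)

include hS in
/-- `0 → ⋀^(p+1) E' → ⋀^(p+1) E → ⋀^p E' ⊗ Q → 0` for `0 → E' → E → Q → 0` with `Q` a line bundle. -/
theorem exists_wedge_seq (h₁ : FlatMod.IsFinLocFree S.X₁) (h₃ : FlatMod.IsFinLocFreeOfRank 1 S.X₃) (p : ℕ)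
    {A B C : X.Modules} (hA : ExtPow.IsExtPow (p + 1) S.X₁ A) (hB : ExtPow.IsExtPow (p + 1) S.X₂ B)
    (hC : ExtPow.IsExtPow p S.X₁ C) :
    ∃ (f : A ⟶ B) (g : B ⟶ CohB1.tensorMod C S.X₃) (w : f ≫ g = 0), (ShortComplex.mk f g w).ShortExact := by
  classical
  have h3 := LocFreeLib.isFinLocFree_of_rank h₃
  have h2 := ExtFilt28.isFinLocFree_extension hS h₁ h3
  choose L' hL'f hL' using fun i => ExtPowEx28.exists_isExtPow h₁ i
  choose L hLf hL using fun i => ExtPowEx28.exists_isExtPow h2 i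
  choose L'' hL''f hL'' using fun i => ExtPowEx28.exists_isExtPow h3 i
  choose φ' c' using hL'
  choose φ c using hL
  choose φ'' c'' using hL''
  haveI : ∀ i, Coh.IsQCoh (L' i) := fun i => CAlgH3.LocFreeFactor.isQCoh_of_finLocFree (hL'f i)
  haveI : ∀ i, Coh.IsQCoh (L i) := fun i => CAlgH3.LocFreeFactor.isQCoh_of_finLocFree (hLf i)
  haveI : ∀ i, Coh.IsQCoh (L'' i) := fun i => CAlgH3.LocFreeFactor.isQCoh_of_finLocFree (hL''f i)
  have hhigh : ∀ i j, 2 ≤ j → IsZero (CohB1.tensorMod (L' i) (L'' j)) := fun i j hj =>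
    ((DCoh.tensorBi (X := X)).obj (L' i)).map_isZero (isZero_of_isExtPow h₃ ⟨φ'' j, c'' j⟩ (by omega))
  have hall : ∀ j i (h : i + (j + 1) = p + 1), Nonempty (ExtFilt28.Fil φ' φ c' c (show p + 1 = p + 1 from rfl) ≅
      ExtFilt28.Fil φ' φ c' c h) := by
    intro j
    induction j with
    | zero =>
      intro i h
      obtain rfl : i = p := by omega
      exact ⟨Iso.refl _⟩
    | succ j ih =>
      intro i h
      obtain ⟨e⟩ := ih (i + 1) (by omega)
      obtain ⟨w, hw⟩ := ExtFilt28.exists_step hS h₁ h3 φ' φ φ'' c' c c'' h (show i + 1 + (j + 1) = p + 1 by omega)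
      haveI := hw.mono_f
      haveI : Epi (ExtFilt28.incl hS h₁ h3 φ' φ c' c h (show i + 1 + (j + 1) = p + 1 by omega)) :=
        hw.exact.epi_f ((hhigh i (j + 1 + 1) (by omega)).eq_of_tgt _ _)
      exact ⟨e ≪≫ @asIso _ _ _ _ (ExtFilt28.incl hS h₁ h3 φ' φ c' c h (show i + 1 + (j + 1) = p + 1 by omega))
        (isIso_of_mono_of_epi _)⟩
  obtain ⟨etop⟩ := hall p 0 (zero_add _)
  haveI hepi : Epi (ExtFilt28.muH φ' φ c' c (zero_add (p + 1))) := epi_of_locally_surjective _ fun W a y hy => by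
    obtain ⟨V, hyV, hVW, -⟩ := ExtFilt28.exists_good hS h₁ h3 W y hy
    obtain ⟨b, hb⟩ := ExtFilt28.muSec_zero_surjective φ' φ (V := V) (resM _ hVW a)
    exact ⟨V.1, hVW, hyV, b, (ExtFilt28.muH_app φ' φ c' c (zero_add (p + 1)) V b).trans hb⟩
  haveI : IsIso (Abelian.image.ι (ExtFilt28.muH φ' φ c' c (zero_add (p + 1)))) := by
    haveI : Epi (Abelian.image.ι (ExtFilt28.muH φ' φ c' c (zero_add (p + 1)))) :=
      epi_of_epi_fac (Abelian.image.fac (ExtFilt28.muH φ' φ c' c (zero_add (p + 1))))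
    exact isIso_of_mono_of_epi _
  let e0 := ExtFilt28.isIso_toQ_zero hS h₁ h3 φ' φ φ'' c' c c'' (show p + 1 + 0 = p + 1 from rfl)
  obtain ⟨w, hw⟩ := ExtFilt28.exists_step hS h₁ h3 φ' φ φ'' c' c c'' (show p + (0 + 1) = p + 1 from rfl)
    (show p + 1 + 0 = p + 1 from rfl)
  obtain ⟨eA⟩ := KvbLam28.exists_iso_of_isExtPow hA ⟨φ' (p + 1), c' (p + 1)⟩
  obtain ⟨eB⟩ := KvbLam28.exists_iso_of_isExtPow hB ⟨φ (p + 1), c (p + 1)⟩
  obtain ⟨eC⟩ := KvbLam28.exists_iso_of_isExtPow hC ⟨φ' p, c' p⟩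
  obtain ⟨eQ⟩ := KvbLam28.exists_iso_of_isExtPow (KvbLam28.isExtPow_one S.X₃) ⟨φ'' 1, c'' 1⟩
  obtain ⟨e00⟩ := KvbLam28.exists_iso_of_isExtPow (KvbLam28.isExtPow_zero S.X₃) ⟨φ'' 0, c'' 0⟩
  let i₁ : A ≅ ExtFilt28.Fil φ' φ c' c (show p + 1 + 0 = p + 1 from rfl) :=
    eA ≪≫ (unitTensorIso (L' (p + 1))).symm ≪≫ AmpleLib.tensorComm _ _ ≪≫
      AmpleLib.tensorIso (Iso.refl _) e00 ≪≫ (@asIso _ _ _ _ _ e0).symm
  let i₂ : B ≅ ExtFilt28.Fil φ' φ c' c (show p + (0 + 1) = p + 1 from rfl) :=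
    eB ≪≫ (asIso (Abelian.image.ι (ExtFilt28.muH φ' φ c' c (zero_add (p + 1))))).symm ≪≫ etop.symm
  let i₃ : CohB1.tensorMod C S.X₃ ≅ CohB1.tensorMod (L' p) (L'' (0 + 1)) := AmpleLib.tensorIso eC eQ
  let T := ShortComplex.mk (ExtFilt28.incl hS h₁ h3 φ' φ c' c (show p + (0 + 1) = p + 1 from rfl)
    (show p + 1 + 0 = p + 1 from rfl)) (ExtFilt28.toQ hS h₁ h3 φ' φ φ'' c' c c'' (show p + (0 + 1) = p + 1 from rfl)) w
  have hT : T.ShortExact := hw
  refine ⟨i₁.hom ≫ T.f ≫ i₂.inv, i₂.hom ≫ T.g ≫ i₃.inv, by simp [T, reassoc_of% w], ?_⟩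
  exact ShortComplex.shortExact_of_iso (ShortComplex.isoMk (S₁ := T) i₁.symm i₂.symm i₃.symm (by simp [T]) (by simp [T])) hT

end Groth.Agent.EulerPn5
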