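import Groth.Agent.EulerPn5.TangentHyp
import Groth.Agent.Omega15.Compat
import Groth.Agent.Omega15.ConormalDiffExist
import Groth.Agent.Omega15.ConormalSmooth
import Groth.Agent.OmegaLib.DOmega
import Groth.Agent.S5976
import Groth.Agent.S5020
import Groth.Agent.Hyper5.Smooth
import Groth.Agent.Lef23.NegPn
import Groth.Agent.DimLib.ProjDim

/-!
# `H^2` of the tangent sheaf of a smooth surface in `P^3`
-/

set_option autoImplicit false
set_option linter.style.haveILetI false
set_option linter.unusedSectionVars false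
set_option backward.isDefEq.respectTransparency.types false
set_option maxHeartbeats 1000000

universe u

open CategoryTheory CategoryTheory.Limits AlgebraicGeometry Opposite TopologicalSpace
open Groth.Agent Groth.Agent.Coherent Groth.Agent.PicLib Groth.Agent.AmpleLib Groth.Agent.InjMod14.Kosz
open Groth.Agent.EulerLib Groth.Agent.CAlgH3.ModCohSeq Groth.Agent.ModStalk Groth.Agent.OmegaLib
open Groth.Agent.CycLib28.PB.Ops

namespace Groth.Agent.EulerPn5

variable {k : Type u} [Field k]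

/-- The conormal sequence of a smooth closed subscheme. -/
theorem exists_conormal_seq {X Z S : Scheme.{u}} (ι : Z ⟶ X) [IsImmersion ι] [QuasiCompact ι] (f : X ⟶ S) [QuasiSeparated f]
    [Smooth (ι ≫ f)] :
    ∃ (φ : Omega.conormal ι ⟶ (Scheme.Modules.pullback ι).obj (Omega.sheaf f))
      (c : (Scheme.Modules.pullback ι).obj (Omega.sheaf f) ⟶ Omega.sheaf (ι ≫ f)) (w : φ ≫ c = 0),
      (ShortComplex.mk φ c w).ShortExact := by
  obtain ⟨φ, hφ⟩ := Omega15.exists_conormalDiff ι (OmegaSh.dOmega f)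
  obtain ⟨c, hc, -⟩ := Omega15.existsUnique_compat (f' := ι ≫ f) ι (𝟙 S) (Category.comp_id _)
    (OmegaLib.isUniversal_dOmega f) (OmegaSh.dOmega (ι ≫ f))
  obtain ⟨hepi, him⟩ := S5976.result f ι _ _ (OmegaLib.isUniversal_dOmega f) _ _
    (OmegaLib.isUniversal_dOmega (ι ≫ f)) φ hφ c hc
  haveI := S5020.result ι f (Omega15.isFormallySmoothHom_of_smooth (ι ≫ f)) _ _
    (OmegaLib.isUniversal_dOmega f) φ hφ
  have w : φ ≫ c = 0 := by
    rw [← imageSubobject_arrow_comp φ, Category.assoc]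
    rw [← Subobject.ofLE_arrow (le_of_eq him), Category.assoc, kernelSubobject_arrow_comp, comp_zero, comp_zero]
  exact ⟨φ, c, w, { exact := (ShortComplex.exact_iff_image_eq_kernel _).2 him }⟩

/-- Reassociation of a twist. -/
theorem nonempty_retwist {X : Scheme.{u}} {L A B B' C : X.Modules} (e : B ≅ B') (a : CohB1.tensorMod A B' ≅ C) :
    Nonempty (CohB1.tensorMod (CohB1.tensorMod L A) B ≅ CohB1.tensorMod L C) :=
  ⟨AmpleLib.tensorIso (Iso.refl _) e ≪≫ DCat.TensorAssoc.assocIso L A B' ≪≫ AmpleLib.tensorIso (Iso.refl L) a⟩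

variable {n : ℕ}

local notation "P" => CohB1.ProjSpace n k
local notation "Ω₀" => Omega.sheaf (CohB1.ProjSpace.toSpec n k)

/-- `H^2(T_Z) ≠ 0` for a smooth surface `Z` of degree at least six. -/
theorem not_V_tangent (hn : n = 3) {d : ℕ} (hd : 6 ≤ d) (F : LefPen.Form n k d) (hF : F ≠ 0)
    [Smooth ((LefPen.hypIdeal F).subschemeι ≫ CohB1.ProjSpace.toSpec n k)] :
    ¬ V (dual (Omega.sheaf ((LefPen.hypIdeal F).subschemeι ≫ CohB1.ProjSpace.toSpec n k))) 2 := by
  intro hT
  haveI : IsProper ((CohB1.ProjSpace n k) ↘ Spec (CommRingCat.of k)) := Coherent.isProper_projSpace_toSpec n k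
  haveI : IsProper (CohB1.ProjSpace.toSpec n k) := Coherent.isProper_projSpace_toSpec n k
  haveI : DCoh.HasSheafHom Ω₀ := ⟨⟨_, ⟨tensorHomAdj Ω₀⟩⟩⟩
  let J := LefPen.hypIdeal F
  let ι := J.subschemeι
  obtain ⟨φ, c, w, hS⟩ := exists_conormal_seq ι (CohB1.ProjSpace.toSpec n k)
  have hJ : PicF.IsInvertible (ClSub.idealMod J) :=
    FlatMor12.IdealModGen.isInvertible_idealMod J (CI14.isEffCartier_hyp F hF)
  obtain ⟨eJ⟩ := LefPen24.nonempty_idealMod_iso F hF
  have hker : ι.ker = J := Scheme.IdealSheafData.ker_subschemeι J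
  haveI := MorProj.isQCoh_idealMod ι.ker
  haveI : Coh.IsQCoh (Omega.conormal ι) := EGA43.InjFibre.isQCoh_pullback ι _
  have hdim : topologicalKrullDim ↥J.subscheme ≤ (n : WithBot ℕ∞) :=
    le_of_le_of_eq ι.isClosedEmbedding.isInducing.topologicalKrullDim_le
      (DimLib.PN.topologicalKrullDim_projSpace n k)
  have hΩZ : FlatMod.IsFinLocFree (Omega.sheaf (ι ≫ CohB1.ProjSpace.toSpec n k)) :=
    Hyper5.isFinLocFree_omega _ n hdim
  have hd' := Lef23.shortExact_dual' hS hΩZ
  -- the middle term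
  obtain ⟨L, hLf, hL⟩ := exists_omegaPow (n := n) (A := k) (n - 1)
  obtain ⟨eT⟩ := nonempty_tangent_iso (p := n - 1) (by omega) hL
  let M := CohB1.tensorMod L (Twist.twistProjSpace n k ((n : ℤ) + 1))
  have hM : FlatMod.IsFinLocFree M := ExtFilt28.isFinLocFree_tensor hLf (isFinLocFree_twist _)
  have hmid : ¬ V (dual ((Scheme.Modules.pullback ι).obj Ω₀)) 2 := by
    intro h
    obtain ⟨e₁⟩ := nonempty_pullback_dual ι (isFinLocFree_omega (n := n) (A := k))
    have i₂ : dual Ω₀ ≅ M :=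
      ((sheafHomIso Ω₀).app (Coh.structureModule P)).symm ≪≫ eT
    have h1 : V ((Scheme.Modules.pullback J.subschemeι).obj M) 2 :=
      V_of_iso (e₁.symm ≪≫ (Scheme.Modules.pullback ι).mapIso i₂) h
    have h2 := (V_restrict_iff J hJ hM 2 (V_pos (by omega) (n + 1) (n - 1) (by omega) hL 2 two_pos)
      (V_pos (by omega) (n + 1) (n - 1) (by omega) hL 3 three_pos)).1 h1
    obtain ⟨a⟩ := nonempty_tt (n := n) (A := k) (show (n : ℤ) + 1 + -(d : ℤ) = (n : ℤ) + 1 - d by ring)
    have h3 : V (CohB1.tensorMod L (Twist.twistProjSpace n k ((n : ℤ) + 1 - d))) 3 :=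
      V_of_iso (nonempty_retwist (L := L) eJ a).some h2
    obtain ⟨m, hm⟩ : ∃ m : ℕ, m = d - (n + 1) := ⟨_, rfl⟩
    obtain ⟨L₁, -, hL₁⟩ := exists_omegaPow (n := n) (A := k) (n - (n - 1))
    have hs := S10931.result k n (n - 1) 3 (by omega) (by omega) L L₁ hL hL₁ ((n : ℤ) + 1 - d)
    rw [show n - 3 = 0 by omega, show -((n : ℤ) + 1 - d) = ((m : ℕ) : ℤ) by omega,
      finrank_zero (n - (n - 1)) m (by omega) (by omega) hL₁] at hs
    haveI : Subsingleton (Coh.HH P (CohB1.tensorMod L (Twist.twistProjSpace n k ((n : ℤ) + 1 - d))) 3) := h3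
    rw [Module.finrank_zero_of_subsingleton] at hs
    rcases Nat.mul_eq_zero.1 hs.symm with h | h
    · exact (Nat.choose_pos (by omega)).ne' h
    · exact (Nat.choose_pos (by omega)).ne' h
  -- the last term
  obtain ⟨eN⟩ : Nonempty (dual (Omega.conormal ι) ≅
      (Scheme.Modules.pullback ι).obj (Twist.twistProjSpace n k (d : ℤ))) := by
    obtain ⟨a⟩ := nonempty_tt (n := n) (A := k) (show -(d : ℤ) + d = 0 by ring)
    have hi : PicF.IsInvertible (Twist.twistProjSpace n k (-(d : ℤ))) :=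
      Coherent.isInvertible_twistProjSpaceZ n _ k
    obtain ⟨a0⟩ := nonempty_twist0 (n := n) (A := k)
    obtain ⟨e₀⟩ := Lef23.nonempty_dual_invertible hi (Coherent.isInvertible_twistProjSpaceZ n _ k) (a ≪≫ a0)
    obtain ⟨e₁⟩ := nonempty_pullback_dual ι (SerreDual.isFinLocFree_of_invertible hi)
    have ec : Omega.conormal ι ≅ (Scheme.Modules.pullback ι).obj (Twist.twistProjSpace n k (-(d : ℤ))) :=
      (Scheme.Modules.pullback ι).mapIso (eqToIso (congrArg ClSub.idealMod hker) ≪≫ eJ)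
    obtain ⟨e₂⟩ := nonempty_dual_congr ec
    exact ⟨e₂.symm ≪≫ e₁.symm ≪≫ (Scheme.Modules.pullback ι).mapIso e₀⟩
  have hNd : FlatMod.IsFinLocFree (Twist.twistProjSpace n k (d : ℤ)) := isFinLocFree_twist _
  have hN : V ((Scheme.Modules.pullback J.subschemeι).obj (Twist.twistProjSpace n k (d : ℤ))) 2 := by
    refine (V_restrict_iff J hJ hNd 2 (V_twist (by omega) (by omega)) (V_twist (by omega) (by omega))).2 ?_
    obtain ⟨a⟩ := nonempty_tt (n := n) (A := k) (show (d : ℤ) + -(d : ℤ) = 0 by ring)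
    exact V_of_iso (AmpleLib.tensorIso (Iso.refl _) eJ ≪≫ a).symm (V_twist (by omega) (by omega))
  exact hmid (V_mid hd' hT (V_of_iso eN.symm hN))

end Groth.Agent.EulerPn5
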