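import Groth.Agent.EulerPn5.TangoAlg
import Groth.Agent.EulerPn5.GenSection
import Groth.Agent.EulerPn5.Rank2
import Groth.Agent.EulerPn5.SplitCI
import Groth.Agent.SerreDual.Mul
import Groth.Agent.TwistLib.TwistGen

/-!
# A simple bundle of rank `n - 1` on projective space
-/

set_option autoImplicit false
set_option linter.style.haveILetI false
set_option linter.unusedSectionVars false
set_option backward.isDefEq.respectTransparency.types false
set_option maxHeartbeats 1000000

universe u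

open CategoryTheory CategoryTheory.Limits CategoryTheory.Abelian AlgebraicGeometry TopologicalSpace Opposite
open Groth.Agent.Coherent

namespace Groth.Agent.EulerPn5.Tango

section general

variable {X : Scheme.{u}}

theorem exact_sections {M E : X.Modules} (φ : M ⟶ E) [Mono φ] {U : X.Opens} (a : Γ(E, U))
    (ha : (cokernel.π φ).app U a = 0) : ∃ b, φ.app U b = a := by
  obtain ⟨w, hw⟩ := kernel_sections_exact (cokernel.π φ) a ha
  refine ⟨(Abelian.monoLift φ (kernel.ι (cokernel.π φ)) (kernel.condition _)).app U w, ?_⟩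
  rw [← hw]
  exact ConcreteCategory.congr_hom (congrArg (fun χ => Scheme.Modules.Hom.app χ U)
    (Abelian.monoLift_comp φ (kernel.ι (cokernel.π φ)) (kernel.condition _))) w

theorem mono_of_sections {M E : X.Modules} [Coh.IsQCoh M] [Coh.IsQCoh E] (φ : M ⟶ E)
    (cover : ∀ x : X, ∃ U : X.Opens, IsAffineOpen U ∧ x ∈ U ∧ Function.Injective (φ.app U)) : Mono φ := by
  choose U hU hxU hinj using cover
  haveI : Coh.IsQCoh (kernel φ) := isQCoh_kernel φ
  refine Preadditive.mono_of_isZero_kernel φ (EulerLib.isZero_of_sections_cover inferInstance U hU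
    (fun x => ⟨x, hxU x⟩) fun x => ⟨fun a b => app_injective_of_mono (kernel.ι φ) (U x) (hinj x ?_)⟩)
  rw [kernel_ι_app_zero, kernel_ι_app_zero]

set_option backward.isDefEq.respectTransparency false in
theorem isFinLocFree_of_sections (M : X.Modules) [Coh.IsQCoh M] (cover : ∀ x : X, ∃ U : X.Opens,
    IsAffineOpen U ∧ x ∈ U ∧ Module.Finite Γ(X, U) Γ(M, U) ∧ Module.Projective Γ(X, U) Γ(M, U)) :
    FlatMod.IsFinLocFree M := by
  choose U hU hxU hfin hproj using cover
  have hfp : CohB1.IsFP M := EGA43.FPKernel.isFP_of_forall_exists_affine _ fun x =>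
    ⟨U x, hU x, hxU x, by haveI := hfin x; haveI := hproj x; exact Module.finitePresentation_of_projective _ _⟩
  refine Props12.isFinLocFree_of_isFP_of_free_stalks _ hfp fun x => ?_
  haveI := hfin x
  haveI := hproj x
  haveI : Module.Flat (X.presheaf.stalk x) (M.presheaf.stalk x) :=
    Props12.flat_stalk_of_flat_sections _ (hU x) (hxU x)
  haveI : Module.Finite (X.presheaf.stalk x) (M.presheaf.stalk x) :=
    haveI := hfp
    Props12.finite_stalk_of_isFT _ (inferInstanceAs (SheafOfModules.IsFiniteType.{u} (R := X.ringCatSheaf) M)) x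
  exact Module.free_of_flat_of_isLocalRing

theorem rank_of_sections (M : X.Modules) [Coh.IsQCoh M] {m : ℕ} (cover : ∀ x : X, ∃ U : X.Opens,
    IsAffineOpen U ∧ x ∈ U ∧ Nonempty ((Fin m → Γ(X, U)) ≃ₗ[Γ(X, U)] Γ(M, U))) :
    FlatMod.IsFinLocFreeOfRank m M := fun x => by
  obtain ⟨U, hU, hxU, ⟨e⟩⟩ := cover x
  haveI : IsAffine U.toScheme := hU
  obtain ⟨b⟩ := Props12.exists_basis_restrict_top M U ((Pi.basisFun Γ(X, U) (Fin m)).map e)
  haveI : Coh.IsQCoh (M.restrict U.ι) := H8Coh.isQCoh_restrictOpen U M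
  exact ⟨U, hxU, Props12.exists_iso_freeMod_of_basis (M.restrict U.ι) b⟩

/-- Cokernels of weakly split maps between bundles are bundles. -/
theorem projective_cokernel {M E : X.Modules} [Coh.IsQCoh M] [Coh.IsQCoh E] (φ : M ⟶ E) [Mono φ] {U : X.Opens}
    (hU : IsAffineOpen U) [Module.Finite Γ(X, U) Γ(E, U)] [Module.Projective Γ(X, U) Γ(E, U)]
    (ρ : Γ(E, U) →ₗ[Γ(X, U)] Γ(M, U)) (hρ : ∀ z, φ.app U (ρ (φ.app U z)) = φ.app U z) :
    Module.Finite Γ(X, U) Γ(cokernel φ, U) ∧ Module.Projective Γ(X, U) Γ(cokernel φ, U) := by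
  haveI : Coh.IsQCoh (cokernel φ) := isQCoh_cokernel φ
  refine projective_of_weak (appLin φ U) (appLin (cokernel.π φ) U) (H8Lim.app_surjective_of_epi _ hU)
    (fun a => ⟨fun ha => exact_sections φ a ha, ?_⟩) ρ hρ
  rintro ⟨b, rfl⟩
  exact ConcreteCategory.congr_hom (congrArg (fun χ => Scheme.Modules.Hom.app χ U) (cokernel.condition φ)) b

variable {L : X.Modules} {U : X.Opens} {ε : Γ(L, U)} {ι : Type} [Fintype ι]

/-- Sections of a sum of copies of a module with a generator. -/
noncomputable def secMap (ε : Γ(L, U)) : (ι → Γ(X, U)) →ₗ[Γ(X, U)] Γ(⨁ fun _ : ι => L, U) :=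
  Fintype.linearCombination _ fun a => (biproduct.ι (fun _ : ι => L) a).app U ε

theorem π_secMap (c : ι → Γ(X, U)) (b : ι) :
    (biproduct.π (fun _ : ι => L) b).app U (secMap ε c) = c b • ε := by
  classical
  rw [secMap, Fintype.linearCombination_apply, map_sum, Finset.sum_eq_single b]
  · rw [Scheme.Modules.Hom.app_smul]
    exact congrArg (c b • ·) (ConcreteCategory.congr_hom (congrArg (fun χ => Scheme.Modules.Hom.app χ U)
      (biproduct.ι_π_self (fun _ : ι => L) b)) ε)
  · intro a _ hab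
    rw [Scheme.Modules.Hom.app_smul]
    refine Eq.trans (congrArg (c a • ·) (ConcreteCategory.congr_hom (congrArg (fun χ => Scheme.Modules.Hom.app χ U)
      (biproduct.ι_π_ne (fun _ : ι => L) hab)) ε)) ?_
    show c a • (0 : Γ(L, U)) = 0
    exact smul_zero _
  · simp

theorem sec_ext' {z z' : Γ(⨁ fun _ : ι => L, U)}
    (h : ∀ b, (biproduct.π (fun _ : ι => L) b).app U z = (biproduct.π (fun _ : ι => L) b).app U z') : z = z' := by
  classical
  have key : ∀ w : Γ(⨁ fun _ : ι => L, U),
      w = ∑ b, (biproduct.ι (fun _ : ι => L) b).app U ((biproduct.π (fun _ : ι => L) b).app U w) := fun w => by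
    refine (congrArg (fun χ : (⨁ fun _ : ι => L) ⟶ _ => χ.app U w) (biproduct.total (f := fun _ : ι => L))).symm.trans ?_
    rw [Coherent.app_sum]
    rfl
  rw [key z, key z']
  simp only [h]

theorem secMap_bijective (hε : Function.Bijective fun g : Γ(X, U) => g • ε) :
    Function.Bijective (secMap (ι := ι) ε) := by
  refine ⟨fun c c' h => funext fun b => hε.1 ?_, fun z => ?_⟩
  · show c b • ε = c' b • ε
    rw [← π_secMap, ← π_secMap, h]
  · choose c hc using fun b => hε.2 ((biproduct.π (fun _ : ι => L) b).app U z)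
    exact ⟨c, sec_ext' fun b => (π_secMap c b).trans (hc b)⟩

end general

section Pn

variable {n : ℕ} {k : Type u} [Field k]

local notation "ℙ" => CohB1.ProjSpace n k
local notation "O[" d "]" => Twist.twistProjSpace n k d
local notation "T[" j "]" => EmbLib24.coordFun n k j
local notation "D[" j "]" => EmbLib24.chart n k j

theorem exists_frame (d : ℤ) (j : Fin (n + 1)) :
    ∃ ε : Twist.sectN (𝒜 := CohB1.polyGrading n k) d (op D[j]),
      Function.Bijective (fun g : Γ(ℙ, D[j]) => g • (show Γ(O[d], D[j]) from ε)) ∧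
      ∀ x : D[j], (ε.1 x).1 = Localization.mk ((MvPolynomial.X j : MvPolynomial (Fin (n + 1)) k) ^ d.toNat)
        ⟨(MvPolynomial.X j : MvPolynomial (Fin (n + 1)) k) ^ (-d).toNat, TwistLib.pow_notMem x.2 _⟩ := by
  have hX : (MvPolynomial.X j : MvPolynomial (Fin (n + 1)) k) ∈ CohB1.polyGrading n k 1 :=
    MvPolynomial.isHomogeneous_X k j
  let ε : Twist.sectN (𝒜 := CohB1.polyGrading n k) d (op D[j]) :=
    Coherent.fracSec d D[j] ⟨_, TwistLib.pow_mem_deg hX d.toNat⟩ ⟨_, TwistLib.pow_mem_deg hX (-d).toNat⟩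
      (fun x => TwistLib.pow_notMem x.2 _) (by omega)
  refine ⟨ε, ?_, fun x => rfl⟩
  have key : ∀ e : ℤ, e = d → ∀ (τ : Twist.sectN (𝒜 := CohB1.polyGrading n k) e (op D[j])),
      (∀ x, (τ.1 x).1 = (ε.1 x).1) → Function.Bijective (fun g : Twist.O (op D[j]) => Coherent.oSmul g τ) →
      Function.Bijective (fun g : Γ(ℙ, D[j]) => g • (show Γ(O[d], D[j]) from ε)) := by
    rintro e rfl τ hτ hb
    obtain rfl : τ = ε := Coherent.sectN_ext hτ
    exact hb
  exact key (d * ((1 : ℕ) : ℤ)) (by simp) (TwistLib.tau hX d _ le_rfl) (fun x => rfl)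
    (TwistLib.smul_tau_bijective hX d _ le_rfl)

/-- The frame of `O(d)` on a chart. -/
noncomputable def frame (d : ℤ) (j : Fin (n + 1)) : Γ(O[d], D[j]) := (exists_frame (k := k) d j).choose

/-- Multiplication by a coordinate. -/
noncomputable def chi {d e : ℤ} (h : d + 1 = e) (b : Fin (n + 1)) : O[d] ⟶ O[e] :=
  SerreDual.mulHom (𝒜 := CohB1.polyGrading n k) (m := 1) ⟨MvPolynomial.X b, MvPolynomial.isHomogeneous_X k b⟩
    (by simpa using h)

theorem chi_frame {d e : ℤ} (h : d + 1 = e) (b j : Fin (n + 1)) :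
    (chi (k := k) h b).app D[j] (frame d j) = T[j] b • frame e j := by
  refine Coherent.sectN_ext (d := e) fun x => ?_
  refine (SerreDual.mulHom_app_val _ _ _ _ x).trans ?_
  refine Eq.trans ?_ (Twist.coe_smul_val e x.1 _ _).symm
  refine ((congrArg (Localization.mk _ 1 * ·) ((exists_frame (k := k) d j).choose_spec.2 x)).trans ?_).trans
    (congrArg₂ (· * ·) (Coherent.val_awayToSection_mk (MvPolynomial.isHomogeneous_X k j) 1 (MvPolynomial.X b) _ x)
      ((exists_frame (k := k) e j).choose_spec.2 x)).symm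
  rw [Localization.mk_mul, Localization.mk_mul]
  refine Localization.mk_eq_mk_iff.2 (Localization.r_iff_exists.2 ⟨1, ?_⟩)
  simp only [Submonoid.coe_mul, Submonoid.coe_one, one_mul, pow_one]
  have hexp : 1 + (-e).toNat + d.toNat = (-d).toNat + e.toNat := by omega
  calc (MvPolynomial.X j : MvPolynomial (Fin (n + 1)) k) * MvPolynomial.X j ^ (-e).toNat *
        (MvPolynomial.X b * MvPolynomial.X j ^ d.toNat)
      = MvPolynomial.X b * MvPolynomial.X j ^ (1 + (-e).toNat + d.toNat) := by ring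
    _ = MvPolynomial.X j ^ (-d).toNat * (MvPolynomial.X b * MvPolynomial.X j ^ e.toNat) := by rw [hexp]; ring

theorem chi_comm {d e f : ℤ} (h : d + 1 = e) (h' : e + 1 = f) (a b : Fin (n + 1)) :
    chi (k := k) h a ≫ chi h' b = chi h b ≫ chi h' a :=
  Scheme.Modules.hom_ext _ _ fun U => ConcreteCategory.hom_ext _ _ fun s =>
    Coherent.sectN_ext (d := f) fun x => mul_left_comm _ _ _

theorem smul_app {M N : (CohB1.ProjSpace n k).Modules} (c : k) (f : M ⟶ N) (U : (CohB1.ProjSpace n k).Opens)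
    (z : Γ(M, U)) : (c • f).app U z = EmbLib24.gl (CohB1.ProjSpace.toSpec n k) U c • f.app U z := by
  rw [KLin.smul_def]
  exact Scheme.Modules.Hom.app_smul f (EmbLib24.gl (CohB1.ProjSpace.toSpec n k) U c) z

theorem eq_zero_of_sum_coord (c : Fin (n + 1) → k) (j : Fin (n + 1))
    (h : ∑ b, EmbLib24.gl (CohB1.ProjSpace.toSpec n k) D[j] (c b) * T[j] b = 0) : c = 0 := by
  classical
  let g : MvPolynomial (Fin (n + 1)) k := ∑ b, MvPolynomial.C (c b) * MvPolynomial.X b
  have hg : g.IsHomogeneous 1 := MvPolynomial.IsHomogeneous.sum _ _ _ fun b _ =>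
    (MvPolynomial.isHomogeneous_X k b).C_mul _
  let G : LefPen.Form n k 1 := ⟨g, hg⟩
  have h0 : LefPen.dehom G j = 0 := by
    rw [LefPen24.dehom_eq_eval₂]
    refine Eq.trans ?_ h
    simp only [G, g, MvPolynomial.eval₂_sum, MvPolynomial.eval₂_mul, MvPolynomial.eval₂_C, MvPolynomial.eval₂_X]
  haveI : IsIso (Proj.awayToSection (CohB1.polyGrading n k) (MvPolynomial.X j)) := by
    rw [← Proj.basicOpenIsoAway_hom (CohB1.polyGrading n k) (MvPolynomial.X j)
      (MvPolynomial.isHomogeneous_X k j) one_pos]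
    infer_instance
  have h1 := (ConcreteCategory.bijective_of_isIso (Proj.awayToSection (CohB1.polyGrading n k) (MvPolynomial.X j))).1
    (h0.trans (map_zero _).symm)
  have h2 := congrArg HomogeneousLocalization.val h1
  rw [HomogeneousLocalization.Away.val_mk, HomogeneousLocalization.val_zero] at h2
  have h3 : g = 0 := by
    rw [Localization.mk_eq_mk', IsLocalization.mk'_eq_zero_iff] at h2
    obtain ⟨⟨m, hm⟩, hmg⟩ := h2
    obtain ⟨i, rfl⟩ := hm
    exact (mul_eq_zero.1 hmg).resolve_left (pow_ne_zero _ (MvPolynomial.X_ne_zero j))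
  funext b
  have h4 := congrArg (MvPolynomial.eval fun l => if l = b then 1 else 0) h3
  simpa [g] using h4

theorem chi_indep {d e : ℤ} (h : d + 1 = e) (c : Fin (n + 1) → k) (h0 : ∑ b, c b • chi (k := k) h b = 0) : c = 0 := by
  refine eq_zero_of_sum_coord c 0 ((exists_frame (k := k) e 0).choose_spec.1.1 ?_)
  show _ • frame e 0 = (0 : Γ(ℙ, D[(0 : Fin (n + 1))])) • frame e 0
  rw [zero_smul, Finset.sum_smul]
  have h1 := congrArg (fun χ : O[d] ⟶ O[e] => χ.app D[(0 : Fin (n + 1))] (frame d 0)) h0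
  refine Eq.trans ?_ h1
  rw [Coherent.app_sum]
  refine Finset.sum_congr rfl fun b _ => ?_
  rw [smul_app, chi_frame, mul_smul]

/-- Endomorphisms of twists are scalars. -/
theorem end_scalar [IsAlgClosed k] {a : ℤ} (g : O[a] ⟶ O[a]) : ∃ t : k, g = t • 𝟙 _ := by
  haveI : IsProper ((CohB1.ProjSpace n k) ↘ Spec (CommRingCat.of k)) := Coherent.isProper_projSpace_toSpec n k
  haveI := EulerLib.isNoetherian_of_proper k (X := CohB1.ProjSpace n k)
  have hc := SplitP1.isCoh_of_rank (rank_twist (n := n) (k := k) a)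
  haveI : Module.Finite k (O[a] ⟶ O[a]) := TF7.finite_hom_coh k hc hc
  rcases subsingleton_or_nontrivial (O[a] ⟶ O[a]) with hs | hs
  · exact ⟨0, Subsingleton.elim _ _⟩
  obtain ⟨t, ht⟩ := Module.End.exists_eigenvalue (Linear.rightComp k O[a] g : (O[a] ⟶ O[a]) →ₗ[k] (O[a] ⟶ O[a]))
  obtain ⟨v, hv⟩ := ht.exists_hasEigenvector
  refine ⟨t, ?_⟩
  by_contra hne
  haveI := isIso_endo_twist (g - t • 𝟙 _) (sub_ne_zero.2 hne)
  refine hv.2 ((cancel_mono (g - t • 𝟙 O[a])).1 ?_)
  have h1 : v ≫ g = t • v := hv.apply_eq_smul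
  rw [zero_comp, Preadditive.comp_sub, Linear.comp_smul, Category.comp_id, h1, sub_self]

/-- Maps from twists lift along an epimorphism when `H¹` of the twisted kernel vanishes. -/
theorem exists_lift {S : ShortComplex (CohB1.ProjSpace n k).Modules} (hS : S.ShortExact) {x : ℤ}
    (h : CAlgH3.ModCohSeq.V (CohB1.tensorMod S.X₁ O[-x]) 1) (f : O[x] ⟶ S.X₃) :
    ∃ φ : O[x] ⟶ S.X₂, φ ≫ S.g = f := by
  haveI : IsGrothendieckAbelian.{u} (CohB1.ProjSpace n k).Modules := DCat.schemeModules_isGrothendieckAbelian _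
  haveI : HasExt.{u} (CohB1.ProjSpace n k).Modules := IsGrothendieckAbelian.hasExt _
  haveI : IsProper ((CohB1.ProjSpace n k) ↘ Spec (CommRingCat.of k)) := Coherent.isProper_projSpace_toSpec n k
  haveI := EulerLib.isNoetherian_of_proper k (X := CohB1.ProjSpace n k)
  obtain ⟨d⟩ := nonempty_dual_twist (n := n) (k := k) x
  obtain ⟨w⟩ := SerreDual.nonempty_internalHom_eq_tensor (isFinLocFree_twist (n := n) (A := k) x) S.X₁
  haveI : Subsingleton (Coh.HH (CohB1.ProjSpace n k) (internalHom O[x] S.X₁) 1) :=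
    CAlgH3.ModCohSeq.V_of_iso (w ≪≫ AmpleLib.tensorIso d (Iso.refl _) ≪≫ AmpleLib.tensorComm _ _).symm h
  haveI : Subsingleton (Ext O[x] S.X₁ 1) :=
    (SerreDual.extLocFreeEquiv k (isFinLocFree_twist x) S.X₁ 1).toEquiv.subsingleton
  obtain ⟨z, hz⟩ := Ext.covariant_sequence_exact₃ O[x] hS (Ext.mk₀ f) (zero_add 1) (Subsingleton.elim _ _)
  obtain ⟨φ, rfl⟩ := (Ext.mk₀_bijective _ _).2 z
  rw [Ext.mk₀_comp_mk₀] at hz
  exact ⟨φ, (Ext.mk₀_bijective _ _).1 hz⟩

variable (n k)

/-- `O(-1)^(n+1)`. -/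
noncomputable abbrev src : (CohB1.ProjSpace n k).Modules := ⨁ fun _ : Fin (n + 1) => O[(-1 : ℤ)]

/-- `O^(2n-1)`. -/
noncomputable abbrev tgt : (CohB1.ProjSpace n k).Modules := ⨁ fun _ : Fin (2 * n - 1) => O[(0 : ℤ)]

/-- The tautological vector `O(-2) → O(-1)^(n+1)`. -/
noncomputable def xi : O[(-2 : ℤ)] ⟶ src n k := biproduct.lift fun a => chi (d := -2) (e := -1) (by norm_num) a

/-- The antidiagonal sums as a map `O(-1)^(n+1) → O^(2n-1)`. -/
noncomputable def bmap : src n k ⟶ tgt n k :=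
  biproduct.desc fun a => biproduct.lift fun s => ∑ b, (co a b s : k) • chi (d := -1) (e := 0) (by norm_num) b

theorem ι_bmap_π (a : Fin (n + 1)) (s : Fin (2 * n - 1)) :
    biproduct.ι (fun _ : Fin (n + 1) => O[(-1 : ℤ)]) a ≫ bmap n k ≫ biproduct.π _ s =
      ∑ b, (co a b s : k) • chi (d := -1) (e := 0) (by norm_num) b := by
  rw [bmap, biproduct.ι_desc_assoc, biproduct.lift_π]

theorem xi_app (j : Fin (n + 1)) (f : Γ(ℙ, D[j])) :
    (xi n k).app D[j] (f • frame (-2) j) = secMap (frame (-1) j) (f • T[j]) := by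
  refine sec_ext' fun b => ?_
  rw [π_secMap, Scheme.Modules.Hom.app_smul, Scheme.Modules.Hom.app_smul, Pi.smul_apply, smul_eq_mul, mul_smul]
  refine congrArg (f • ·) ?_
  refine (ConcreteCategory.congr_hom (congrArg (fun χ => Scheme.Modules.Hom.app χ D[j])
    (biproduct.lift_π (fun a => chi (k := k) (d := -2) (e := -1) (by norm_num) a) b)) (frame (-2) j)).trans ?_
  exact chi_frame _ b j

theorem bmap_app (j : Fin (n + 1)) (c : Fin (n + 1) → Γ(ℙ, D[j])) :
    (bmap n k).app D[j] (secMap (frame (-1) j) c) = secMap (frame 0 j) (beta T[j] c) := by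
  refine sec_ext' fun s => ?_
  rw [π_secMap, secMap, Fintype.linearCombination_apply, map_sum, map_sum]
  refine Eq.trans ?_ (Finset.sum_smul (s := Finset.univ)
    (f := fun a => c a * ∑ b, (co a b s : Γ(ℙ, D[j])) * T[j] b) (x := frame 0 j)).symm
  refine Finset.sum_congr rfl fun a _ => ?_
  rw [Scheme.Modules.Hom.app_smul, Scheme.Modules.Hom.app_smul, mul_smul]
  refine congrArg (c a • ·) ?_
  refine (ConcreteCategory.congr_hom (congrArg (fun χ => Scheme.Modules.Hom.app χ D[j])
    (ι_bmap_π n k a s)) (frame (-1) j)).trans ?_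
  rw [Coherent.app_sum, Finset.sum_smul]
  refine Finset.sum_congr rfl fun b _ => ?_
  rw [smul_app, chi_frame, map_intCast, mul_smul]

theorem xi_bmap [CharZero k] : xi n k ≫ bmap n k = 0 := by
  refine biproduct.hom_ext _ _ fun s => ?_
  rw [zero_comp, xi, bmap, biproduct.lift_desc, Preadditive.sum_comp]
  simp only [Category.assoc, biproduct.lift_π, Preadditive.comp_sum, Linear.comp_smul]
  set Φ := fun a b : Fin (n + 1) => (co a b s : k) •
    (chi (k := k) (d := -2) (e := -1) (by norm_num) a ≫ chi (d := -1) (e := 0) (by norm_num) b)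
  have hanti : ∀ a b, Φ b a = -Φ a b := fun a b => by
    simp only [Φ]
    rw [chi_comm (k := k) (d := -2) (e := -1) (f := 0) (by norm_num) (by norm_num) b a, ← neg_smul]
    congr 1
    rw [← Int.cast_neg]
    congr 1
    simp only [co, Nat.add_comm (b : ℕ) (a : ℕ)]
    rcases lt_trichotomy a b with h | h | h
    · simp [h, h.not_gt]; split_ifs <;> norm_num
    · subst h; simp
    · simp [h, h.not_gt]; split_ifs <;> norm_num
  have hz : ∑ a, ∑ b, Φ a b = -∑ a, ∑ b, Φ a b := by
    conv_lhs => rw [Finset.sum_comm]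
    rw [← Finset.sum_neg_distrib]
    refine Finset.sum_congr rfl fun a _ => ?_
    rw [← Finset.sum_neg_distrib]
    exact Finset.sum_congr rfl fun b _ => hanti a b
  have h2 : (2 : k) • ∑ a, ∑ b, Φ a b = 0 := by
    rw [two_smul]
    nth_rewrite 1 [hz]
    exact neg_add_cancel _
  exact (smul_eq_zero.1 h2).resolve_left two_ne_zero

variable [IsAlgClosed k] [CharZero k]

/-- Tango's bundle: a simple bundle of rank `n - 1`. -/
theorem exists_simple (hn : 2 ≤ n) :
    ∃ F : (CohB1.ProjSpace n k).Modules, FlatMod.IsFinLocFreeOfRank (n - 1) F ∧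
      ∀ φ : F ⟶ F, ∃ c : k, φ = c • 𝟙 F := by
  classical
  haveI : IsLocallyNoetherian ℙ := isLocallyNoetherian_projSpace
  haveI : IsIntegral ℙ := CurveLib.isIntegral_projSpace (k := k) n
  haveI hq2 := LocFreeLib.isQCoh_of_isFinLocFreeOfRank (rank_twist (n := n) (k := k) (-2))
  haveI : Coh.IsQCoh (src n k) := Coherent.isQCoh_biproduct _ fun _ =>
    LocFreeLib.isQCoh_of_isFinLocFreeOfRank (rank_twist (n := n) (k := k) (-1))
  haveI : Coh.IsQCoh (tgt n k) := Coherent.isQCoh_biproduct _ fun _ =>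
    LocFreeLib.isQCoh_of_isFinLocFreeOfRank (rank_twist (n := n) (k := k) 0)
  have hU : ∀ j : Fin (n + 1), IsAffineOpen D[j] := fun j => EmbLib24.isAffineOpen_chart n k j
  let es : ∀ j : Fin (n + 1), (Fin (n + 1) → Γ(ℙ, D[j])) ≃ₗ[Γ(ℙ, D[j])] Γ(src n k, D[j]) := fun j =>
    LinearEquiv.ofBijective (secMap (frame (-1) j)) (secMap_bijective (exists_frame (k := k) (-1) j).choose_spec.1)
  let et : ∀ j : Fin (n + 1), (Fin (2 * n - 1) → Γ(ℙ, D[j])) ≃ₗ[Γ(ℙ, D[j])] Γ(tgt n k, D[j]) := fun j =>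
    LinearEquiv.ofBijective (secMap (frame 0 j)) (secMap_bijective (exists_frame (k := k) 0 j).choose_spec.1)
  have hcov : ∀ x : ℙ, ∃ j, x ∈ D[j] := EmbLib24.exists_chart_mem (n := n) (k := k)
  have hrs : FlatMod.IsFinLocFreeOfRank (n + 1) (src n k) := rank_of_sections _ fun x =>
    (hcov x).elim fun j hj => ⟨D[j], hU j, hj, ⟨es j⟩⟩
  have hrt : FlatMod.IsFinLocFreeOfRank (2 * n - 1) (tgt n k) := rank_of_sections _ fun x =>
    (hcov x).elim fun j hj => ⟨D[j], hU j, hj, ⟨et j⟩⟩
  -- the tautological vector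
  have hxs : ∀ (j : Fin (n + 1)) (z : Γ(O[(-2 : ℤ)], D[j])), ∃ f : Γ(ℙ, D[j]), f • frame (-2) j = z :=
    fun j z => (exists_frame (k := k) (-2) j).choose_spec.1.2 z
  haveI : Mono (xi n k) := mono_of_sections _ fun x => (hcov x).elim fun j hj => ⟨D[j], hU j, hj, fun z z' h => by
    obtain ⟨f, rfl⟩ := hxs j z
    obtain ⟨f', rfl⟩ := hxs j z'
    rw [xi_app, xi_app] at h
    have := congrFun ((es j).injective h) j
    simp only [Pi.smul_apply, EmbLib24.coordFun_self, smul_eq_mul, mul_one] at this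
    rw [this]⟩
  let K := cokernel (xi n k)
  let q : src n k ⟶ K := cokernel.π (xi n k)
  haveI : Coh.IsQCoh K := isQCoh_cokernel _
  have hKfree : FlatMod.IsFinLocFree K := isFinLocFree_of_sections _ fun x => (hcov x).elim fun j hj => by
    obtain ⟨h1, h2⟩ := GenSection.module_data hrs (hU j)
    refine ⟨D[j], hU j, hj, projective_cokernel (xi n k) (hU j)
      (((LinearMap.proj j).comp (es j).symm.toLinearMap).smulRight (frame (-2) j)) fun z => ?_⟩
    obtain ⟨f, rfl⟩ := hxs j z
    refine congrArg ((xi n k).app D[j]) ?_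
    show ((es j).symm ((xi n k).app D[j] (f • frame (-2) j))) j • frame (-2) j = _
    rw [xi_app, show (es j).symm (secMap (frame (-1) j) (f • T[j])) = f • T[j] from (es j).symm_apply_apply _]
    simp [EmbLib24.coordFun_self]
  have hSK : (ShortComplex.mk (xi n k) q (cokernel.condition _)).ShortExact :=
    { exact := ShortComplex.exact_cokernel _ }
  obtain ⟨rK, hrK⟩ := VB5.exists_rank hKfree
  have hrK' : n + 1 = 1 + rK := VarietyLib.rank_add hSK (rank_twist _) hrs hrK (genericPoint ℙ)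
  -- the map to the trivial bundle
  let γ : K ⟶ tgt n k := cokernel.desc (xi n k) (bmap n k) (xi_bmap n k)
  have hqγ : q ≫ γ = bmap n k := cokernel.π_desc _ _ _
  have hgam : ∀ (j : Fin (n + 1)) (c : Fin (n + 1) → Γ(ℙ, D[j])),
      γ.app D[j] (q.app D[j] (es j c)) = et j (beta T[j] c) := fun j c =>
    (ConcreteCategory.congr_hom (congrArg (fun χ => Scheme.Modules.Hom.app χ D[j]) hqγ) _).trans (bmap_app n k j c)
  have hqsurj : ∀ (j : Fin (n + 1)) (z : Γ(K, D[j])), ∃ c, q.app D[j] (es j c) = z := fun j z => by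
    obtain ⟨w, hw⟩ := H8Lim.app_surjective_of_epi q (hU j) z
    exact ⟨(es j).symm w, by rw [(es j).apply_symm_apply]; exact hw⟩
  have hqt : ∀ (j : Fin (n + 1)) (f : Γ(ℙ, D[j])), q.app D[j] (es j (f • T[j])) = 0 := fun j f => by
    show q.app D[j] (secMap (frame (-1) j) (f • T[j])) = 0
    rw [← xi_app]
    exact ConcreteCategory.congr_hom (congrArg (fun χ => Scheme.Modules.Hom.app χ D[j])
      (cokernel.condition (xi n k))) _
  choose ρ hρ using fun j : Fin (n + 1) => exists_retract_beta T[j] j (EmbLib24.coordFun_self j)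
  haveI : Mono γ := mono_of_sections _ fun x => (hcov x).elim fun j hj => ⟨D[j], hU j, hj,
    (injective_iff_map_eq_zero _).2 fun z hz => by
      obtain ⟨c, rfl⟩ := hqsurj j z
      rw [hgam] at hz
      have h0 : beta T[j] c = 0 := (et j).injective (hz.trans (map_zero _).symm)
      have h1 := hρ j c
      rw [h0, map_zero] at h1
      rw [← sub_add_cancel c (c j • T[j]), ← h1, zero_add, hqt]⟩
  let F := cokernel γ
  let p : tgt n k ⟶ F := cokernel.π γ
  haveI : Coh.IsQCoh F := isQCoh_cokernel _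
  have hFfree : FlatMod.IsFinLocFree F := isFinLocFree_of_sections _ fun x => (hcov x).elim fun j hj => by
    obtain ⟨h1, h2⟩ := GenSection.module_data hrt (hU j)
    refine ⟨D[j], hU j, hj, projective_cokernel γ (hU j)
      ((appLin q D[j]).comp ((es j).toLinearMap.comp ((ρ j).comp (et j).symm.toLinearMap))) fun z => ?_⟩
    obtain ⟨c, rfl⟩ := hqsurj j z
    refine congrArg (γ.app D[j]) ?_
    show q.app D[j] (es j (ρ j ((et j).symm (γ.app D[j] (q.app D[j] (es j c)))))) = _
    rw [hgam, (et j).symm_apply_apply, hρ, map_sub, map_sub, hqt, sub_zero]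
  have hSF : (ShortComplex.mk γ p (cokernel.condition _)).ShortExact :=
    { exact := ShortComplex.exact_cokernel _ }
  obtain ⟨rF, hrF⟩ := VB5.exists_rank hFfree
  have hrF' : 2 * n - 1 = rK + rF := VarietyLib.rank_add hSF hrK hrt hrF (genericPoint ℙ)
  obtain rfl : rF = n - 1 := by omega
  refine ⟨F, hrF, fun φ => ?_⟩
  -- simplicity
  have hV : CAlgH3.ModCohSeq.V K 1 := CAlgH3.ModCohSeq.V_right hSK
    (CAlgH3.PSheafPres.V_biproduct 1 fun _ => V_twist (by omega) (by omega)) (V_twist (by omega) (by omega))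
  have hV0 : CAlgH3.ModCohSeq.V (CohB1.tensorMod K O[-(0 : ℤ)]) 1 := by
    obtain ⟨e⟩ := nonempty_tensor_twist0 (n := n) (A := k) K
    rw [neg_zero]
    exact CAlgH3.ModCohSeq.V_of_iso e.symm hV
  choose Aσ hAσ using fun s => exists_lift hSF (x := 0) hV0
    (biproduct.ι (fun _ : Fin (2 * n - 1) => O[(0 : ℤ)]) s ≫ p ≫ φ)
  let Amap : tgt n k ⟶ tgt n k := biproduct.desc Aσ
  have hA : Amap ≫ p = p ≫ φ := biproduct.hom_ext' _ _ fun s => by
    rw [biproduct.ι_desc_assoc]
    exact hAσ s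
  have hA' : (γ ≫ Amap) ≫ cokernel.π γ = 0 := by
    rw [Category.assoc, show Amap ≫ cokernel.π γ = p ≫ φ from hA, cokernel.condition_assoc, zero_comp]
  let X' : K ⟶ K := Abelian.monoLift γ (γ ≫ Amap) hA'
  have hX' : X' ≫ γ = γ ≫ Amap := Abelian.monoLift_comp _ _ _
  have hV1 : CAlgH3.ModCohSeq.V (CohB1.tensorMod O[(-2 : ℤ)] O[-(-1 : ℤ)]) 1 := by
    obtain ⟨t⟩ := nonempty_tt (n := n) (A := k) (show (-2 : ℤ) + -(-1) = -1 by norm_num)
    exact CAlgH3.ModCohSeq.V_of_iso t.symm (V_twist (by omega) (by omega))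
  choose Xσ hXσ using fun a => exists_lift hSK (x := -1) hV1
    (biproduct.ι (fun _ : Fin (n + 1) => O[(-1 : ℤ)]) a ≫ q ≫ X')
  let Xmap : src n k ⟶ src n k := biproduct.desc Xσ
  have hX : Xmap ≫ q = q ≫ X' := biproduct.hom_ext' _ _ fun a => by
    rw [biproduct.ι_desc_assoc]
    exact hXσ a
  choose x hx using fun a b => end_scalar (n := n) (k := k) (Xσ a ≫ biproduct.π _ b)
  choose y hy using fun s s' => end_scalar (n := n) (k := k) (Aσ s ≫ biproduct.π _ s')
  have hξX : (xi n k ≫ Xmap) ≫ cokernel.π (xi n k) = 0 := by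
    rw [Category.assoc, show Xmap ≫ cokernel.π (xi n k) = q ≫ X' from hX, cokernel.condition_assoc, zero_comp]
  obtain ⟨c, hc⟩ := end_scalar (n := n) (k := k) (Abelian.monoLift (xi n k) _ hξX)
  have hcξ : xi n k ≫ Xmap = c • xi n k := by
    rw [← Abelian.monoLift_comp (xi n k) _ hξX, hc, Linear.smul_comp, Category.id_comp]
  have hxval : ∀ a b, x a b = if a = b then c else 0 := fun a b => by
    have h1 := congrArg (· ≫ biproduct.π (fun _ : Fin (n + 1) => O[(-1 : ℤ)]) b) hcξ
    simp only [xi, Xmap, biproduct.lift_desc, Preadditive.sum_comp, Category.assoc, hx, Linear.comp_smul,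
      Category.comp_id, Linear.smul_comp, biproduct.lift_π] at h1
    have h2 := chi_indep (k := k) (d := -2) (e := -1) (by norm_num) (fun a => x a b - if a = b then c else 0) (by
      simp only [sub_smul, Finset.sum_sub_distrib, ite_smul, zero_smul, Finset.sum_ite_eq', Finset.mem_univ, if_true]
      rw [h1, sub_self])
    exact sub_eq_zero.1 (congrFun h2 a)
  have hXc : Xmap = c • 𝟙 _ := biproduct.hom_ext' _ _ fun a => biproduct.hom_ext _ _ fun b => by
    rw [biproduct.ι_desc, hx, hxval, Linear.comp_smul, Category.comp_id, Linear.smul_comp]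
    by_cases h : a = b
    · subst h; rw [if_pos rfl, biproduct.ι_π_self]
    · rw [if_neg h, biproduct.ι_π_ne _ h, zero_smul, smul_zero]
  have hbA : bmap n k ≫ Amap = c • bmap n k := by
    rw [← hqγ, Category.assoc, ← hX', ← Category.assoc, ← hX, hXc, Linear.smul_comp, Category.id_comp,
      Linear.smul_comp]
  have hyval : ∀ s s', y s s' = if s = s' then c else 0 := fun s s' => by
    have hD := eq_zero_of_pairing (n := n) (fun s => y s s' - if s = s' then c else 0) fun a b => by
      have h1 := congrArg (fun χ => biproduct.ι (fun _ : Fin (n + 1) => O[(-1 : ℤ)]) a ≫ χ ≫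
        biproduct.π (fun _ : Fin (2 * n - 1) => O[(0 : ℤ)]) s') hbA
      simp only [Category.assoc, Linear.smul_comp, Linear.comp_smul, bmap, Amap, biproduct.ι_desc_assoc,
        biproduct.lift_π] at h1
      rw [← Category.assoc (biproduct.lift _), biproduct.lift_desc, Preadditive.sum_comp] at h1
      simp only [Category.assoc, hy, Linear.comp_smul, Category.comp_id, Finset.smul_sum, smul_smul] at h1
      rw [Finset.sum_comm] at h1
      simp only [← Finset.sum_smul] at h1
      have h2 := chi_indep (k := k) (d := -1) (e := 0) (by norm_num)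
        (fun b => ∑ s, y s s' * (co a b s : k) - c * (co a b s' : k)) (by
          simp only [sub_smul, Finset.sum_sub_distrib]
          rw [h1, sub_self])
      refine Eq.trans ?_ (congrFun h2 b)
      simp only [mul_sub, Finset.sum_sub_distrib, mul_ite, mul_zero, Finset.sum_ite_eq', Finset.mem_univ, if_true]
      rw [mul_comm c]
      exact congrArg (· - _) (Finset.sum_congr rfl fun s _ => mul_comm _ _)
    exact sub_eq_zero.1 (congrFun hD s)
  have hAc : Amap = c • 𝟙 _ := biproduct.hom_ext' _ _ fun s => biproduct.hom_ext _ _ fun s' => by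
    rw [biproduct.ι_desc, hy, hyval, Linear.comp_smul, Category.comp_id, Linear.smul_comp]
    by_cases h : s = s'
    · subst h; rw [if_pos rfl, biproduct.ι_π_self]
    · rw [if_neg h, biproduct.ι_π_ne _ h, zero_smul, smul_zero]
  refine ⟨c, (cancel_epi p).1 ?_⟩
  rw [← hA, hAc, Linear.smul_comp, Category.id_comp, Linear.comp_smul, Category.comp_id]

end Pn

end Groth.Agent.EulerPn5.Tango
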