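import Groth.Agent.EulerPn5.GenSectionAlg

/-!
# The linear algebra of Tango's bundle

Two vectors `x, v` of length `n + 1` are sent to the `2n - 1` sums of their Plücker coordinates along the
antidiagonals; this vanishes only if `x ∧ v = 0`.
-/

set_option autoImplicit false
set_option linter.style.haveILetI false

universe u

namespace Groth.Agent.EulerPn5.Tango

variable {n : ℕ}

/-- The coefficient of `e_a ∧ e_b` in the `s`-th antidiagonal. -/
def co (a b : Fin (n + 1)) (s : Fin (2 * n - 1)) : ℤ :=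
  if (a : ℕ) + b = s + 1 then (if a < b then 1 else if b < a then -1 else 0) else 0

variable {A : Type*} [CommRing A]

/-- Antidiagonal sums of `c ∧ t`, linear in `c`. -/
def beta (t : Fin (n + 1) → A) : (Fin (n + 1) → A) →ₗ[A] (Fin (2 * n - 1) → A) where
  toFun c s := ∑ a, c a * ∑ b, (co a b s : A) * t b
  map_add' c c' := funext fun s => by
    simp only [Pi.add_apply, add_mul, Finset.sum_add_distrib]
  map_smul' r c := funext fun s => by
    simp only [Pi.smul_apply, smul_eq_mul, RingHom.id_apply, Finset.mul_sum, mul_assoc]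

theorem beta_apply (t c : Fin (n + 1) → A) (s : Fin (2 * n - 1)) :
    beta t c s = ∑ a : Fin (n + 1), ∑ b : Fin (n + 1), if a < b ∧ (a : ℕ) + b = s + 1 then c a * t b - c b * t a else 0 := by
  show ∑ a, c a * ∑ b, (co a b s : A) * t b = _
  let P : Fin (n + 1) → Fin (n + 1) → A := fun a b => if a < b ∧ (a : ℕ) + b = s + 1 then c a * t b else 0
  let Q : Fin (n + 1) → Fin (n + 1) → A := fun a b => if b < a ∧ (a : ℕ) + b = s + 1 then c a * t b else 0
  have h : ∀ a b, c a * ((co a b s : A) * t b) = P a b - Q a b := fun a b => by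
    simp only [co, P, Q]
    by_cases he : (a : ℕ) + b = s + 1
    · rcases lt_trichotomy a b with h | h | h
      · simp [he, h, h.not_gt]
      · subst h; simp [he]
      · simp [he, h, h.not_gt]
    · simp [he]
  calc ∑ a, c a * ∑ b, (co a b s : A) * t b = ∑ a, ∑ b, (P a b - Q a b) := by
        simp only [Finset.mul_sum, h]
    _ = ∑ a, ∑ b, P a b - ∑ a, ∑ b, Q a b := by simp only [Finset.sum_sub_distrib]
    _ = ∑ a, ∑ b, P a b - ∑ a, ∑ b, Q b a := by rw [Finset.sum_comm (f := Q)]
    _ = ∑ a, ∑ b, (P a b - Q b a) := by simp only [Finset.sum_sub_distrib]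
    _ = _ := Finset.sum_congr rfl fun a _ => Finset.sum_congr rfl fun b _ => by
        simp only [P, Q]
        simp only [Nat.add_comm (b : ℕ) (a : ℕ)]
        split_ifs <;> ring

theorem beta_self (t : Fin (n + 1) → A) : beta t t = 0 := funext fun s => by
  rw [beta_apply, Pi.zero_apply]
  refine Finset.sum_eq_zero fun a _ => Finset.sum_eq_zero fun b _ => ?_
  split_ifs <;> ring

/-- No nonzero decomposable vector has vanishing antidiagonal sums. -/
theorem eq_zero_of_beta_eq_zero {K : Type*} [Field K] (t c : Fin (n + 1) → K) (j : Fin (n + 1)) (ht : t j = 1)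
    (hc : c j = 0) (h : beta t c = 0) : c = 0 := by
  classical
  let p : Fin (n + 1) → Fin (n + 1) → K := fun a b => c a * t b - c b * t a
  suffices hp : ∀ a b, p a b = 0 by
    funext a
    have := hp a j
    simpa [p, ht, hc] using this
  by_contra hne
  push_neg at hne
  let S : Finset (Fin (n + 1)) := Finset.univ.filter fun a => ∃ b, p a b ≠ 0
  obtain ⟨a₁, b₁, hab⟩ := hne
  have hS : S.Nonempty := ⟨a₁, by simpa [S] using ⟨b₁, hab⟩⟩
  let a₀ := S.min' hS
  obtain ⟨b₂, hb₂⟩ : ∃ b, p a₀ b ≠ 0 := by simpa [S] using S.min'_mem hS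
  let T : Finset (Fin (n + 1)) := Finset.univ.filter fun b => p a₀ b ≠ 0
  have hT : T.Nonempty := ⟨b₂, by simpa [T] using hb₂⟩
  let b₀ := T.min' hT
  have hb₀ : p a₀ b₀ ≠ 0 := by simpa [T] using T.min'_mem hT
  have hminA : ∀ a b, p a b ≠ 0 → a₀ ≤ a := fun a b hab => S.min'_le a (by simpa [S] using ⟨b, hab⟩)
  have hminB : ∀ b, p a₀ b ≠ 0 → b₀ ≤ b := fun b hb => T.min'_le b (by simpa [T] using hb)
  have hlt : a₀ < b₀ := by
    have h1 : a₀ ≤ b₀ := hminA b₀ a₀ fun h0 => hb₀ (by
      have : p a₀ b₀ = -p b₀ a₀ := by simp only [p]; ring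
      rw [this, h0, neg_zero])
    refine lt_of_le_of_ne h1 fun he => hb₀ ?_
    rw [← he]
    simp only [p]; ring
  have hbn := b₀.isLt
  have hlt' : (a₀ : ℕ) < b₀ := hlt
  let s : Fin (2 * n - 1) := ⟨(a₀ : ℕ) + b₀ - 1, by omega⟩
  have hsum := congrFun h s
  rw [beta_apply, Pi.zero_apply, Finset.sum_eq_single a₀, Finset.sum_eq_single b₀] at hsum
  · rw [if_pos ⟨hlt, by simp only [s]; omega⟩] at hsum
    exact hb₀ hsum
  · intro b _ hb
    refine if_neg fun hh => hb (Fin.ext ?_)
    have := hh.2
    simp only [s] at this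
    omega
  · simp
  · intro a _ ha
    refine Finset.sum_eq_zero fun b _ => ?_
    split_ifs with hh
    · by_contra hab
      have h1 : a₀ < a := lt_of_le_of_ne (hminA a b hab) (Ne.symm ha)
      have h2 := hh.2
      have h1' : (a₀ : ℕ) < a := h1
      have h3 : (a : ℕ) < b := hh.1
      simp only [s] at h2
      have h4 : p a₀ b = 0 := by
        by_contra hz
        have : (b₀ : ℕ) ≤ b := hminB b hz
        omega
      have h5 : p a₀ a = 0 := by
        by_contra hz
        have : (b₀ : ℕ) ≤ a := hminB a hz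
        omega
      have h6 : p a₀ b₀ * p a b = p a₀ a * p b₀ b - p a₀ b * p b₀ a := by simp only [p]; ring
      rw [h4, h5, zero_mul, zero_mul, sub_zero] at h6
      exact (mul_ne_zero hb₀ hab) h6
    · rfl
  · simp

/-- Modulo the line spanned by `t` the map `beta t` has a retraction. -/
theorem exists_retract_beta {A : Type*} [CommRing A] (t : Fin (n + 1) → A) (j : Fin (n + 1)) (ht : t j = 1) :
    ∃ ρ : (Fin (2 * n - 1) → A) →ₗ[A] (Fin (n + 1) → A), ∀ c, ρ (beta t c) = c - c j • t := by
  classical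
  let e : (Fin n → A) →ₗ[A] (Fin (n + 1) → A) :=
    { toFun := fun d => j.insertNth 0 d
      map_add' := fun d d' => by
        funext a
        rcases j.eq_self_or_eq_succAbove a with rfl | ⟨i, rfl⟩ <;> simp
      map_smul' := fun r d => by
        funext a
        rcases j.eq_self_or_eq_succAbove a with rfl | ⟨i, rfl⟩ <;> simp }
  obtain ⟨ρ, hρ⟩ := GenSection.exists_retraction ((beta t).comp e) fun I hI d hd => by
    haveI := hI
    letI : Field (A ⧸ I) := Ideal.Quotient.field I
    let q := Ideal.Quotient.mk I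
    have hmem : ∀ s, beta t (e d) s ∈ I := fun s =>
      Submodule.smul_induction_on (p := fun z => z s ∈ I) hd (fun a ha z _ => I.mul_mem_right (z s) ha)
        fun a b ha hb => I.add_mem ha hb
    have hz := eq_zero_of_beta_eq_zero (fun a => q (t a)) (fun a => q (e d a)) j (by simp [ht]) (by simp [e]) (by
      funext s
      have hq : q (beta t (e d) s) = 0 := Ideal.Quotient.eq_zero_iff_mem.2 (hmem s)
      rw [Pi.zero_apply, ← hq]
      show ∑ a, q (e d a) * ∑ b, ((co a b s : ℤ) : A ⧸ I) * q (t b) = q (∑ a, e d a * ∑ b, (co a b s : A) * t b)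
      simp only [map_sum, map_mul, map_intCast])
    intro i
    rw [← Ideal.Quotient.eq_zero_iff_mem]
    simpa [e] using congrFun hz (j.succAbove i)
  refine ⟨e.comp ρ, fun c => ?_⟩
  have hc : c - c j • t = e fun i => (c - c j • t) (j.succAbove i) := by
    funext a
    rcases j.eq_self_or_eq_succAbove a with rfl | ⟨i, rfl⟩ <;> simp [e, ht]
  have hb : beta t c = beta t (c - c j • t) := by rw [map_sub, map_smul, beta_self, smul_zero, sub_zero]
  show e (ρ (beta t c)) = _
  rw [hb, hc]
  exact congrArg e (LinearMap.congr_fun hρ _)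

/-- Every antidiagonal contains a pair of distinct indices. -/
theorem exists_pair (s : Fin (2 * n - 1)) : ∃ a b : Fin (n + 1), a < b ∧ (a : ℕ) + b = s + 1 := by
  have hs := s.isLt
  by_cases h : (s : ℕ) + 1 ≤ n
  · exact ⟨⟨0, by omega⟩, ⟨s + 1, by omega⟩, by rw [Fin.lt_def]; simp, by simp⟩
  · exact ⟨⟨s + 1 - n, by omega⟩, ⟨n, by omega⟩, by rw [Fin.lt_def]; show (s : ℕ) + 1 - n < n; omega,
      by show (s : ℕ) + 1 - n + n = s + 1; omega⟩

/-- A matrix killed by the antidiagonal pairing is zero. -/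
theorem eq_zero_of_pairing {R : Type*} [CommRing R] (D : Fin (2 * n - 1) → R)
    (h : ∀ a b : Fin (n + 1), ∑ s, (co a b s : R) * D s = 0) : D = 0 := funext fun s => by
  obtain ⟨a, b, hab, he⟩ := exists_pair s
  have h1 := h a b
  rw [Finset.sum_eq_single s] at h1
  · simpa [co, he, hab] using h1
  · intro s' _ hs'
    have : ¬ ((a : ℕ) + b = s' + 1) := fun h2 => hs' (Fin.ext (by omega))
    simp [co, this]
  · simp

/-- A weakly split map has projective cokernel. -/
theorem projective_of_weak {A : Type*} [CommRing A] {M M' Q : Type*} [AddCommGroup M] [Module A M]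
    [AddCommGroup M'] [Module A M'] [Module.Projective A M] [AddCommGroup Q] [Module A Q] [Module.Finite A M]
    (φ : M' →ₗ[A] M) (g : M →ₗ[A] Q) (hg : Function.Surjective g) (hex : Function.Exact φ g) (ρ : M →ₗ[A] M')
    (hρ : ∀ z, φ (ρ (φ z)) = φ z) : Module.Finite A Q ∧ Module.Projective A Q := by
  refine ⟨Module.Finite.of_surjective g hg, ?_⟩
  let p : M →ₗ[A] M := LinearMap.id - φ.comp ρ
  have hp : LinearMap.ker g ≤ LinearMap.ker p := fun z hz => by
    obtain ⟨c, rfl⟩ := (hex z).1 (LinearMap.mem_ker.1 hz)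
    simp [p, hρ c]
  let e : (M ⧸ LinearMap.ker g) ≃ₗ[A] Q := g.quotKerEquivOfSurjective hg
  let s : Q →ₗ[A] M := ((LinearMap.ker g).liftQ p hp).comp e.symm.toLinearMap
  refine Module.Projective.of_split s g (LinearMap.ext fun z => ?_)
  obtain ⟨z, rfl⟩ := hg z
  have h1 : e.symm (g z) = Submodule.Quotient.mk z := e.symm_apply_eq.2 rfl
  show g (((LinearMap.ker g).liftQ p hp) (e.symm (g z))) = g z
  rw [h1]
  show g (z - φ (ρ z)) = g z
  rw [map_sub, hex.apply_apply_eq_zero, sub_zero]

end Groth.Agent.EulerPn5.Tango
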