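import Groth.Agent.EulerPn5.Dim
import Groth.Agent.KoszPn17.TwistGen
import Groth.Prelude.Def_Omega3

/-!
# Vector fields on projective space have zeros
-/

set_option autoImplicit false
set_option linter.style.haveILetI false
set_option linter.unusedSectionVars false
set_option backward.isDefEq.respectTransparency.types false
set_option maxHeartbeats 1000000

universe u

open CategoryTheory CategoryTheory.Limits AlgebraicGeometry TopologicalSpace Opposite
open Groth.Agent.Coherent Groth.Agent.EulerLib Groth.Agent.CAlgH3 Groth.Agent.PicLib Groth.Agent.AmpleLib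

namespace Groth.Agent.EulerPn5

/-- A map to `O` whose values generate at every point is an epimorphism. -/
theorem epi_of_exists_unit {X : Scheme.{u}} {M : X.Modules} (ξ : M ⟶ Coh.structureModule X)
    (h : ∀ x : X, ∃ (U : X.Opens) (hx : x ∈ U) (s : Γ(M, U)),
      IsUnit (X.presheaf.germ U x hx (OmegaSh.fnSect X U (ξ.app U s)))) : Epi ξ := by
  refine epi_of_locally_surjective ξ fun W a y hy => ?_
  obtain ⟨U, hyU, s, hs⟩ := h y
  let f : Γ(X, U) := OmegaSh.fnSect X U (ξ.app U s)
  let V : X.Opens := W ⊓ X.basicOpen f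
  have hVW : V ≤ W := inf_le_left
  have hVU : V ≤ U := inf_le_right.trans (X.basicOpen_le f)
  have hunit : IsUnit ((X.presheaf.map (homOfLE hVU).op).hom f) := by
    have h1 := RingedSpace.isUnit_res_basicOpen X.toRingedSpace f
    have h2 := h1.map (X.presheaf.map (homOfLE (show V ≤ X.basicOpen f from inf_le_right)).op).hom
    convert h2 using 1
    exact congr(($(X.presheaf.map_comp (homOfLE (X.basicOpen_le f)).op
      (homOfLE (show V ≤ X.basicOpen f from inf_le_right)).op)).hom f)
  obtain ⟨r, hr⟩ := hunit.exists_left_inv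
  refine ⟨V, hVW, ⟨hy, (Scheme.mem_basicOpen X f y hyU).2 hs⟩,
    (OmegaSh.fnSect X V (resM _ hVW a) * r) • resM M hVU s, ?_⟩
  rw [Scheme.Modules.Hom.app_smul]
  rw [app_resM]
  show (OmegaSh.fnSect X V (resM _ hVW a) * r) * (X.presheaf.map (homOfLE hVU).op).hom f =
    OmegaSh.fnSect X V (resM _ hVW a)
  rw [mul_assoc, hr, mul_one]

variable {k : Type u} [Field k] (m : ℕ)

/-- There is no epimorphism `Ω → O` on projective space. -/
theorem not_epi_omega (g : Omega.sheaf (CohB1.ProjSpace.toSpec m k) ⟶ Coh.structureModule (CohB1.ProjSpace m k))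
    [Epi g] : False := by
  haveI : IsProper ((CohB1.ProjSpace m k) ↘ Spec (CommRingCat.of k)) := Coherent.isProper_projSpace_toSpec m k
  let S : ShortComplex (CohB1.ProjSpace m k).Modules := ShortComplex.mk (kernel.ι g) g (kernel.condition g)
  have hS : S.ShortExact :=
    { exact := ShortComplex.exact_of_f_is_kernel _ (kernelIsKernel g)
      mono_f := inferInstanceAs (Mono (kernel.ι g))
      epi_g := inferInstanceAs (Epi g) }
  have h1 : FlatMod.IsFinLocFreeOfRank 1 (Coh.structureModule (CohB1.ProjSpace m k)) :=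
    PicLib.isFinLocFreeOfRank_one AmpleLib.isInvertible_structureModule
  have hmid := isFinLocFree_omega (n := m) (A := k)
  have hK : FlatMod.IsFinLocFree (kernel g) := KoszPn17.isFinLocFree_kernel g hmid (LocFreeLib.isFinLocFree_of_rank h1)
  choose C hCf hC using fun p => ExtPowEx28.exists_isExtPow hK p
  choose B hBf hB using fun p => ExtPowEx28.exists_isExtPow hmid p
  have hv : ∀ p q, q ≠ p → ModCohSeq.V (B p) q := fun p q h => by
    obtain ⟨t⟩ := nonempty_tensor_twist0 (B p)
    exact ModCohSeq.V_of_iso t (V_zero p (hB p) q h)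
  have key : ∀ p, p ≤ m → ¬ ModCohSeq.V (C p) p := by
    intro p
    induction p with
    | zero =>
      intro _ hz
      obtain ⟨e⟩ := KvbLam28.exists_iso_of_isExtPow (hC 0) (KvbLam28.isExtPow_zero _)
      obtain ⟨b⟩ := nonempty_twist0 (n := m) (A := k)
      haveI : Subsingleton (Coh.HH (CohB1.ProjSpace m k) (Twist.twistProjSpace m k 0) 0) :=
        ModCohSeq.V_of_iso (e ≪≫ b.symm) hz
      have hf := finrank_twist (n := m) (k := k) 0 (Or.inr le_rfl)
      rw [Module.finrank_zero_of_subsingleton] at hf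
      simp at hf
    | succ p ih =>
      intro hp hz
      obtain ⟨f, g', w, hT⟩ := exists_wedge_seq hS hK h1 p (hC (p + 1)) (hB (p + 1)) (hC p)
      exact ih (by omega) (ModCohSeq.V_of_iso (AmpleLib.tensorComm _ _ ≪≫ unitTensorIso _)
        (ModCohSeq.V_right hT (hv (p + 1) p (by omega)) hz))
  obtain ⟨f, g', w, hT⟩ := exists_wedge_seq hS hK h1 m (hC (m + 1)) (hB (m + 1)) (hC m)
  haveI := hT.epi_g
  have hB0 : IsZero (B (m + 1)) := isZero_of_isExtPow rank_omega (hB (m + 1)) (Nat.lt_succ_self m)
  exact key m le_rfl (ModCohSeq.V_of_iso (AmpleLib.tensorComm _ _ ≪≫ unitTensorIso _)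
    (V_of_isZero (IsZero.of_epi_eq_zero g' (hB0.eq_of_src _ _)) m))

end Groth.Agent.EulerPn5
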